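import Cfsg.Agent.H84.SD.Engine
import Cfsg.Agent.Cores.ThirdMain

/-!
# The principal block part of the column at an involution

Elements of `C = C(t)` having `t` as a power have their centralisers in `C`.  By the second and the
third main theorem a character of the principal block of `G` agrees on them with the principal
block part of its restriction to `C`; this part vanishes there for all other characters.
-/

set_option autoImplicit false
set_option linter.style.haveILetI false

namespace Cfsg.Agent.H3.SDOrder

open Subgroup Cfsg Cfsg.Agent.CharBasic Cfsg.Agent.BlockBasic Cfsg.Agent.Cores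
open scoped ComplexConjugate

universe u

variable {G : Type u} [Group G] [Fintype G] {t : G} [Fintype (centralizer ({t} : Set G))]
  {M : Ideal AlgInt}

/-- The restriction to the centraliser. -/
def res (t : G) (χ : IrrCharacter G) : (centralizer ({t} : Set G)) → ℂ := fun k => (χ : G → ℂ) k

omit [Fintype G] [Fintype (centralizer ({t} : Set G))] in
theorem isClassFunction_res (χ : IrrCharacter G) : IsClassFunction (centralizer ({t} : Set G)) (res t χ) := by
  intro g k
  show (χ : G → ℂ) ((k * g * k⁻¹ : (centralizer ({t} : Set G))) : G) = _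
  exact IsIrr.isClassFunction χ.2 (g : G) (k : G)

omit [Fintype (centralizer ({t} : Set G))] in
/-- The two-part of an element with `t` as a power has centraliser inside `C(t)`. -/
theorem centralizer_pPart_le [Fact (Nat.Prime 2)] (ht : orderOf t = 2) {x : (centralizer ({t} : Set G))}
    (hx : t ∈ zpowers (x : G)) :
    centralizer ({((pPart (p := 2) x : (centralizer ({t} : Set G))) : G)} : Set G) ≤ (centralizer ({t} : Set G)) := by
  set z : G := ((pPart (p := 2) x : (centralizer ({t} : Set G))) : G)
  set r : G := ((pReg (p := 2) x : (centralizer ({t} : Set G))) : G)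
  have hxe : z * r = (x : G) := by rw [← Subgroup.coe_mul, pPart_mul_pReg]
  have hc : Commute z r := congrArg Subtype.val (commute_pPart_pReg (p := 2) x).eq
  obtain ⟨i, hi⟩ := mem_zpowers_iff.1 hx
  obtain ⟨a, ha⟩ := exists_orderOf_pPart (p := 2) x
  -- `r` has odd order, so its share of `t` is trivial
  have ht2 : (z ^ i) ^ 2 * (r ^ i) ^ 2 = 1 := by
    rw [← ((hc.zpow_zpow i i)).mul_pow, ← hc.mul_zpow, hxe, hi, ← ht, pow_orderOf_eq_one]
  have hzi : orderOf ((z ^ i) ^ 2) ∣ 2 ^ a := by
    refine orderOf_dvd_of_pow_eq_one ?_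
    rw [← pow_mul, mul_comm, pow_mul, ← zpow_natCast (z ^ i), ← _root_.zpow_mul, mul_comm i,
      _root_.zpow_mul, zpow_natCast, show (z ^ 2 ^ a) = 1 by
        rw [← ha, ← Subgroup.orderOf_coe, pow_orderOf_eq_one], one_zpow, one_pow]
  have hrodd : ¬ 2 ∣ orderOf r := by
    rw [Subgroup.orderOf_coe]; exact not_dvd_orderOf_pReg x
  have hdr : orderOf (r ^ i) ∣ orderOf r := by
    refine orderOf_dvd_of_pow_eq_one ?_
    rw [← zpow_natCast, ← _root_.zpow_mul, mul_comm, _root_.zpow_mul, zpow_natCast,
      pow_orderOf_eq_one, one_zpow]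
  have hri : r ^ i = 1 := by
    rw [← orderOf_eq_one_iff]
    have h1 : orderOf ((r ^ i) ^ 2) ∣ 2 ^ a := by
      rw [eq_inv_of_mul_eq_one_right ht2, orderOf_inv]; exact hzi
    have hco : Nat.Coprime (orderOf (r ^ i)) 2 :=
      Nat.coprime_comm.1 ((Nat.Prime.coprime_iff_not_dvd Nat.prime_two).2
        fun h => hrodd (h.trans hdr))
    rw [hco.orderOf_pow] at h1
    exact (Nat.Coprime.pow_right a hco).eq_one_of_dvd h1
  intro g hg
  have hzg : Commute g z := mem_centralizer_singleton_iff.1 hg
  refine mem_centralizer_singleton_iff.2 ?_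
  rw [← hi, ← hxe, hc.mul_zpow, hri, mul_one]
  exact (hzg.zpow_right i).eq

open scoped Classical in
/-- The part of the restriction of `χ` in a block not inducing the block of `χ` vanishes on the
elements having `t` as a power. -/
theorem part_eq_zero (hM : IsPModular 2 M) (ht : orderOf t = 2) (χ : IrrCharacter G)
    {b : Set (IrrCharacter (centralizer ({t} : Set G)))} (hb : IsPBlock M b)
    (hnot : ¬ IsInducedBlock M (centralizer ({t} : Set G)) b (blockOf M (χ : G → ℂ))) {x : (centralizer ({t} : Set G))}
    (hx : t ∈ zpowers (x : G)) :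
    ∑ ψ : IrrCharacter (centralizer ({t} : Set G)) with ψ ∈ b, classInner (res t χ) (ψ : _ → ℂ) * (ψ : _ → ℂ) x = 0 := by
  haveI : Fact (Nat.Prime 2) := ⟨hM.1⟩
  obtain ⟨a, ha⟩ := exists_orderOf_pPart (p := 2) x
  have hker := memLocalIdeal_omega_resElt_of_not_induced hM (x := t) (e := 1)
    (by rw [ht, pow_one]) rfl hb (isPBlock_blockOf M χ) hnot
  have h := chiLin_block_section_eq_zero hM (x := ((pPart (p := 2) x : (centralizer ({t} : Set G))) : G)) (e := a)
    (by rw [Subgroup.orderOf_coe, ha]) (pPart (p := 2) x) rfl (centralizer_pPart_le ht hx) hb χ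
    hker (commute_pPart_pReg (p := 2) x) (not_dvd_orderOf_pReg x)
  rw [pPart_mul_pReg] at h
  rw [← h, ← show res t χ = fun k : (centralizer ({t} : Set G)) => (χ : G → ℂ) k from rfl,
    ← blockPart_eq_chiLin b (isClassFunction_res (t := t) χ), blockPart, finsum_mem_eq_sum_ite,
    Subsingleton.elim (Fintype.ofFinite (centralizer ({t} : Set G))) ‹Fintype (centralizer ({t} : Set G))›, ← Finset.sum_filter]

open scoped Classical in
/-- On the elements having `t` as a power a principal character is the principal part of its
restriction; that part vanishes for the other characters. -/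
theorem principal_value (hM : IsPModular 2 M) (ht : orderOf t = 2) (χ : IrrCharacter G) {x : (centralizer ({t} : Set G))}
    (hx : t ∈ zpowers (x : G)) :
    ∑ ψ : IrrCharacter (centralizer ({t} : Set G)) with ψ ∈ principalBlock M (centralizer ({t} : Set G)),
        classInner (res t χ) (ψ : _ → ℂ) * (ψ : _ → ℂ) x =
      if χ ∈ principalBlock M G then (χ : G → ℂ) x else 0 := by
  haveI : Fact (Nat.Prime 2) := ⟨hM.1⟩
  split_ifs with hχ
  · conv_rhs => rw [show (χ : G → ℂ) x = res t χ x from rfl,
      classFunction_expansion (isClassFunction_res (t := t) χ)]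
    simp only [Finset.sum_apply, Pi.smul_apply, smul_eq_mul]
    symm
    refine sum_eq_sum_of_block hM (isPBlock_principalBlock M) _ fun b hb hne =>
      part_eq_zero hM ht χ hb (fun h => hne ((third_main hM h).1 ?_)) hx
    exact (isPBlock_eq_blockOf hM (isPBlock_principalBlock M) hχ).symm
  · refine part_eq_zero hM ht χ (isPBlock_principalBlock M) (fun h => hχ ?_) hx
    exact (third_main hM h).2 rfl ▸ self_mem_blockOf hM χ

/-- A special function with all constituents principal only meets principal characters. -/
theorem mem_principal_of_coeff_ne_zero (hM : IsPModular 2 M) (ht : orderOf t = 2)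
    {f : (centralizer ({t} : Set G)) → ℂ} (sf : H84.SD.Special f)
    (hf : ∀ ψ : IrrCharacter (centralizer ({t} : Set G)), ψ ∉ principalBlock M (centralizer ({t} : Set G)) → classInner f (ψ : _ → ℂ) = 0)
    {χ : IrrCharacter G} (hχ : H84.SD.coeff f χ ≠ 0) : χ ∈ principalBlock M G := by
  classical
  by_contra hn
  refine hχ ?_
  -- only the principal part of the restriction matters
  have hrw : H84.SD.coeff f χ =
      classInner f (fun x => ∑ ψ : IrrCharacter (centralizer ({t} : Set G)) with ψ ∈ principalBlock M (centralizer ({t} : Set G)),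
        classInner (res t χ) (ψ : _ → ℂ) * (ψ : _ → ℂ) x) := by
    rw [show (fun x => ∑ ψ : IrrCharacter (centralizer ({t} : Set G)) with ψ ∈ principalBlock M (centralizer ({t} : Set G)),
        classInner (res t χ) (ψ : _ → ℂ) * (ψ : _ → ℂ) x) =
          ∑ ψ : IrrCharacter (centralizer ({t} : Set G)) with ψ ∈ principalBlock M (centralizer ({t} : Set G)),
            classInner (res t χ) (ψ : _ → ℂ) • (ψ : (centralizer ({t} : Set G)) → ℂ) by
      funext x; simp [Finset.sum_apply],
      H84.SD.coeff, show (fun k : (centralizer ({t} : Set G)) => (χ : G → ℂ) k) = res t χ from rfl]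
    conv_lhs => rw [classFunction_expansion (isClassFunction_res (t := t) χ)]
    rw [classInner_sum_right, classInner_sum_right, Finset.sum_filter]
    refine Finset.sum_congr rfl fun ψ _ => ?_
    split_ifs with h
    · rfl
    · rw [classInner_smul_right, hf ψ h, mul_zero]
  rw [hrw, classInner_def]
  refine mul_eq_zero_of_right _ (Finset.sum_eq_zero fun x _ => ?_)
  by_cases hx : f x = 0
  · rw [hx, zero_mul]
  · rw [principal_value hM ht χ (sf x hx), if_neg hn, map_zero, mul_zero]

open scoped Classical in
/-- The value at `t` of a principal character from functions whose combination has the principal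
block part of the column at `t`. -/
theorem value_eq_sum (hM : IsPModular 2 M) (ht : orderOf t = 2) {χ : IrrCharacter G}
    (hχ : χ ∈ principalBlock M G) {ι : Type*} [Fintype ι] (c : ι → ℂ) (f : ι → (centralizer ({t} : Set G)) → ℂ)
    (hcol : ∀ ψ : IrrCharacter (centralizer ({t} : Set G)), ∑ i, c i * classInner (f i) (ψ : _ → ℂ) =
      if ψ ∈ principalBlock M (centralizer ({t} : Set G)) then
        conj ((ψ : (centralizer ({t} : Set G)) → ℂ) ⟨t, mem_centralizer_singleton_iff.2 rfl⟩) else 0) :
    conj ((χ : G → ℂ) t) = ∑ i, c i * H84.SD.coeff (f i) χ := by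
  have h := principal_value hM ht χ (x := ⟨t, mem_centralizer_singleton_iff.2 rfl⟩)
    (mem_zpowers t)
  rw [if_pos hχ] at h
  rw [show (χ : G → ℂ) t = (χ : G → ℂ) ((⟨t, mem_centralizer_singleton_iff.2 rfl⟩ : (centralizer ({t} : Set G))) : G) from rfl,
    ← h, map_sum, Finset.sum_filter]
  have hi : ∀ i, H84.SD.coeff (f i) χ = ∑ ψ : IrrCharacter (centralizer ({t} : Set G)),
      conj (classInner (res t χ) (ψ : _ → ℂ)) * classInner (f i) (ψ : _ → ℂ) := fun i => by
    rw [H84.SD.coeff, show (fun k : (centralizer ({t} : Set G)) => (χ : G → ℂ) k) = res t χ from rfl]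
    conv_lhs => rw [classFunction_expansion (isClassFunction_res (t := t) χ)]
    rw [classInner_sum_right]
    refine Finset.sum_congr rfl fun ψ _ => ?_
    rw [classInner_smul_right]
  simp only [hi, Finset.mul_sum]
  rw [Finset.sum_comm]
  refine Finset.sum_congr rfl fun ψ _ => ?_
  rw [Finset.sum_congr rfl fun i _ => (mul_left_comm (c i) _ _), ← Finset.mul_sum, hcol ψ]
  split_ifs <;> simp

end Cfsg.Agent.H3.SDOrder
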