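import Cfsg.Agent.H3.SDOrder.GLFuns
import Cfsg.Agent.H3.SDOrder.Column
import Cfsg.Agent.CharInduce.Gallagher

/-!
# The functions of the order formula for a centraliser covered by `GL(2, q)`, `q ≡ 3 (mod 4)`
-/

set_option autoImplicit false
set_option linter.unusedSectionVars false
set_option linter.style.haveILetI false

namespace Cfsg.Agent.H3.SDOrder

open Matrix Finset Subgroup Cfsg.Agent.H53
open scoped ComplexConjugate

universe u v

variable {F : Type v} [Field F] [Fintype F] [DecidableEq F]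

local notation "G2" => Matrix.GeneralLinearGroup (Fin 2) F
local notation "M2" => Matrix (Fin 2) (Fin 2) F

theorem exists_scalar_of_central {g : G2} (hg : g ∈ center G2) : ∃ a : Fˣ, scalarGL a = g := by
  rw [mem_center_iff] at hg
  have h1 := hg (upGL 1 1 1)
  have h2 := hg (lineRep (some (0 : F)))
  have a00 := congrArg (fun z : G2 => (z : M2) 0 0) h1
  have a01 := congrArg (fun z : G2 => (z : M2) 0 1) h1
  have b00 := congrArg (fun z : G2 => (z : M2) 0 0) h2
  simp [Linear.mul_two_apply, coe_upGL, coe_lineRep_some] at a00 a01 b00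
  have e10 : (g : M2) 1 0 = 0 := a00
  have e01 : (g : M2) 0 1 = 0 := b00.symm.trans e10
  have e11 : (g : M2) 0 0 = (g : M2) 1 1 := by linear_combination -a01
  exact ⟨_, (upper_scalar e10 e11 e01).symm⟩

theorem scalarHom_injective : Function.Injective (scalarHom : Fˣ →* G2) := fun x y h =>
  Units.ext (by simpa [scalarHom, coe_scalarGL] using congrArg (fun z : G2 => (z : M2) 0 0) h)

variable {H : Type u} [Group H] (π : Matrix.GeneralLinearGroup (Fin 2) F →* H)

/-- Equal images differ by a scalar of odd order. -/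
theorem eq_scalar_of_image_eq (hK : π.ker ≤ center G2) (hKodd : Odd (Nat.card π.ker)) {g g' : G2}
    (h : π g = π g') : ∃ a : Fˣ, Odd (orderOf a) ∧ g' = g * scalarGL a := by
  have hk : g⁻¹ * g' ∈ π.ker := by rw [MonoidHom.mem_ker, map_mul, map_inv, h, inv_mul_cancel]
  obtain ⟨a, ha⟩ := exists_scalar_of_central (hK hk)
  refine ⟨a, hKodd.of_dvd_nat ?_, by rw [ha, mul_inv_cancel_left]⟩
  rw [← orderOf_injective (scalarHom : Fˣ →* G2) scalarHom_injective]
  have := orderOf_dvd_natCard (⟨g⁻¹ * g', hk⟩ : π.ker)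
  rwa [← Subgroup.orderOf_coe, show ((⟨g⁻¹ * g', hk⟩ : π.ker) : G2) = scalarHom a from ha.symm]
    at this

theorem index_centralizer_image (hπ : Function.Surjective π) (hK : π.ker ≤ center G2)
    (hKodd : Odd (Nat.card π.ker)) (g : G2) :
    (centralizer ({π g} : Set H)).index = (centralizer ({g} : Set G2)).index := by
  rw [← index_comap_of_surjective _ hπ]
  congr 1
  ext x
  simp only [mem_comap, mem_centralizer_singleton_iff]
  refine ⟨fun h => ?_, fun h => by rw [← map_mul, h, map_mul]⟩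
  obtain ⟨a, ha, e⟩ := eq_scalar_of_image_eq π hK hKodd (g := g) (g' := x * g * x⁻¹)
    (by rw [map_mul, map_mul, map_inv, h, mul_inv_cancel_right])
  have hc : IsConj g (g * scalarGL a) := isConj_iff.2 ⟨x, e⟩
  have hd := (trace_det_of_isConj hc).2
  rw [Units.val_mul, Matrix.det_mul, coe_scalarGL, Matrix.det_fin_two_of, mul_zero, sub_zero] at hd
  have h2 : (a : F) * a = 1 :=
    mul_left_cancel₀ (Matrix.GeneralLinearGroup.det_ne_zero g) (by rw [mul_one]; exact hd.symm)
  obtain ⟨k, hk⟩ := ha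
  have h3 : a = 1 := by
    have e1 : a ^ 2 = 1 := Units.ext (by rw [Units.val_pow_eq_pow_val, pow_two, h2, Units.val_one])
    have e2 := pow_orderOf_eq_one a
    rwa [hk, pow_succ, pow_mul, e1, one_pow, one_mul] at e2
  rw [h3, show (scalarGL 1 : G2) = 1 from map_one scalarHom, mul_one] at e
  rw [← mul_inv_eq_iff_eq_mul]
  exact e

theorem mem_principal_image [Finite H] (hπ : Function.Surjective π) (hK : π.ker ≤ center G2)
    (hKodd : Odd (Nat.card π.ker)) (M : Ideal Cfsg.AlgInt) (ψ : Cfsg.IrrCharacter H) :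
    ψ ∈ Cfsg.principalBlock M H ↔
      (⟨fun g => (ψ : H → ℂ) (π g), CharInduce.IsIrr.comp ψ.2 π hπ⟩ : Cfsg.IrrCharacter G2) ∈
        Cfsg.principalBlock M G2 := by
  have e : ∀ g, Cfsg.centralChar (fun g => (ψ : H → ℂ) (π g)) g =
      Cfsg.centralChar (ψ : H → ℂ) (π g) := fun g => by
    rw [Cfsg.centralChar, Cfsg.centralChar, index_centralizer_image π hπ hK hKodd, map_one]
  rw [H82.mem_principalBlock_iff, H82.mem_principalBlock_iff]
  simp only [e, ← index_centralizer_image π hπ hK hKodd]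
  exact ⟨fun h g => h (π g), fun h x => by obtain ⟨g, rfl⟩ := hπ x; exact h g⟩

theorem sq_of_orderOf {K : Type*} [Monoid K] {x : K} (h : orderOf x = 2) : x ^ 2 = 1 :=
  h ▸ pow_orderOf_eq_one x

/-- Involutions lift uniquely. -/
theorem sum_invol_image [Fintype H] (hπ : Function.Surjective π) (hK : π.ker ≤ center G2)
    (hKodd : Odd (Nat.card π.ker)) (Φ : H → ℂ) :
    ∑ g : G2, involInd g * Φ (π g) = ∑ a : H, involInd a * Φ a := by
  classical
  simp only [involInd, ite_mul, one_mul, zero_mul, ← Finset.sum_filter]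
  refine Finset.sum_bij (fun g _ => π g) (fun g hg => ?_) (fun g hg g' hg' h => ?_) (fun a ha => ?_)
    (fun g _ => rfl)
  · simp only [Finset.mem_filter, Finset.mem_univ, true_and] at hg ⊢
    have hd : orderOf (π g) ∣ 2 := (orderOf_map_dvd π g).trans (dvd_of_eq hg)
    refine ((Nat.dvd_prime Nat.prime_two).1 hd).resolve_left fun h1 => ?_
    have := orderOf_dvd_natCard (⟨g, MonoidHom.mem_ker.2 (orderOf_eq_one_iff.1 h1)⟩ : π.ker)
    rw [← Subgroup.orderOf_coe, hg] at this
    exact Nat.not_even_iff_odd.2 hKodd (even_iff_two_dvd.2 this)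
  · simp only [Finset.mem_filter, Finset.mem_univ, true_and] at hg hg'
    obtain ⟨a, ⟨k, hk⟩, e⟩ := eq_scalar_of_image_eq π hK hKodd h
    have h2 : (scalarHom a : G2) ^ 2 = 1 := by
      have e2 : g' ^ 2 = 1 := sq_of_orderOf hg'
      rwa [e, (show Commute _ _ from mul_scalarGL_comm a g).mul_pow, sq_of_orderOf hg,
        one_mul] at e2
    have h3 : (scalarHom a : G2) = 1 := by
      have e2 : (scalarHom a : G2) ^ (2 * k + 1) = 1 := by
        rw [← hk, ← map_pow, pow_orderOf_eq_one, map_one]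
      rwa [pow_succ, pow_mul, h2, one_pow, one_mul] at e2
    rw [e, show (scalarGL a : G2) = 1 from h3, mul_one]
  · simp only [Finset.mem_filter, Finset.mem_univ, true_and] at ha
    obtain ⟨g, rfl⟩ := hπ a
    have hk : g ^ 2 ∈ π.ker := by rw [MonoidHom.mem_ker, map_pow, sq_of_orderOf ha]
    obtain ⟨k, hkodd⟩ := hKodd
    have hpow : (g ^ 2) ^ (2 * k + 1) = 1 := by
      have := pow_card_eq_one' (G := π.ker) (x := ⟨g ^ 2, hk⟩)
      rw [hkodd] at this
      exact congrArg Subtype.val this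
    refine ⟨g ^ (2 * k + 1), ?_, ?_⟩
    · simp only [Finset.mem_filter, Finset.mem_univ, true_and]
      refine orderOf_eq_prime (by rw [← pow_mul, mul_comm, pow_mul, hpow]) fun h1 => ?_
      have : π g = 1 := by
        have e2 : π g ^ 2 = 1 := sq_of_orderOf ha
        have e3 : π g ^ (2 * k + 1) = 1 := by rw [← map_pow, h1, map_one]
        rwa [pow_succ, pow_mul, e2, one_pow, one_mul] at e3
      rw [this, orderOf_one] at ha
      exact absurd ha (by norm_num)
    · have e2 : π g ^ 2 = 1 := sq_of_orderOf ha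
      rw [map_pow, pow_succ, pow_mul, e2, one_pow, one_mul]

variable {G : Type u} [Group G] [Fintype G] {t : G} [Fintype (centralizer ({t} : Set G))]

open scoped Classical in
/-- The functions of the order formula, with their parameters. -/
theorem exists_funs (hq : Fintype.card F % 4 = 3) (ht : orderOf t = 2) (π : G2 →* (centralizer ({t} : Set G)))
    (hπ : Function.Surjective π) (hK : π.ker ≤ center G2) (hKodd : Odd (Nat.card π.ker))
    (hπt : (π (scalarGL (-1)) : G) = t) :
    ∃ (a T : ℕ) (P P₃ : ℚ), 3 ≤ Fintype.card (OrbitIdx a) ∧ T ≠ 0 ∧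
      (Nat.card (centralizer ({t} : Set G)) : ℤ) = T * (Fintype.card F : ℤ) * ((Fintype.card F : ℤ) + 1) ∧
      P * ((T : ℚ) ^ 2 * (Fintype.card F : ℤ)) =
        (Nat.card (centralizer ({t} : Set G)) : ℚ) * (((Fintype.card F : ℤ) : ℚ) + 1) ∧
      P₃ * (T : ℚ) ^ 2 = 2 * (Nat.card (centralizer ({t} : Set G)) : ℚ) ∧
      Nonempty (H84.SD.Funs t (OrbitIdx a) (Fintype.card F : ℤ) P P₃) := by
  set q := Fintype.card F with hqdef
  obtain ⟨a, -, ⟨D⟩⟩ := exists_glData hq
  obtain ⟨M, hM⟩ := BlockBasic.exists_isPModular Nat.prime_two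
  obtain ⟨σ, hσ⟩ := hπ.hasRightInverse
  let E : (G2 → ℂ) → (centralizer ({t} : Set G)) → ℂ := fun f x => f (σ x)
  -- the centraliser
  have hcardC : Nat.card π.ker * Nat.card (centralizer ({t} : Set G)) = (q + 1) * (q * (q - 1) ^ 2) := by
    rw [← Nat.card_congr (QuotientGroup.quotientKerEquivOfSurjective π hπ).toEquiv, mul_comm,
      ← Subgroup.card_eq_card_quotient_mul_card_subgroup, Linear.card_GL_two]
  obtain ⟨c, hc⟩ : Nat.card π.ker ∣ (q - 1) ^ 2 := by
    refine Dvd.dvd.trans ?_ (dvd_pow_self _ two_ne_zero)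
    have hle : π.ker ≤ (scalarHom : Fˣ →* G2).range := fun g hg => exists_scalar_of_central (hK hg)
    refine (Subgroup.card_dvd_of_le hle).trans ?_
    rw [← Nat.card_congr (MonoidHom.ofInjective scalarHom_injective).toEquiv, Nat.card_units,
      Nat.card_eq_fintype_card]
  have hc0 : c ≠ 0 := fun h => by
    rw [h, mul_zero] at hc
    exact pow_ne_zero 2 (by omega : q - 1 ≠ 0) hc
  have hC : Nat.card (centralizer ({t} : Set G)) = c * q * (q + 1) := by
    refine mul_left_cancel₀ (Nat.card_pos (α := π.ker)).ne' ?_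
    rw [hcardC, hc]
    ring
  set N : ℚ := (Nat.card (centralizer ({t} : Set G)) : ℚ) with hN
  have hN0 : N ≠ 0 := Nat.cast_ne_zero.2 Nat.card_pos.ne'
  have hc0' : (c : ℚ) ≠ 0 := Nat.cast_ne_zero.2 hc0
  have hq0 : (q : ℚ) ≠ 0 := Nat.cast_ne_zero.2 Fintype.card_ne_zero
  set R : ℚ := ((q : ℚ) + 1) * q
  refine ⟨a, c, R ^ 2 * (1 + (q : ℚ)⁻¹) / N, R ^ 2 * 2 / N, D.hJ, hc0, by rw [hC]; push_cast; ring,
    ?_, ?_, ?_⟩
  · have : N = (c : ℚ) * q * (q + 1) := by rw [hN, hC]; push_cast; ring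
    simp only [R, this, Int.cast_natCast]
    field_simp
  · have : N = (c : ℚ) * q * (q + 1) := by rw [hN, hC]; push_cast; ring
    simp only [R, this]
    field_simp
  let Mem : (G2 → ℂ) → Prop := fun f => f = D.a₁ ∨ f = D.a₂ ∨ ∃ j, f = D.a₃ j
  have m₁ : Mem D.a₁ := Or.inl rfl
  have m₂ : Mem D.a₂ := Or.inr (Or.inl rfl)
  have m₃ : ∀ j, Mem (D.a₃ j) := fun j => Or.inr (Or.inr ⟨j, rfl⟩)
  have hE : ∀ {f}, Mem f → ∀ g, E f (π g) = f g := by
    intro f hf g
    obtain ⟨b, hb, e⟩ := eq_scalar_of_image_eq π hK hKodd (g := g) (g' := σ (π g)) (hσ _).symm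
    show f (σ (π g)) = f g
    rw [e, D.scalarInv f hf g b hb]
  have hin : ∀ {f}, Mem f → ∀ φ : (centralizer ({t} : Set G)) → ℂ, Cfsg.classInner (E f) φ =
      Cfsg.classInner f fun g => φ (π g) := by
    intro f hf φ
    rw [← CharInduce.classInner_comp_surjective π hπ]
    simp only [hE hf]
  have hsp : ∀ {f}, Mem f → H84.SD.Special (E f) := by
    intro f hf x hx
    obtain ⟨g, rfl⟩ := hπ x
    rw [hE hf] at hx
    obtain ⟨k, hk⟩ := mem_zpowers_iff.1 (D.special f hf g hx)
    refine ⟨k, ?_⟩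
    show ((π g : (centralizer ({t} : Set G))) : G) ^ k = t
    rw [← Subgroup.coe_zpow, ← map_zpow, hk, hπt]
  have hgen : ∀ {f}, Mem f → Cfsg.IsGeneralizedCharacter (centralizer ({t} : Set G)) (E f) := by
    intro f hf
    refine CharInduce.isGeneralizedCharacter_of_coeff (fun x y => ?_) fun ψ => ?_
    · obtain ⟨g, rfl⟩ := hπ x
      obtain ⟨h, rfl⟩ := hπ y
      rw [← map_inv, ← map_mul, ← map_mul, hE hf, hE hf]
      exact CharInduce.IsGen.isClassFunction (D.gen f hf) g h
    · rw [hin hf]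
      exact CharInduce.IsGen.exists_int_coeff (D.gen f hf)
        (CharInduce.IsChar.comp (CharBasic.IsIrr.isCharacter ψ.2) π)
  have hgram : ∀ {f f'}, Mem f → Mem f' → Cfsg.classInner (E f) (E f') = Cfsg.classInner f f' := by
    intro f f' hf hf'
    rw [hin hf]
    simp only [hE hf']
  have hone : ∀ {f}, Mem f → Cfsg.classInner (E f) (fun _ => 1) = Cfsg.classInner f (fun _ => 1) :=
    fun hf => hin hf _
  have hperp : ∀ {f}, Mem f → ∀ ψ : Cfsg.IrrCharacter (centralizer ({t} : Set G)), ψ ∉ Cfsg.principalBlock M (centralizer ({t} : Set G)) →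
      Cfsg.classInner (E f) (ψ : (centralizer ({t} : Set G)) → ℂ) = 0 := by
    intro f hf ψ hψ
    rw [hin hf]
    exact D.perp M hM f hf ⟨_, CharInduce.IsIrr.comp ψ.2 π hπ⟩
      fun h => hψ ((mem_principal_image π hπ hK hKodd M ψ).2 h)
  -- pair sums
  have hpairs : ∀ {f}, Mem f → ∀ r : ℚ,
      (∑ g, ∑ h, involInd g * involInd h * f (g * h)) = (r : ℂ) →
      ∑ x : (centralizer ({t} : Set G)), conj (E f x) * (H84.SD.pairs t x : ℂ) = (Nat.card (centralizer ({t} : Set G)) : ℂ) * ((r / N : ℚ) : ℂ) := by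
    intro f hf r hr
    have hp : ∀ x : (centralizer ({t} : Set G)), (H84.SD.pairs t x : ℂ) = ∑ a : (centralizer ({t} : Set G)), involInd a * involInd (a⁻¹ * x) := by
      intro x
      rw [H84.SD.pairs, Nat.card_eq_fintype_card, Fintype.card_subtype, Finset.natCast_card_filter]
      refine Finset.sum_congr rfl fun a _ => ?_
      unfold involInd
      split_ifs <;> simp_all
    have hconj : ∀ x : (centralizer ({t} : Set G)), conj (involInd x) = (involInd x : ℂ) := fun x => by
      unfold involInd; split_ifs <;> simp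
    calc ∑ x : (centralizer ({t} : Set G)), conj (E f x) * (H84.SD.pairs t x : ℂ)
        = conj (∑ a : (centralizer ({t} : Set G)), ∑ b : (centralizer ({t} : Set G)), involInd a * involInd b * E f (a * b)) := by
          simp only [hp, Finset.mul_sum, map_sum, map_mul, hconj]
          rw [Finset.sum_comm]
          refine Finset.sum_congr rfl fun a _ => ?_
          refine (Fintype.sum_equiv (Equiv.mulLeft a) _ _ fun b => ?_).symm
          simp only [Equiv.coe_mulLeft, inv_mul_cancel_left]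
          ring
      _ = conj (∑ g, ∑ h, involInd g * involInd h * f (g * h)) := by
          congr 1
          simp only [mul_assoc, ← Finset.mul_sum]
          rw [← sum_invol_image π hπ hK hKodd fun a => ∑ b : (centralizer ({t} : Set G)), involInd b * E f (a * b)]
          refine Finset.sum_congr rfl fun g _ => ?_
          congr 1
          rw [← sum_invol_image π hπ hK hKodd fun b => E f (π g * b)]
          simp only [← map_mul, hE hf]
      _ = _ := by
          rw [hr, Rat.cast_div, hN]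
          push_cast
          rw [show ((r : ℂ)) = ((r : ℝ) : ℂ) by push_cast; rfl, Complex.conj_ofReal,
            mul_div_cancel₀ _ (Nat.cast_ne_zero.2 Nat.card_pos.ne')]
  refine ⟨{
    a₁ := E D.a₁, a₂ := E D.a₂, a₃ := fun j => E (D.a₃ j), s := D.s
    hs := D.hs, hs2 := D.hs2
    gen₁ := hgen m₁, gen₂ := hgen m₂, gen₃ := fun j => hgen (m₃ j)
    sp₁ := hsp m₁, sp₂ := hsp m₂, sp₃ := fun j => hsp (m₃ j)
    g11 := by rw [hgram m₁ m₁, D.g11]
    g22 := by rw [hgram m₂ m₂, D.g22]
    g12 := by rw [hgram m₁ m₂, D.g12]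
    g13 := fun j => by rw [hgram m₁ (m₃ j), D.g13]
    g23 := fun j => by rw [hgram m₂ (m₃ j), D.g23]
    g33 := fun j => by rw [hgram (m₃ j) (m₃ j), D.g33]
    g34 := fun j k hjk => by rw [hgram (m₃ j) (m₃ k), D.g34 j k hjk]
    one₁ := by rw [hone m₁, D.one₁]
    one₂ := by rw [hone m₂, D.one₂]
    one₃ := fun j => by rw [hone (m₃ j), D.one₃]
    hP₁ := hpairs m₁ _ (by rw [D.pairs₁]; simp [R, q])
    hP₂ := hpairs m₂ _ (by rw [D.pairs₂]; simp [R, q])
    hP₃ := fun j => hpairs (m₃ j) _ (by rw [D.pairs₃]; simp [R, q])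
    value := fun χ hχ => ?_ }⟩
  have hmem : χ ∈ Cfsg.principalBlock M G := by
    rcases hχ with h | h | ⟨j, h⟩
    · exact mem_principal_of_coeff_ne_zero hM ht (hsp m₁) (hperp m₁) h
    · exact mem_principal_of_coeff_ne_zero hM ht (hsp m₂) (hperp m₂) h
    · exact mem_principal_of_coeff_ne_zero hM ht (hsp (m₃ j)) (hperp (m₃ j)) h
  rw [value_eq_sum hM ht hmem
    (Sum.elim (fun _ : Fin 2 => (q : ℂ)) fun j => ((q : ℂ) - 1) * (D.s j : ℂ))
    (Sum.elim ![E D.a₁, E D.a₂] fun j => E (D.a₃ j)) fun ψ => ?_]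
  · simp only [Fintype.sum_sum_type, Fin.sum_univ_two, Sum.elim_inl, Sum.elim_inr,
      Matrix.cons_val_zero, Matrix.cons_val_one, Finset.mul_sum, mul_add, Int.cast_natCast,
      mul_assoc]
  simp only [Fintype.sum_sum_type, Fin.sum_univ_two, Sum.elim_inl, Sum.elim_inr,
    Matrix.cons_val_zero, Matrix.cons_val_one]
  split_ifs with hψ
  · simp only [hin m₁, hin m₂, fun j => hin (m₃ j)]
    have h := D.column M hM ⟨_, CharInduce.IsIrr.comp ψ.2 π hπ⟩
      ((mem_principal_image π hπ hK hKodd M ψ).1 hψ)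
    simp only [show π (scalarGL (-1)) = ⟨t, mem_centralizer_singleton_iff.2 rfl⟩ from
      Subtype.ext hπt] at h
    rw [← h, mul_add, Finset.mul_sum]
    simp only [mul_assoc, hqdef, Fintype.sum_sum_type]
  · simp [hperp m₁ ψ hψ, hperp m₂ ψ hψ, fun j => hperp (m₃ j) ψ hψ]

end Cfsg.Agent.H3.SDOrder
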