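import Cfsg.Agent.H53.GLTableApp
import Cfsg.Agent.CharInduce.Ops
import Cfsg.Agent.Linear.TwoClasses
import Mathlib.Algebra.QuadraticAlgebra.Basic

/-!
# The cuspidal characters of `GL(2, q)`, `q` odd

For a non-square `δ` the torus consists of the matrices `(x δy; y x)`, the image of the non-zero
elements of `F(√δ)`.  For a character `θ` of it with restriction `α` to the scalars the generalised
character `St·prin(α, 1) - prin(α, 1) - Ind θ` has values `(q-1)α`, `0`, `-α`, `-(θ + θ̄)`.
-/

set_option autoImplicit false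
set_option linter.unusedSectionVars false
set_option linter.style.haveILetI false

namespace Cfsg.Agent.H3.SDOrder

open Matrix Finset Cfsg.Agent.H53
open scoped ComplexConjugate

variable {F : Type*} [Field F]

local notation "G2" => Matrix.GeneralLinearGroup (Fin 2) F
local notation "M2" => Matrix (Fin 2) (Fin 2) F

/-- The quadratic extension. -/
abbrev Quad (δ : F) := QuadraticAlgebra F δ 0

variable {δ : F}

theorem quad_norm_ne (hδ : ¬ IsSquare δ) {z : Quad δ} (hz : z ≠ 0) :
    z.re * z.re - δ * z.im * z.im ≠ 0 := by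
  intro h
  by_cases hy : z.im = 0
  · rw [hy, mul_zero, sub_zero, mul_self_eq_zero] at h
    exact hz (QuadraticAlgebra.ext h hy)
  · exact hδ ⟨z.re / z.im, by field_simp; linear_combination -h⟩

/-- The embedding of the torus. -/
noncomputable def torusHom (hδ : ¬ IsSquare δ) : (Quad δ)ˣ →* G2 where
  toFun z := Linear.glOfDet !![(z : Quad δ).re, δ * (z : Quad δ).im; (z : Quad δ).im, (z : Quad δ).re]
    (by
      rw [isUnit_iff_ne_zero, Matrix.det_fin_two_of]
      exact quad_norm_ne hδ z.ne_zero)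
  map_one' := by apply Linear.GL_ext_two <;> simp [QuadraticAlgebra.re_one, QuadraticAlgebra.im_one]
  map_mul' a b := by
    apply Linear.GL_ext_two <;> simp [Linear.mul_two_apply] <;> ring

theorem coe_torusHom (hδ : ¬ IsSquare δ) (z : (Quad δ)ˣ) : ((torusHom hδ z : G2) : M2) =
    !![(z : Quad δ).re, δ * (z : Quad δ).im; (z : Quad δ).im, (z : Quad δ).re] := rfl

theorem torusHom_injective (hδ : ¬ IsSquare δ) : Function.Injective (torusHom hδ) := fun a b h => by
  have h0 := congrArg (fun g : G2 => (g : M2) 0 0) h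
  have h1 := congrArg (fun g : G2 => (g : M2) 1 0) h
  simp [coe_torusHom] at h0 h1
  exact Units.ext (QuadraticAlgebra.ext h0 h1)

theorem exists_torus_of_form (hδ : ¬ IsSquare δ) {g : G2} (h0 : (g : M2) 0 0 = (g : M2) 1 1)
    (h1 : (g : M2) 0 1 = δ * (g : M2) 1 0) : ∃ z, torusHom hδ z = g := by
  have hd := Matrix.GeneralLinearGroup.det_ne_zero g
  rw [Matrix.det_fin_two, ← h0, h1] at hd
  have hu : IsUnit (⟨(g : M2) 0 0, (g : M2) 1 0⟩ : Quad δ) := by
    rw [QuadraticAlgebra.isUnit_iff_norm_isUnit, isUnit_iff_ne_zero]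
    intro h
    simp [QuadraticAlgebra.norm] at h
    exact hd (by linear_combination h)
  refine ⟨hu.unit, ?_⟩
  apply Linear.GL_ext_two <;> simp [coe_torusHom, h0, h1]

/-- Conjugation on the torus. -/
def conjUnit : (Quad δ)ˣ →* (Quad δ)ˣ :=
  Units.map ((starRingEnd (Quad δ)) : Quad δ →+* Quad δ).toMonoidHom

theorem re_conjUnit (z : (Quad δ)ˣ) : (conjUnit z : Quad δ).re = (z : Quad δ).re := by
  simp [conjUnit, starRingEnd_apply]

theorem im_conjUnit (z : (Quad δ)ˣ) : (conjUnit z : Quad δ).im = -(z : Quad δ).im := by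
  simp [conjUnit, starRingEnd_apply]

/-- The scalars in the torus. -/
noncomputable def scalUnit : Fˣ →* (Quad δ)ˣ :=
  Units.map (algebraMap F (Quad δ)).toMonoidHom

theorem re_scalUnit (a : Fˣ) : (scalUnit (δ := δ) a : Quad δ).re = a := by simp [scalUnit]

theorem im_scalUnit (a : Fˣ) : (scalUnit (δ := δ) a : Quad δ).im = 0 := by simp [scalUnit]

theorem torusHom_scalUnit (hδ : ¬ IsSquare δ) (a : Fˣ) :
    torusHom hδ (scalUnit a) = scalarGL a := by
  apply Linear.GL_ext_two <;> simp [coe_torusHom, coe_scalarGL, re_scalUnit, im_scalUnit]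

theorem isScalarTwo_torus_iff (hδ : ¬ IsSquare δ) (z : (Quad δ)ˣ) :
    Linear.IsScalarTwo ((torusHom hδ z : G2) : M2) ↔ (z : Quad δ).im = 0 := by
  simp +contextual [Linear.IsScalarTwo, coe_torusHom]

theorem noEigen_torus (hδ : ¬ IsSquare δ) {z : (Quad δ)ˣ} (hz : (z : Quad δ).im ≠ 0) :
    ∀ (c : F) (v : Fin 2 → F), v ≠ 0 → ((torusHom hδ z : G2) : M2).mulVec v ≠ c • v := by
  rw [Linear.noEigen_iff]
  intro c hc
  rw [coe_torusHom, Matrix.trace_fin_two, Matrix.det_fin_two] at hc
  simp at hc
  exact hδ ⟨(c - (z : Quad δ).re) / (z : Quad δ).im, by field_simp; linear_combination -hc⟩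

variable [Fintype F] [DecidableEq F]

theorem two_ne_zero' (hδ : ¬ IsSquare δ) : (2 : F) ≠ 0 := fun h => hδ (by
  haveI : CharP F 2 := CharTwo.of_one_ne_zero_of_two_eq_zero one_ne_zero h
  exact FiniteField.isSquare_of_char_two (ringChar.eq F 2) δ)

instance : Fintype (Quad δ) := Fintype.ofEquiv _ (QuadraticAlgebra.equivProd δ 0).symm

/-- Every element is scalar, conjugate into the upper triangular group, or into the torus. -/
theorem exists_torus_conj (hδ : ¬ IsSquare δ) {g : G2}
    (h : ∀ (c : F) (v : Fin 2 → F), v ≠ 0 → (g : M2).mulVec v ≠ c • v) :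
    ∃ z : (Quad δ)ˣ, (z : Quad δ).im ≠ 0 ∧ IsConj (torusHom hδ z) g := by
  have h2 := two_ne_zero' hδ
  set T := (g : M2).trace
  set D := (g : M2).det
  have hD : ¬ IsSquare (T ^ 2 - 4 * D) := by
    rintro ⟨r, hr⟩
    refine (Linear.noEigen_iff.1 h) ((T + r) / 2) ?_
    field_simp
    linear_combination -hr
  obtain ⟨s, hs⟩ : IsSquare ((T ^ 2 - 4 * D) * δ⁻¹) := by
    have hne : T ^ 2 - 4 * D ≠ 0 := fun e => hD (e ▸ ⟨0, (mul_zero _).symm⟩)
    have hδ0 : δ ≠ 0 := fun e => hδ (e ▸ ⟨0, (mul_zero _).symm⟩)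
    exact Linear.isSquare_mul_of_not_isSquare hne (inv_ne_zero hδ0) hD
      (fun hi => hδ (by simpa using hi.inv))
  have hs' : T ^ 2 - 4 * D = δ * (s * s) := by
    have hδ0 : δ ≠ 0 := fun e => hδ (e ▸ ⟨0, (mul_zero _).symm⟩)
    rw [← hs]; field_simp
  have hs0 : s ≠ 0 := fun e => hD ⟨0, by rw [hs', e]; ring⟩
  have hu : IsUnit (⟨T / 2, s / 2⟩ : Quad δ) := by
    rw [QuadraticAlgebra.isUnit_iff_norm_isUnit, isUnit_iff_ne_zero]
    intro e
    simp [QuadraticAlgebra.norm] at e
    have : 4 * D = 0 := by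
      field_simp at e
      linear_combination e - hs'
    have h4 : (4 : F) ≠ 0 := by rw [show (4 : F) = 2 * 2 by norm_num]; exact mul_ne_zero h2 h2
    exact Matrix.GeneralLinearGroup.det_ne_zero g ((mul_eq_zero.1 this).resolve_left h4)
  have hz : ((hu.unit : (Quad δ)ˣ) : Quad δ).im ≠ 0 := by simp [hs0, h2]
  refine ⟨hu.unit, hz, isConj_of_trace_det (fun hh => hz ((isScalarTwo_torus_iff hδ _).1 hh))
    (fun hh => h ((g : M2) 0 0) ![1, 0] (by simp) ?_) ?_ ?_⟩
  · funext i; fin_cases i <;> simp [Matrix.mulVec, dotProduct, Fin.sum_univ_two, hh.2.1]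
  · rw [coe_torusHom, Matrix.trace_fin_two]
    simp
    field_simp
    ring
  · rw [coe_torusHom, Matrix.det_fin_two_of]
    simp
    field_simp
    linear_combination hs'

variable (hδ : ¬ IsSquare δ) (θ : (Quad δ)ˣ →* ℂˣ)

/-- The torus. -/
noncomputable abbrev torus : Subgroup G2 := (torusHom hδ).range

/-- The character on the torus subgroup. -/
noncomputable def torusChar : ↥(torus hδ) →* ℂˣ :=
  θ.comp (MonoidHom.ofInjective (torusHom_injective hδ)).symm.toMonoidHom

theorem torusChar_apply (z : (Quad δ)ˣ) (h : torusHom hδ z ∈ torus hδ) :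
    torusChar hδ θ ⟨torusHom hδ z, h⟩ = θ z := by
  rw [torusChar, MonoidHom.comp_apply]
  congr 1
  exact (MulEquiv.symm_apply_eq _).2 (Subtype.ext rfl)

/-- The induced character. -/
noncomputable def torusInd : G2 → ℂ := Cfsg.indFun (torus hδ) fun c => (torusChar hδ θ c : ℂ)

theorem card_torus : Nat.card ↥(torus hδ) = Fintype.card F ^ 2 - 1 := by
  classical
  rw [← Nat.card_congr (MonoidHom.ofInjective (torusHom_injective hδ)).toEquiv]
  haveI : Fact (∀ r : F, r ^ 2 ≠ δ + 0 * r) := ⟨fun r hr => hδ ⟨r, by linear_combination -hr⟩⟩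
  rw [Nat.card_units, Nat.card_congr (QuadraticAlgebra.equivProd δ 0), Nat.card_prod,
    Nat.card_eq_fintype_card, sq]

theorem torusInd_scalar (a : Fˣ) : torusInd hδ θ (scalarGL a) =
    (Fintype.card F : ℂ) * ((Fintype.card F : ℂ) - 1) * (θ (scalUnit a) : ℂ) := by
  classical
  have hc : ∀ x : G2, x⁻¹ * scalarGL a * x = torusHom hδ (scalUnit a) := fun x => by
    rw [torusHom_scalUnit, mul_assoc, inv_mul_eq_iff_eq_mul]
    apply Linear.GL_ext_two <;> simp [coe_scalarGL, Linear.mul_two_apply, mul_comm]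
  rw [torusInd, Cfsg.indFun]
  simp only [hc, CharInduce.extendByZero_of_mem _ (MonoidHom.mem_range.2 ⟨_, rfl⟩), torusChar_apply,
    Finset.sum_const, Finset.card_univ, nsmul_eq_mul]
  rw [← Nat.card_eq_fintype_card (α := G2), Linear.card_GL_two, card_torus]
  have h1 : 1 ≤ Fintype.card F := Fintype.card_pos
  have h2 : 1 ≤ Fintype.card F ^ 2 := Nat.one_le_pow _ _ Fintype.card_pos
  have h3 : ((Fintype.card F : ℂ) ^ 2 - 1) ≠ 0 := by
    have h : 1 < Fintype.card F ^ 2 := Nat.one_lt_pow two_ne_zero Fintype.one_lt_card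
    rw [sub_ne_zero]
    exact_mod_cast h.ne'
  push_cast [h1, h2]
  field_simp
  ring

theorem torusInd_eq_zero {g : G2}
    (hs : ¬ Linear.IsScalarTwo (g : M2)) (hg : (g : M2) 1 0 = 0) : torusInd hδ θ g = 0 := by
  refine CharInduce.indFun_eq_zero_of_forall_not_mem _ _ fun x hx => ?_
  obtain ⟨z, hz⟩ := hx
  by_cases hy : (z : Quad δ).im = 0
  · refine hs ?_
    have hzs := (isScalarTwo_torus_iff hδ z).2 hy
    rw [hz] at hzs
    have e : g = x⁻¹ * g * x := by
      have e' : x * (x⁻¹ * g * x) = (x⁻¹ * g * x) * x := by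
        apply Linear.GL_ext_two <;>
          simp only [Units.val_mul x (x⁻¹ * g * x), Units.val_mul (x⁻¹ * g * x) x, Linear.mul_two_apply,
            hzs.1, hzs.2.1, hzs.2.2] <;> ring
      calc g = x * (x⁻¹ * g * x) * x⁻¹ := by group
        _ = (x⁻¹ * g * x) := by rw [e', mul_inv_cancel_right]
    rwa [e]
  · have h := noEigen_torus hδ hy
    have hne : (x⁻¹ : G2)⁻¹ = x := inv_inv x
    refine not_mem_of_noEigen h x⁻¹ ?_
    rw [Linear.mem_upperTriangularGL_two, hz, hne,
      show x * (x⁻¹ * g * x) * x⁻¹ = g by group, hg]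

/-- The diagonal inverter of the torus. -/
noncomputable def flip : G2 := Linear.glOfDet !![(1 : F), 0; 0, -1] (by simp [Matrix.det_fin_two_of])

theorem flip_mul_self : (flip : G2) * flip = 1 := by
  apply Linear.GL_ext_two <;> simp [flip, Linear.mul_two_apply]

theorem flip_conj (z : (Quad δ)ˣ) : flip * torusHom hδ z * flip = torusHom hδ (conjUnit z) := by
  apply Linear.GL_ext_two <;>
    simp [flip, coe_torusHom, Linear.mul_two_apply, re_conjUnit, im_conjUnit]

theorem centralizer_torus {z : (Quad δ)ˣ} (hy : (z : Quad δ).im ≠ 0) {x : G2}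
    (h : x * torusHom hδ z = torusHom hδ z * x) : x ∈ torus hδ := by
  obtain ⟨a, b, hab⟩ := Linear.exists_of_commute (fun hh => hy ((isScalarTwo_torus_iff hδ z).1 hh))
    (congrArg (fun g : G2 => (g : M2)) h)
  refine exists_torus_of_form hδ ?_ ?_ <;> simp [hab, coe_torusHom] <;> ring

theorem torus_comm (z w : (Quad δ)ˣ) :
    torusHom hδ z * torusHom hδ w = torusHom hδ w * torusHom hδ z := by
  rw [← map_mul, ← map_mul, mul_comm]

theorem torusInd_torus {z : (Quad δ)ˣ} (hy : (z : Quad δ).im ≠ 0) :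
    torusInd hδ θ (torusHom hδ z) = (θ z : ℂ) + (θ (conjUnit z) : ℂ) := by
  classical
  have h2 := two_ne_zero' hδ
  have hmem : ∀ w, torusHom hδ w ∈ torus hδ := fun w => ⟨w, rfl⟩
  have hflip : (flip : G2) ∉ torus hδ := by
    rintro ⟨w, hw⟩
    have h0 := congrArg (fun g : G2 => (g : M2) 0 0) hw
    have h1 := congrArg (fun g : G2 => (g : M2) 1 1) hw
    simp [coe_torusHom, flip] at h0 h1
    exact h2 (by linear_combination h1 - h0)
  have hinv : (flip : G2)⁻¹ = flip := inv_eq_of_mul_eq_one_right flip_mul_self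
  have key : ∀ x : G2, Cfsg.extendByZero (torus hδ) (fun c => (torusChar hδ θ c : ℂ))
      (x⁻¹ * torusHom hδ z * x) = (if x ∈ torus hδ then (θ z : ℂ) else 0) +
        if flip * x ∈ torus hδ then (θ (conjUnit z) : ℂ) else 0 := by
    intro x
    by_cases hx : x ∈ torus hδ
    · have hfx : flip * x ∉ torus hδ := fun h => hflip (by
        simpa using (torus hδ).mul_mem h ((torus hδ).inv_mem hx))
      obtain ⟨w, rfl⟩ := hx
      rw [if_pos ⟨w, rfl⟩, if_neg hfx, add_zero, mul_assoc, torus_comm, inv_mul_cancel_left,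
        CharInduce.extendByZero_of_mem _ (hmem z), torusChar_apply]
    · rw [if_neg hx, zero_add]
      by_cases hfx : flip * x ∈ torus hδ
      · rw [if_pos hfx]
        obtain ⟨w, hw⟩ := hfx
        have hx' : x = flip * torusHom hδ w := by rw [hw, ← mul_assoc, flip_mul_self, one_mul]
        have e : x⁻¹ * torusHom hδ z * x = torusHom hδ (conjUnit z) := by
          rw [hx', _root_.mul_inv_rev, hinv]
          calc (torusHom hδ w)⁻¹ * flip * torusHom hδ z * (flip * torusHom hδ w)
              = (torusHom hδ w)⁻¹ * (flip * torusHom hδ z * flip) * torusHom hδ w := by group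
            _ = _ := by rw [flip_conj, mul_assoc, torus_comm, inv_mul_cancel_left]
        rw [e, CharInduce.extendByZero_of_mem _ (hmem _), torusChar_apply]
      · rw [if_neg hfx]
        refine CharInduce.extendByZero_of_not_mem _ fun hm => ?_
        obtain ⟨d, hd⟩ := hm
        obtain ⟨ht, hdet⟩ := trace_det_of_isConj (F := F)
          (isConj_iff.2 ⟨x, show x * torusHom hδ d * x⁻¹ = torusHom hδ z by rw [hd]; group⟩)
        rw [coe_torusHom, coe_torusHom, Matrix.trace_fin_two, Matrix.trace_fin_two] at ht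
        rw [coe_torusHom, coe_torusHom, Matrix.det_fin_two_of, Matrix.det_fin_two_of] at hdet
        simp at ht
        have hre : (d : Quad δ).re = (z : Quad δ).re :=
          mul_left_cancel₀ h2 (by linear_combination ht)
        have hδ0 : δ ≠ 0 := fun e => hδ (e ▸ ⟨0, (mul_zero _).symm⟩)
        have him : (d : Quad δ).im * (d : Quad δ).im = (z : Quad δ).im * (z : Quad δ).im :=
          mul_left_cancel₀ hδ0 (by rw [hre] at hdet; linear_combination -hdet)
        rcases mul_self_eq_mul_self_iff.1 him with e | e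
        · have hdz : d = z := Units.ext (QuadraticAlgebra.ext hre e)
          subst hdz
          refine hx (centralizer_torus hδ hy ?_)
          calc x * torusHom hδ d = x * (x⁻¹ * torusHom hδ d * x) := by rw [← hd]
            _ = torusHom hδ d * x := by group
        · have hdz : d = conjUnit z := Units.ext (QuadraticAlgebra.ext
            (by rw [hre, re_conjUnit]) (by rw [e, im_conjUnit]))
          subst hdz
          refine hfx (centralizer_torus hδ (z := conjUnit z) (by rw [im_conjUnit]; exact neg_ne_zero.2 hy) ?_)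
          calc flip * x * torusHom hδ (conjUnit z)
              = flip * x * (x⁻¹ * torusHom hδ z * x) := by rw [← hd]
            _ = flip * torusHom hδ z * (flip * flip) * x := by rw [flip_mul_self]; group
            _ = torusHom hδ (conjUnit z) * (flip * x) := by rw [← flip_conj hδ z]; group
  rw [torusInd, Cfsg.indFun, Finset.sum_congr rfl (fun x _ => key x), Finset.sum_add_distrib]
  have hn : (Finset.univ.filter fun x : G2 => x ∈ torus hδ).card = Nat.card (torus hδ) := by
    rw [Nat.card_eq_fintype_card]; exact (Fintype.card_subtype _).symm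
  have hn' : (Finset.univ.filter fun x : G2 => flip * x ∈ torus hδ).card = Nat.card (torus hδ) := by
    rw [← hn]
    exact Finset.card_equiv (Equiv.mulLeft flip) (by simp)
  rw [← Finset.sum_filter, ← Finset.sum_filter, Finset.sum_const, Finset.sum_const, hn, hn',
    nsmul_eq_mul, nsmul_eq_mul, ← mul_add, ← mul_assoc, inv_mul_cancel₀ (Nat.cast_ne_zero.mpr
      Nat.card_pos.ne'), one_mul]

end Cfsg.Agent.H3.SDOrder
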