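import Cfsg.Agent.H3.SDOrder.Cusp
import Cfsg.Agent.H65.BSW.Dual
import Cfsg.Agent.CharBasic.Integral
import Cfsg.Agent.BlockBasic.Kernel

/-!
# The cuspidal part of the table of `GL(2, q)`, `q` odd
-/

set_option autoImplicit false
set_option linter.unusedSectionVars false
set_option linter.style.haveILetI false

namespace Cfsg.Agent.H3.SDOrder

open Matrix Finset Cfsg.Agent.H53
open scoped ComplexConjugate

variable {F : Type*} [Field F] [Fintype F] [DecidableEq F] [DecidableEq (MulChar F ℂ)]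

local notation "G2" => Matrix.GeneralLinearGroup (Fin 2) F
local notation "M2" => Matrix (Fin 2) (Fin 2) F
local notation "B2" => Cfsg.upperTriangularGL 2 F

variable {δ : F} (hδ : ¬ IsSquare δ) (θ : (Quad δ)ˣ →* ℂˣ)

/-- The restriction to the scalars. -/
noncomputable def centChar : MulChar F ℂ := MulChar.ofUnitHom (θ.comp scalUnit)

theorem centChar_apply (a : Fˣ) : centChar θ (a : F) = (θ (scalUnit a) : ℂ) := by
  simp [centChar]

/-- The cuspidal generalised character. -/
noncomputable def cusp : G2 → ℂ := fun g =>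
  stFun (1 : MulChar F ℂ) g * prin (centChar θ) 1 g - prin (centChar θ) 1 g - torusInd hδ θ g

theorem isGen_cusp : Cfsg.IsGeneralizedCharacter G2 (cusp hδ θ) :=
  CharInduce.IsGen.sub (CharInduce.IsGen.sub
    (CharInduce.IsGen.of_char (CharInduce.IsChar.mul
      (CharBasic.IsIrr.isCharacter (isIrrCharacter_stFun 1)) (isCharacter_prin _ 1)))
    (CharInduce.IsGen.of_char (isCharacter_prin _ 1)))
    (CharInduce.IsGen.of_char (CharInduce.IsChar.ind _ (CharInduce.isCharacter_hom _)))

theorem isClassFunction_cusp : Cfsg.IsClassFunction G2 (cusp hδ θ) :=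
  CharInduce.IsGen.isClassFunction (isGen_cusp hδ θ)

theorem prin_scalar (α β : MulChar F ℂ) (a : Fˣ) :
    prin α β (scalarGL a : G2) = ((Fintype.card F : ℂ) + 1) * (α (a : F) * β (a : F)) := by
  rw [prin_upper α β (by simp [coe_scalarGL])]
  simp [coe_scalarGL]
  ring

theorem linFun_scalar (α : MulChar F ℂ) (a : Fˣ) :
    linFun α (scalarGL a : G2) = α (a : F) * α (a : F) := by
  simp [linFun, coe_scalarGL, Matrix.det_fin_two_of]

theorem stFun_scalar (α : MulChar F ℂ) (a : Fˣ) :
    stFun α (scalarGL a : G2) = (Fintype.card F : ℂ) * (α (a : F) * α (a : F)) := by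
  rw [stFun, Pi.sub_apply, prin_scalar, linFun_scalar]
  ring

theorem one_mulChar_entries {g : G2} (h10 : (g : M2) 1 0 = 0) :
    (1 : MulChar F ℂ) ((g : M2) 0 0) = 1 ∧ (1 : MulChar F ℂ) ((g : M2) 1 1) = 1 :=
  ⟨MulChar.one_apply (isUnit_iff_ne_zero.2 (entries_ne_zero h10).1),
    MulChar.one_apply (isUnit_iff_ne_zero.2 (entries_ne_zero h10).2)⟩

theorem stFun_one_upper_ne {g : G2} (h10 : (g : M2) 1 0 = 0)
    (hne : (g : M2) 0 0 ≠ (g : M2) 1 1) : stFun (1 : MulChar F ℂ) g = 1 := by
  have hfil : (Finset.univ.filter fun t : F =>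
      ((g : M2) 0 0 - (g : M2) 1 1) * t + (g : M2) 0 1 = 0).card = 1 := by
    rw [Finset.card_eq_one]
    refine ⟨-(g : M2) 0 1 / ((g : M2) 0 0 - (g : M2) 1 1), ?_⟩
    ext t
    simp only [Finset.mem_filter, Finset.mem_univ, true_and, Finset.mem_singleton]
    rw [eq_div_iff (sub_ne_zero.mpr hne)]
    constructor <;> intro h <;> linear_combination h
  obtain ⟨e0, e1⟩ := one_mulChar_entries h10
  rw [stFun, Pi.sub_apply, prin_upper _ _ h10, hfil, e0, e1, linFun, Matrix.det_fin_two, h10,
    mul_zero, sub_zero, map_mul, e0, e1]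
  norm_num

theorem stFun_one_upper_eq {g : G2} (h10 : (g : M2) 1 0 = 0)
    (he : (g : M2) 0 0 = (g : M2) 1 1) (h01 : (g : M2) 0 1 ≠ 0) :
    stFun (1 : MulChar F ℂ) g = 0 := by
  have hfil : (Finset.univ.filter fun t : F =>
      ((g : M2) 0 0 - (g : M2) 1 1) * t + (g : M2) 0 1 = 0) = ∅ := by
    ext t; simp [he, h01]
  obtain ⟨e0, e1⟩ := one_mulChar_entries h10
  rw [stFun, Pi.sub_apply, prin_upper _ _ h10, hfil, e0, e1, linFun, Matrix.det_fin_two, h10,
    mul_zero, sub_zero, map_mul, e0, e1]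
  simp

theorem prin_upper_eq (α β : MulChar F ℂ) {g : G2} (h10 : (g : M2) 1 0 = 0)
    (he : (g : M2) 0 0 = (g : M2) 1 1) (h01 : (g : M2) 0 1 ≠ 0) :
    prin α β g = α ((g : M2) 0 0) * β ((g : M2) 0 0) := by
  have hfil : (Finset.univ.filter fun t : F =>
      ((g : M2) 0 0 - (g : M2) 1 1) * t + (g : M2) 0 1 = 0) = ∅ := by
    ext t; simp [he, h01]
  rw [prin_upper _ _ h10, hfil, ← he]
  simp

theorem cusp_scalar (a : Fˣ) :
    cusp hδ θ (scalarGL a) = ((Fintype.card F : ℂ) - 1) * centChar θ (a : F) := by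
  rw [cusp, stFun_scalar, prin_scalar, torusInd_scalar, ← centChar_apply,
    MulChar.one_apply a.isUnit]
  ring

theorem cusp_one : cusp hδ θ 1 = (Fintype.card F : ℂ) - 1 := by
  have h : (scalarGL 1 : G2) = 1 := by apply Linear.GL_ext_two <;> simp [coe_scalarGL]
  rw [← h, cusp_scalar]
  simp

theorem cusp_upper_ne {g : G2} (h10 : (g : M2) 1 0 = 0) (hne : (g : M2) 0 0 ≠ (g : M2) 1 1) :
    cusp hδ θ g = 0 := by
  rw [cusp, stFun_one_upper_ne h10 hne, one_mul, sub_self, zero_sub,
    torusInd_eq_zero hδ θ (fun h => hne h.2.2) h10, neg_zero]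

theorem cusp_upper_eq {g : G2} (h10 : (g : M2) 1 0 = 0) (he : (g : M2) 0 0 = (g : M2) 1 1)
    (h01 : (g : M2) 0 1 ≠ 0) : cusp hδ θ g = -centChar θ ((g : M2) 0 0) := by
  rw [cusp, stFun_one_upper_eq h10 he h01, prin_upper_eq _ _ h10 he h01,
    torusInd_eq_zero hδ θ (fun h => h01 h.1) h10, (one_mulChar_entries h10).1]
  ring

theorem cusp_torus {z : (Quad δ)ˣ} (hy : (z : Quad δ).im ≠ 0) :
    cusp hδ θ (torusHom hδ z) = -((θ z : ℂ) + (θ (conjUnit z) : ℂ)) := by
  have h := noEigen_torus hδ hy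
  rw [cusp, torusInd_torus hδ θ hy, prin_noEigen _ _ h]
  ring

theorem upper_scalar {g : G2} (h10 : (g : M2) 1 0 = 0) (he : (g : M2) 0 0 = (g : M2) 1 1)
    (h01 : (g : M2) 0 1 = 0) : g = scalarGL (Units.mk0 _ (entries_ne_zero h10).1) := by
  apply Linear.GL_ext_two <;> simp [coe_scalarGL, h10, h01, ← he]

/-- Inner product with a class function having the shape of a cuspidal character on the upper
triangular group. -/
theorem inner_cusp_right {f : G2 → ℂ} (hf : Cfsg.IsClassFunction G2 f) (ω : MulChar F ℂ)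
    (hne : ∀ g : G2, (g : M2) 1 0 = 0 → (g : M2) 0 0 ≠ (g : M2) 1 1 → f g = 0)
    (hs : ∀ a : Fˣ, f (scalarGL a) = ((Fintype.card F : ℂ) - 1) * ω (a : F))
    (hu : ∀ g : G2, (g : M2) 1 0 = 0 → (g : M2) 0 0 = (g : M2) 1 1 → (g : M2) 0 1 ≠ 0 →
      f g = -ω ((g : M2) 0 0)) :
    Cfsg.classInner f (cusp hδ θ) = (if ω = centChar θ then 1 else 0) -
      Cfsg.classInner (fun z : (Quad δ)ˣ => f (torusHom hδ z)) (fun z => (θ z : ℂ)) := by
  classical
  set α := centChar θ
  set q := (Fintype.card F : ℂ) with hq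
  have h1 : q - 1 ≠ 0 := by
    rw [hq, sub_ne_zero, Nat.cast_ne_one]; exact Fintype.one_lt_card.ne'
  have h0 : q ≠ 0 := Nat.cast_ne_zero.mpr Fintype.card_ne_zero
  have hcl : Cfsg.IsClassFunction G2 (fun g => f g * conj (stFun (1 : MulChar F ℂ) g - 1)) := by
    intro g h
    simp only [hf g h, CharBasic.IsIrr.isClassFunction (isIrrCharacter_stFun (1 : MulChar F ℂ)) g h]
  have hA : Cfsg.classInner f (fun g => stFun (1 : MulChar F ℂ) g * prin α 1 g - prin α 1 g) =
      if ω = α then 1 else 0 := by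
    have hmove : Cfsg.classInner f (fun g => stFun (1 : MulChar F ℂ) g * prin α 1 g - prin α 1 g) =
        Cfsg.classInner (fun g => f g * conj (stFun (1 : MulChar F ℂ) g - 1)) (prin α 1) := by
      simp only [CharBasic.classInner_def, map_sub, map_mul, map_one]
      congr 1
      exact Finset.sum_congr rfl fun g _ => by ring
    haveI := Fintype.ofFinite B2
    rw [hmove, prin, CharInduce.classInner_indFun_right _ _ _ hcl, CharBasic.classInner_def]
    have hterm : ∀ b : B2, f (b : G2) * conj (stFun (1 : MulChar F ℂ) (b : G2) - 1) *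
        conj (borelFun α 1 b) =
        (fun a d c => if a = d then (if c = 0 then (q - 1) ^ 2 else 1) * (ω a * conj (α a)) else 0)
          (((b : G2) : M2) 0 0) (((b : G2) : M2) 1 1) (((b : G2) : M2) 0 1) := by
      intro b
      have h10 := Linear.mem_upperTriangularGL_two.mp b.2
      simp only [borelFun, (one_mulChar_entries h10).2, mul_one]
      by_cases he : ((b : G2) : M2) 0 0 = ((b : G2) : M2) 1 1
      · rw [if_pos he]
        by_cases h01 : ((b : G2) : M2) 0 1 = 0
        · have e := upper_scalar h10 he h01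
          rw [if_pos h01]
          conv_lhs => rw [e, hs, stFun_scalar]
          rw [MulChar.one_apply (Units.isUnit _)]
          simp [coe_scalarGL]
          ring
        · rw [if_neg h01, hu _ h10 he h01, stFun_one_upper_eq h10 he h01]
          simp
      · rw [if_neg he, hne _ h10 he]
        simp
    rw [Finset.sum_congr rfl fun b _ => hterm b,
      sum_borel (fun a d c => if a = d then (if c = 0 then (q - 1) ^ 2 else 1) * (ω a * conj (α a))
        else 0)]
    have hc : ∀ x : ℂ, ∑ c : F, (if c = 0 then (q - 1) ^ 2 else 1) * x = q * (q - 1) * x := by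
      intro x
      rw [← Finset.sum_mul, ← Finset.add_sum_erase _ _ (Finset.mem_univ (0 : F)), if_pos rfl,
        Finset.sum_congr rfl fun c hc => if_neg (Finset.ne_of_mem_erase hc), Finset.sum_const,
        Finset.card_erase_of_mem (Finset.mem_univ _), Finset.card_univ, nsmul_eq_mul,
        Nat.cast_sub Fintype.card_pos, Nat.cast_one, ← hq]
      ring
    have hd : ∀ a : Fˣ, (∑ d : Fˣ, ∑ c : F, if (a : F) = (d : F) then
        (if c = 0 then (q - 1) ^ 2 else 1) * (ω (a : F) * conj (α (a : F))) else 0) =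
        q * (q - 1) * (ω (a : F) * conj (α (a : F))) := by
      intro a
      rw [Finset.sum_eq_single a (fun d _ hd => Finset.sum_eq_zero fun c _ =>
        if_neg fun e => hd (Units.ext e.symm)) (fun h => absurd (Finset.mem_univ a) h)]
      simp only [if_pos, hc]
    rw [Finset.sum_congr rfl fun a _ => hd a, ← Finset.mul_sum,
      sum_units (fun x => ω x * conj (α x))
        (by rw [MulChar.map_nonunit ω not_isUnit_zero, zero_mul]),
      sum_mulChar_mul_conj, Linear.card_upperTriangularGL_two, Nat.cast_mul, Nat.cast_pow,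
      Nat.cast_sub Fintype.card_pos, Nat.cast_one, ← hq]
    split_ifs <;> field_simp <;> ring
  have hB : Cfsg.classInner f (torusInd hδ θ) =
      Cfsg.classInner (fun z : (Quad δ)ˣ => f (torusHom hδ z)) (fun z => (θ z : ℂ)) := by
    rw [torusInd, CharInduce.classInner_indFun_right _ _ _ hf, CharBasic.classInner_def,
      CharBasic.classInner_def,
      ← Nat.card_congr (MonoidHom.ofInjective (torusHom_injective hδ)).toEquiv]
    congr 1
    refine (Fintype.sum_equiv (MonoidHom.ofInjective (torusHom_injective hδ)).toEquiv _ _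
      fun z => ?_).symm
    have hm : torusHom hδ z ∈ torus hδ := ⟨z, rfl⟩
    show _ = f (torusHom hδ z) * conj (torusChar hδ θ ⟨torusHom hδ z, hm⟩ : ℂ)
    rw [torusChar_apply hδ θ z hm]
  rw [show cusp hδ θ = (fun g => stFun (1 : MulChar F ℂ) g * prin α 1 g - prin α 1 g) -
    torusInd hδ θ from rfl, CharBasic.classInner_sub_right, hA, hB]

/-- The scalars as a homomorphism. -/
noncomputable def scalarHom : Fˣ →* G2 where
  toFun := scalarGL
  map_one' := by apply Linear.GL_ext_two <;> simp [coe_scalarGL]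
  map_mul' a b := by apply Linear.GL_ext_two <;> simp [coe_scalarGL, Linear.mul_two_apply]

theorem scalarGL_mem_center (a : Fˣ) : (scalarGL a : G2) ∈ Subgroup.center G2 := by
  rw [Subgroup.mem_center_iff]
  intro g
  apply Linear.GL_ext_two <;> simp [coe_scalarGL, Linear.mul_two_apply, mul_comm]

theorem centChar_conj (θ' : (Quad δ)ˣ →* ℂˣ) : centChar (θ'.comp conjUnit) = centChar θ' := by
  refine MulChar.ext fun a => ?_
  rw [centChar_apply, centChar_apply, MonoidHom.comp_apply]
  congr 2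
  exact Units.ext (QuadraticAlgebra.ext (by simp [re_conjUnit]) (by simp [im_conjUnit, im_scalUnit]))

theorem exists_scalUnit_eq {z : (Quad δ)ˣ} (hy : (z : Quad δ).im = 0) :
    ∃ a : Fˣ, scalUnit a = z := by
  have hx : (z : Quad δ).re ≠ 0 := fun h => z.ne_zero (QuadraticAlgebra.ext h hy)
  exact ⟨Units.mk0 _ hx, Units.ext (QuadraticAlgebra.ext (by simp [re_scalUnit])
    (by simp [im_scalUnit, hy]))⟩

open scoped Classical in
theorem classInner_torus_hom (θ' θ : (Quad δ)ˣ →* ℂˣ) :
    Cfsg.classInner (fun z => (θ' z : ℂ)) (fun z => (θ z : ℂ)) = if θ' = θ then 1 else 0 := by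
  split_ifs with h
  · rw [h, CharBasic.classInner_irr_self (CharInduce.isIrrCharacter_hom θ)]
  · exact CharBasic.classInner_irr_of_ne (CharInduce.isIrrCharacter_hom θ')
      (CharInduce.isIrrCharacter_hom θ) fun e => h (MonoidHom.ext fun z => Units.ext (congrFun e z))

open scoped Classical in
/-- The inner products of the cuspidal generalised characters. -/
theorem classInner_cusp (θ' : (Quad δ)ˣ →* ℂˣ) :
    Cfsg.classInner (cusp hδ θ') (cusp hδ θ) =
      (if θ' = θ then 1 else 0) + if θ'.comp conjUnit = θ then 1 else 0 := by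
  rw [inner_cusp_right hδ θ (isClassFunction_cusp hδ θ') (centChar θ')
    (fun g h10 hne => cusp_upper_ne hδ θ' h10 hne) (cusp_scalar hδ θ')
    (fun g h10 he h01 => cusp_upper_eq hδ θ' h10 he h01)]
  set q := (Fintype.card F : ℂ) with hq
  set S : (Quad δ)ˣ → ℂ := fun z => if (z : Quad δ).im = 0 then (θ' z : ℂ) else 0 with hS
  have hsum : (fun z : (Quad δ)ˣ => cusp hδ θ' (torusHom hδ z)) =
      (q + 1) • S - ((fun z => (θ' z : ℂ)) + fun z => ((θ'.comp conjUnit) z : ℂ)) := by
    funext z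
    simp only [Pi.sub_apply, Pi.add_apply, Pi.smul_apply, smul_eq_mul, MonoidHom.comp_apply, hS]
    by_cases hy : (z : Quad δ).im = 0
    · have hc : conjUnit z = z :=
        Units.ext (QuadraticAlgebra.ext (re_conjUnit z) (by rw [im_conjUnit, hy, neg_zero]))
      obtain ⟨a, rfl⟩ := exists_scalUnit_eq hy
      rw [if_pos hy, hc, torusHom_scalUnit, cusp_scalar, centChar_apply, ← hq]
      ring
    · rw [if_neg hy, cusp_torus hδ θ' hy]
      ring
  have hS' : (q + 1) * Cfsg.classInner S (fun z => (θ z : ℂ)) =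
      if centChar θ' = centChar θ then 1 else 0 := by
    have hsc : ∑ z : (Quad δ)ˣ, S z * conj (θ z : ℂ) =
        ∑ a : Fˣ, centChar θ' (a : F) * conj (centChar θ (a : F)) := by
      simp only [hS, ite_mul, zero_mul, ← Finset.sum_filter]
      refine (Finset.sum_bij (fun a _ => scalUnit a) (fun a _ => by simp [im_scalUnit])
        (fun a _ b _ h => Units.ext (by
          simpa [re_scalUnit] using congrArg (fun z : (Quad δ)ˣ => (z : Quad δ).re) h))
        (fun z hz => ?_) (fun a _ => by rw [centChar_apply, centChar_apply])).symm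
      obtain ⟨a, ha⟩ := exists_scalUnit_eq (Finset.mem_filter.1 hz).2
      exact ⟨a, Finset.mem_univ a, ha⟩
    rw [CharBasic.classInner_def, hsc, sum_units (fun x => centChar θ' x * conj (centChar θ x))
      (by rw [MulChar.map_nonunit _ not_isUnit_zero, zero_mul]), sum_mulChar_mul_conj,
      Nat.card_congr (MonoidHom.ofInjective (torusHom_injective hδ)).toEquiv, card_torus,
      Nat.cast_sub (Nat.one_le_pow _ _ Fintype.card_pos), Nat.cast_pow, Nat.cast_one, ← hq]
    have h1 : q - 1 ≠ 0 := by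
      rw [hq, sub_ne_zero, Nat.cast_ne_one]; exact Fintype.one_lt_card.ne'
    have h2 : q + 1 ≠ 0 := by rw [hq]; exact Nat.cast_add_one_ne_zero _
    have h3 : q ^ 2 - 1 ≠ 0 := by
      rw [show q ^ 2 - 1 = (q - 1) * (q + 1) by ring]; exact mul_ne_zero h1 h2
    split_ifs
    · field_simp; ring
    · simp
  rw [hsum, CharBasic.classInner_sub_left, CharBasic.classInner_add_left,
    CharBasic.classInner_smul_left, hS', classInner_torus_hom, classInner_torus_hom]
  ring

/-- The cuspidal characters are irreducible. -/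
theorem isIrrCharacter_cusp (hθ : θ.comp conjUnit ≠ θ) :
    Cfsg.IsIrrCharacter G2 (cusp hδ θ) := by
  obtain ⟨ψ, h | h⟩ := CharInduce.IsGen.eq_irr_or_neg (isGen_cusp hδ θ) (by
    rw [classInner_cusp, if_pos rfl, if_neg hθ, add_zero])
  · rw [h]; exact ψ.2
  · exfalso
    obtain ⟨n, hn, hn1⟩ := CharBasic.IsIrr.exists_degree ψ.2
    have h1 := congrFun h 1
    rw [cusp_one, Pi.neg_apply, hn1] at h1
    have : (Fintype.card F : ℤ) - 1 = -(n : ℤ) := by exact_mod_cast h1
    have := Fintype.one_lt_card (α := F)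
    omega

/-- The central character of an irreducible character, on the scalars. -/
theorem exists_scalar_char (ψ : Cfsg.IrrCharacter G2) :
    ∃ ω : MulChar F ℂ, ∀ (g : G2) (a : Fˣ),
      (ψ : G2 → ℂ) (g * scalarGL a) = ω (a : F) * (ψ : G2 → ℂ) g := by
  have h1 := BlockBasic.irr_one_ne_zero ψ.2
  have key : ∀ a : Fˣ, ∃ c : ℂ, ∀ g, (ψ : G2 → ℂ) (g * scalarGL a) = c * (ψ : G2 → ℂ) g := by
    intro a
    obtain ⟨n, ρ, hρ, hρψ⟩ := ψ.2
    haveI := hρ
    obtain ⟨c, -, -, hc⟩ := CharBasic.exists_central_scalar ρ (scalarGL_mem_center a)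
    exact ⟨c, fun g => by rw [← hρψ]; exact hc g⟩
  choose c hc using key
  have hc0 : ∀ a, c a ≠ 0 := fun a h0 => h1 (by
    have := hc a (scalarGL a)⁻¹
    rwa [inv_mul_cancel, h0, zero_mul] at this)
  have hmul : ∀ a b, c (a * b) = c a * c b := by
    intro a b
    have e := hc (a * b) 1
    rw [show (scalarGL (a * b) : G2) = scalarGL b * scalarGL a by
      apply Linear.GL_ext_two <;> simp [coe_scalarGL, Linear.mul_two_apply, mul_comm],
      ← mul_assoc, hc a, hc b, ← mul_assoc] at e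
    exact (mul_right_cancel₀ h1 e).symm
  have hone : c 1 = 1 := by
    have h2 := hmul 1 1
    rw [mul_one] at h2
    exact (mul_eq_left₀ (hc0 1)).1 h2.symm
  let l : Fˣ →* ℂˣ :=
    { toFun := fun a => Units.mk0 (c a) (hc0 a)
      map_one' := Units.ext hone
      map_mul' := fun a b => Units.ext (hmul a b) }
  exact ⟨MulChar.ofUnitHom l, fun g a => by rw [hc a g, MulChar.ofUnitHom_coe]; rfl⟩

/-- Every character outside the non-cuspidal list is one of the cuspidal characters. -/
theorem exists_cusp_eq {ψ : Cfsg.IrrCharacter G2} (hψ : ψ ∉ Set.range (ncChar (F := F))) :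
    ∃ θ : (Quad δ)ˣ →* ℂˣ, θ.comp conjUnit ≠ θ ∧ (ψ : G2 → ℂ) = cusp hδ θ := by
  classical
  haveI := Fintype.ofFinite ((Quad δ)ˣ →* ℂˣ)
  obtain ⟨ω, hω⟩ := exists_scalar_char ψ
  obtain ⟨hψ1, hψu⟩ := cusp_data.2 ψ hψ
  set q := (Fintype.card F : ℂ) with hq
  have hs : ∀ a : Fˣ, (ψ : G2 → ℂ) (scalarGL a) = (q - 1) * ω (a : F) := fun a => by
    have := hω 1 a
    rw [one_mul, hψ1] at this
    rw [this, mul_comm]
  have hu : ∀ g : G2, (g : M2) 1 0 = 0 → (g : M2) 0 0 = (g : M2) 1 1 → (g : M2) 0 1 ≠ 0 →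
      (ψ : G2 → ℂ) g = -ω ((g : M2) 0 0) := by
    intro g h10 he h01
    set a := Units.mk0 _ (entries_ne_zero h10).1
    have e : g = upGL 1 1 ((g : M2) 0 1 / (g : M2) 0 0) * scalarGL a := by
      apply Linear.GL_ext_two <;> simp [coe_upGL, coe_scalarGL, Linear.mul_two_apply, a, h10, ← he]
      rw [div_mul_cancel₀ _ (entries_ne_zero h10).1]
    conv_lhs => rw [e]
    rw [hω, (CharBasic.isConj_iff_forall_irr _ _).mp
      (isConj_upGL_one (div_ne_zero h01 (entries_ne_zero h10).1)) ψ, hψu]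
    simp [a]
  have hne : ∀ g : G2, (g : M2) 1 0 = 0 → (g : M2) 0 0 ≠ (g : M2) 1 1 → (ψ : G2 → ℂ) g = 0 := by
    intro g h10 hne
    have hd : IsConj (upGL (Units.mk0 _ (entries_ne_zero h10).1)
        (Units.mk0 _ (entries_ne_zero h10).2) 0) g := by
      refine isConj_of_trace_det (fun h => hne (by simpa [coe_upGL] using h.2.2))
        (fun h => hne h.2.2) ?_ ?_ <;>
        simp [coe_upGL, Matrix.trace_fin_two, Matrix.det_fin_two, h10]
    rw [← (CharBasic.isConj_iff_forall_irr _ _).mp hd ψ]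
    exact cusp_diag hψ (by simp [coe_upGL]) (by simp [coe_upGL]) (by simpa [coe_upGL] using hne)
  have hc : ∀ θ : (Quad δ)ˣ →* ℂˣ, Cfsg.classInner (ψ : G2 → ℂ) (cusp hδ θ) =
      (if ω = centChar θ then 1 else 0) -
        Cfsg.classInner (fun z : (Quad δ)ˣ => (ψ : G2 → ℂ) (torusHom hδ z)) (fun z => (θ z : ℂ)) :=
    fun θ => inner_cusp_right hδ θ (CharBasic.IsIrr.isClassFunction ψ.2) ω hne hs hu
  have hNc : (Nat.card (Quad δ)ˣ : ℂ) ≠ 0 := Nat.cast_ne_zero.2 Nat.card_pos.ne'
  have hdual : (Fintype.card ((Quad δ)ˣ →* ℂˣ) : ℂ) = Nat.card (Quad δ)ˣ := by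
    rw [← Nat.card_eq_fintype_card, CommGroup.card_monoidHom_of_hasEnoughRootsOfUnity]
  have hfou : ∀ f : (Quad δ)ˣ → ℂ,
      ∑ θ : (Quad δ)ˣ →* ℂˣ, Cfsg.classInner f (fun z => (θ z : ℂ)) = f 1 := by
    intro f
    simp only [CharBasic.classInner_def, Finset.mul_sum]
    rw [Finset.sum_comm, Finset.sum_eq_single 1]
    · simp only [map_one, Units.val_one, mul_one, Finset.sum_const, Finset.card_univ, nsmul_eq_mul,
        hdual]
      rw [← mul_assoc, mul_inv_cancel₀ hNc, one_mul]
    · intro z _ hz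
      rw [← Finset.mul_sum, ← Finset.mul_sum, ← map_sum, H65.BSW.Dual.sum_dual hz, map_zero,
        mul_zero, mul_zero]
    · exact fun h => absurd (Finset.mem_univ _) h
  have hcount : ∑ θ : (Quad δ)ˣ →* ℂˣ, (if ω = centChar θ then (1 : ℂ) else 0) = q + 1 := by
    have h1 : q - 1 ≠ 0 := by
      rw [hq, sub_ne_zero, Nat.cast_ne_one]; exact Fintype.one_lt_card.ne'
    have hind : ∀ θ : (Quad δ)ˣ →* ℂˣ, (if ω = centChar θ then (1 : ℂ) else 0) =
        (q - 1)⁻¹ * ∑ a : Fˣ, ω (a : F) * conj (θ (scalUnit a) : ℂ) := by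
      intro θ
      simp only [← centChar_apply]
      rw [sum_units (fun x => ω x * conj (centChar θ x))
        (by rw [MulChar.map_nonunit ω not_isUnit_zero, zero_mul]), sum_mulChar_mul_conj]
      split_ifs
      · rw [← hq, inv_mul_cancel₀ h1]
      · simp
    simp only [hind, ← Finset.mul_sum]
    rw [Finset.sum_comm, Finset.sum_eq_single 1]
    · simp only [map_one, Units.val_one, mul_one, Finset.sum_const, Finset.card_univ, nsmul_eq_mul,
        hdual]
      rw [Nat.card_congr (MonoidHom.ofInjective (torusHom_injective hδ)).toEquiv, card_torus,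
        Nat.cast_sub (Nat.one_le_pow _ _ Fintype.card_pos), Nat.cast_pow, Nat.cast_one, ← hq]
      field_simp
      ring
    · intro a _ ha
      have hne1 : scalUnit (δ := δ) a ≠ 1 := fun e => ha (Units.ext (by
        simpa [re_scalUnit, QuadraticAlgebra.re_one] using
          congrArg (fun z : (Quad δ)ˣ => (z : Quad δ).re) e))
      rw [← Finset.mul_sum, ← map_sum, H65.BSW.Dual.sum_dual hne1, map_zero, mul_zero]
    · exact fun h => absurd (Finset.mem_univ _) h
  -- some coefficient is positive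
  choose m hm using fun θ : (Quad δ)ˣ →* ℂˣ => CharBasic.classInner_isChar_nat
    (CharInduce.IsChar.comp (CharBasic.IsIrr.isCharacter ψ.2) (torusHom hδ))
    (CharBasic.IsIrr.isCharacter (CharInduce.isIrrCharacter_hom θ))
  have hsum : ∑ θ : (Quad δ)ˣ →* ℂˣ, Cfsg.classInner (ψ : G2 → ℂ) (cusp hδ θ) = 2 := by
    rw [Finset.sum_congr rfl fun θ _ => hc θ, Finset.sum_sub_distrib, hcount, hfou, map_one, hψ1]
    ring
  obtain ⟨θ, hθ⟩ : ∃ θ : (Quad δ)ˣ →* ℂˣ, Cfsg.classInner (ψ : G2 → ℂ) (cusp hδ θ) = 1 := by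
    by_contra hno
    push Not at hno
    have hle : ∀ θ, ∃ k : ℕ, Cfsg.classInner (ψ : G2 → ℂ) (cusp hδ θ) = -(k : ℂ) := by
      intro θ
      have h := hc θ
      rw [hm θ] at h
      split_ifs at h
      · rcases Nat.eq_zero_or_pos (m θ) with h0 | h0
        · exact absurd (by rw [h, h0]; simp) (hno θ)
        · exact ⟨m θ - 1, by rw [h, Nat.cast_sub h0]; push_cast; ring⟩
      · exact ⟨m θ, by rw [h, zero_sub]⟩
    choose k hk using hle
    rw [Finset.sum_congr rfl fun θ _ => hk θ, Finset.sum_neg_distrib, ← Nat.cast_sum] at hsum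
    have : -((∑ θ : (Quad δ)ˣ →* ℂˣ, k θ : ℕ) : ℤ) = 2 := by exact_mod_cast hsum
    omega
  have hfix : θ.comp conjUnit ≠ θ := fun hfix => by
    -- a fixed parameter gives a norm two character of the wrong degree
    have hn2 : Cfsg.classInner (cusp hδ θ - (ψ : G2 → ℂ)) (cusp hδ θ - (ψ : G2 → ℂ)) = 1 := by
      rw [CharBasic.classInner_sub_left, CharBasic.classInner_sub_right,
        CharBasic.classInner_sub_right, classInner_cusp, if_pos rfl, if_pos hfix, hθ,
        ← CharBasic.classInner_conj_symm (ψ : G2 → ℂ), hθ, CharBasic.classInner_irr_self ψ.2,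
        map_one]
      ring
    obtain ⟨χ, h | h⟩ := CharInduce.IsGen.eq_irr_or_neg (CharInduce.IsGen.sub (isGen_cusp hδ θ)
      (CharInduce.IsGen.of_char (CharBasic.IsIrr.isCharacter ψ.2))) hn2
    all_goals
      have h1 := congrFun h 1
      obtain ⟨n, hn, hn1⟩ := CharBasic.IsIrr.exists_degree χ.2
      simp only [Pi.sub_apply, Pi.neg_apply, cusp_one, hψ1, hn1, ← hq, sub_self] at h1
      have : n = 0 := by exact_mod_cast (show (n : ℂ) = 0 by simpa using h1.symm)
      omega
  refine ⟨θ, hfix, ?_⟩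
  by_contra hne'
  rw [CharBasic.classInner_irr_of_ne ψ.2 (isIrrCharacter_cusp hδ θ hfix) hne'] at hθ
  exact zero_ne_one hθ

end Cfsg.Agent.H3.SDOrder
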