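import Cfsg.Agent.H3.SDOrder.Column
import Cfsg.Agent.CharInduce.Gallagher
import Cfsg.Agent.CharInduce.Ops
import Cfsg.Agent.H82.PrincipalBlock
import Cfsg.Agent.H36.TwoTori.Table
import Cfsg.Agent.H84.WR.TableInner

/-!
# Class functions pushed along a quotient by a central subgroup of odd order
-/

set_option autoImplicit false
set_option linter.unusedSectionVars false
set_option linter.style.haveILetI false

namespace Cfsg.Agent.H3.SDOrder.Descent

open Finset Subgroup Cfsg.Agent.CharBasic
open scoped ComplexConjugate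

universe u v

variable {H : Type v} [Group H] [Fintype H] {C : Type u} [Group C] [Fintype C]

/-- A quotient map with central kernel of odd order; no element is conjugate to a proper translate of
itself by the kernel. -/
structure OddCover (π : H →* C) : Prop where
  surj : Function.Surjective π
  central : π.ker ≤ center H
  odd : Odd (Nat.card π.ker)
  sep : ∀ x g k : H, k ∈ π.ker → x * g * x⁻¹ = g * k → k = 1

/-- The indicator of the elements of order two. -/
noncomputable def invol {K : Type*} [Group K] (g : K) : ℂ := if orderOf g = 2 then 1 else 0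

variable {π : H →* C} (hc : OddCover π)

/-- The pushed function. -/
noncomputable def push (f : H → ℂ) (x : C) : ℂ := f (Function.surjInv hc.surj x)

include hc in
theorem eq_mul_of_image_eq {g g' : H} (h : π g = π g') :
    g⁻¹ * g' ∈ π.ker ∧ Odd (orderOf (g⁻¹ * g')) := by
  have hk : g⁻¹ * g' ∈ π.ker := by rw [MonoidHom.mem_ker, map_mul, map_inv, h, inv_mul_cancel]
  refine ⟨hk, hc.odd.of_dvd_nat ?_⟩
  have := orderOf_dvd_natCard (⟨g⁻¹ * g', hk⟩ : π.ker)
  rwa [← Subgroup.orderOf_coe] at this

theorem push_apply {f : H → ℂ}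
    (hf : ∀ g k, k ∈ center H → Odd (orderOf k) → f (g * k) = f g) (g : H) :
    push hc f (π g) = f g := by
  set s := Function.surjInv hc.surj (π g)
  obtain ⟨hk, ho⟩ := eq_mul_of_image_eq hc (g := s) (g' := g) (Function.surjInv_eq hc.surj _)
  show f s = f g
  rw [← hf s _ (hc.central hk) ho, mul_inv_cancel_left]

theorem inner_push {f : H → ℂ}
    (hf : ∀ g k, k ∈ center H → Odd (orderOf k) → f (g * k) = f g) (φ : C → ℂ) :
    Cfsg.classInner (push hc f) φ = Cfsg.classInner f fun g => φ (π g) := by
  rw [← CharInduce.classInner_comp_surjective π hc.surj]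
  simp only [push_apply hc hf]

theorem inner_push_push {f f' : H → ℂ}
    (hf : ∀ g k, k ∈ center H → Odd (orderOf k) → f (g * k) = f g)
    (hf' : ∀ g k, k ∈ center H → Odd (orderOf k) → f' (g * k) = f' g) :
    Cfsg.classInner (push hc f) (push hc f') = Cfsg.classInner f f' := by
  rw [inner_push hc hf]
  simp only [push_apply hc hf']

theorem isGen_push {f : H → ℂ}
    (hf : ∀ g k, k ∈ center H → Odd (orderOf k) → f (g * k) = f g)
    (hg : Cfsg.IsGeneralizedCharacter H f) : Cfsg.IsGeneralizedCharacter C (push hc f) := by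
  refine CharInduce.isGeneralizedCharacter_of_coeff (fun x y => ?_) fun ψ => ?_
  · obtain ⟨g, rfl⟩ := hc.surj x
    obtain ⟨h, rfl⟩ := hc.surj y
    rw [← map_inv, ← map_mul, ← map_mul, push_apply hc hf, push_apply hc hf]
    exact CharInduce.IsGen.isClassFunction hg g h
  · rw [inner_push hc hf]
    exact CharInduce.IsGen.exists_int_coeff hg
      (CharInduce.IsChar.comp (CharBasic.IsIrr.isCharacter ψ.2) π)

include hc in
theorem index_image (g : H) :
    (centralizer ({π g} : Set C)).index = (centralizer ({g} : Set H)).index := by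
  rw [← index_comap_of_surjective _ hc.surj]
  congr 1
  ext x
  simp only [mem_comap, mem_centralizer_singleton_iff]
  refine ⟨fun h => ?_, fun h => by rw [← map_mul, h, map_mul]⟩
  have hk := (eq_mul_of_image_eq hc (g := g) (g' := x * g * x⁻¹)
    (by rw [map_mul, map_mul, map_inv, h, mul_inv_cancel_right])).1
  have h1 := hc.sep x g _ hk (mul_inv_cancel_left g _).symm
  rw [inv_mul_eq_one] at h1
  rw [← mul_inv_eq_iff_eq_mul]
  exact h1.symm

theorem mem_principal (M : Ideal Cfsg.AlgInt) (ψ : Cfsg.IrrCharacter C) :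
    ψ ∈ Cfsg.principalBlock M C ↔
      (⟨fun g => (ψ : C → ℂ) (π g), CharInduce.IsIrr.comp ψ.2 π hc.surj⟩ : Cfsg.IrrCharacter H) ∈
        Cfsg.principalBlock M H := by
  have e : ∀ g, Cfsg.centralChar (fun g => (ψ : C → ℂ) (π g)) g =
      Cfsg.centralChar (ψ : C → ℂ) (π g) := fun g => by
    rw [Cfsg.centralChar, Cfsg.centralChar, index_image hc, map_one]
  rw [H82.mem_principalBlock_iff, H82.mem_principalBlock_iff]
  simp only [e, ← index_image hc]
  exact ⟨fun h g => h (π g), fun h x => by obtain ⟨g, rfl⟩ := hc.surj x; exact h g⟩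

theorem perp_push {f : H → ℂ}
    (hf : ∀ g k, k ∈ center H → Odd (orderOf k) → f (g * k) = f g) {M : Ideal Cfsg.AlgInt}
    (hperp : ∀ ψ : Cfsg.IrrCharacter H, ψ ∉ Cfsg.principalBlock M H →
      Cfsg.classInner f (ψ : H → ℂ) = 0)
    (ψ : Cfsg.IrrCharacter C) (hψ : ψ ∉ Cfsg.principalBlock M C) :
    Cfsg.classInner (push hc f) (ψ : C → ℂ) = 0 := by
  rw [inner_push hc hf]
  exact hperp ⟨_, CharInduce.IsIrr.comp ψ.2 π hc.surj⟩ fun h => hψ ((mem_principal hc M ψ).2 h)

include hc in
/-- Involutions lift uniquely. -/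
theorem sum_invol (Φ : C → ℂ) : ∑ g : H, invol g * Φ (π g) = ∑ a : C, invol a * Φ a := by
  classical
  obtain ⟨r, hr⟩ := hc.odd
  simp only [invol, ite_mul, one_mul, zero_mul, ← Finset.sum_filter]
  refine Finset.sum_bij (fun g _ => π g) (fun g hg => ?_) (fun g hg g' hg' h => ?_) (fun a ha => ?_)
    (fun g _ => rfl)
  · simp only [Finset.mem_filter, Finset.mem_univ, true_and] at hg ⊢
    have hd : orderOf (π g) ∣ 2 := (orderOf_map_dvd π g).trans (dvd_of_eq hg)
    refine ((Nat.dvd_prime Nat.prime_two).1 hd).resolve_left fun h1 => ?_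
    have := orderOf_dvd_natCard (⟨g, MonoidHom.mem_ker.2 (orderOf_eq_one_iff.1 h1)⟩ : π.ker)
    rw [← Subgroup.orderOf_coe, hg] at this
    exact Nat.not_even_iff_odd.2 hc.odd (even_iff_two_dvd.2 this)
  · simp only [Finset.mem_filter, Finset.mem_univ, true_and] at hg hg'
    obtain ⟨hk, ⟨k, hko⟩⟩ := eq_mul_of_image_eq hc h
    set z := g⁻¹ * g' with hz
    have hcomm : Commute g z := mem_center_iff.1 (hc.central hk) g
    have h2 : z ^ 2 = 1 := by
      have e : (g * z) ^ 2 = 1 := by rw [hz, mul_inv_cancel_left]; exact hg' ▸ pow_orderOf_eq_one g'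
      rwa [hcomm.mul_pow, ← hg, pow_orderOf_eq_one, one_mul, hg] at e
    have h3 := pow_orderOf_eq_one z
    rw [hko, pow_succ, pow_mul, h2, one_pow, one_mul] at h3
    exact inv_mul_eq_one.1 h3
  · simp only [Finset.mem_filter, Finset.mem_univ, true_and] at ha
    obtain ⟨g, rfl⟩ := hc.surj a
    have e2 : π g ^ 2 = 1 := ha ▸ pow_orderOf_eq_one (π g)
    have hk : g ^ 2 ∈ π.ker := by rw [MonoidHom.mem_ker, map_pow, e2]
    have hpow : (g ^ 2) ^ (2 * r + 1) = 1 := by
      have := pow_card_eq_one' (G := π.ker) (x := ⟨g ^ 2, hk⟩)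
      rw [hr] at this
      exact congrArg Subtype.val this
    refine ⟨g ^ (2 * r + 1), ?_, ?_⟩
    · simp only [Finset.mem_filter, Finset.mem_univ, true_and]
      refine orderOf_eq_prime (by rw [← pow_mul, mul_comm, pow_mul, hpow]) fun h1 => ?_
      have : π g = 1 := by
        have e3 : π g ^ (2 * r + 1) = 1 := by rw [← map_pow, h1, map_one]
        rwa [pow_succ, pow_mul, e2, one_pow, one_mul] at e3
      rw [this, orderOf_one] at ha
      exact absurd ha (by norm_num)
    · rw [map_pow, pow_succ, pow_mul, e2, one_pow, one_mul]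

theorem pairSum_push {f : H → ℂ}
    (hf : ∀ g k, k ∈ center H → Odd (orderOf k) → f (g * k) = f g) :
    ∑ a : C, ∑ b : C, invol a * invol b * push hc f (a * b) =
      ∑ g : H, ∑ h : H, invol g * invol h * f (g * h) := by
  simp only [mul_assoc, ← Finset.mul_sum]
  rw [← sum_invol hc fun a => ∑ b : C, invol b * push hc f (a * b)]
  refine Finset.sum_congr rfl fun g _ => ?_
  congr 1
  rw [← sum_invol hc fun b => push hc f (π g * b)]
  simp only [← map_mul, push_apply hc hf]

theorem push_at {f : H → ℂ}
    (hf : ∀ g k, k ∈ center H → Odd (orderOf k) → f (g * k) = f g) {z : H} {x : C} (h : π z = x) :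
    push hc f x = f z := h ▸ push_apply hc hf z

section Centralizer

variable {G : Type u} [Group G] [Fintype G] {t : G} [Fintype (centralizer ({t} : Set G))]
  {π : H →* centralizer ({t} : Set G)} (hc : OddCover π)

theorem special_push {f : H → ℂ}
    (hf : ∀ g k, k ∈ center H → Odd (orderOf k) → f (g * k) = f g) {z : H} (hz : (π z : G) = t)
    (hsp : ∀ g, f g ≠ 0 → z ∈ zpowers g) : H84.SD.Special (push hc f) := by
  intro x hx
  obtain ⟨g, rfl⟩ := hc.surj x
  rw [push_apply hc hf] at hx
  obtain ⟨k, hk⟩ := mem_zpowers_iff.1 (hsp g hx)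
  refine ⟨k, ?_⟩
  show ((π g : centralizer ({t} : Set G)) : G) ^ k = t
  rw [← Subgroup.coe_zpow, ← map_zpow, hk, hz]

theorem pairs_push {f : H → ℂ}
    (hf : ∀ g k, k ∈ center H → Odd (orderOf k) → f (g * k) = f g) :
    ∑ x : centralizer ({t} : Set G), conj (push hc f x) * (H84.SD.pairs t x : ℂ) =
      conj (∑ g : H, ∑ h : H, invol g * invol h * f (g * h)) := by
  have hp : ∀ x : centralizer ({t} : Set G), (H84.SD.pairs t x : ℂ) =
      ∑ a : centralizer ({t} : Set G), invol a * invol (a⁻¹ * x) := by
    intro x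
    classical
    rw [H84.SD.pairs, Nat.card_eq_fintype_card, Fintype.card_subtype, Finset.natCast_card_filter]
    refine Finset.sum_congr rfl fun a _ => ?_
    unfold invol
    split_ifs <;> simp_all
  have hconj : ∀ x : centralizer ({t} : Set G), conj (invol x) = (invol x : ℂ) := fun x => by
    unfold invol; split_ifs <;> simp
  rw [← pairSum_push hc hf]
  simp only [hp, Finset.mul_sum, map_sum, map_mul, hconj]
  rw [Finset.sum_comm]
  refine Finset.sum_congr rfl fun a _ => ?_
  refine (Fintype.sum_equiv (Equiv.mulLeft a) _ _ fun b => ?_).symm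
  simp only [Equiv.coe_mulLeft, inv_mul_cancel_left]
  ring

end Centralizer

variable {A B : Type v} [CommGroup A] [Fintype A] [CommGroup B] [Fintype B] {Q : ℤ}

/-- On a table of two tori the separation is automatic. -/
theorem oddCover_table (D : H36.TwoTori.Table H A B Q) {π : H →* C} (hπ : Function.Surjective π)
    (hK : π.ker ≤ center H) (hKodd : Odd (Nat.card π.ker)) : OddCover π where
  surj := hπ
  central := hK
  odd := hKodd
  sep x g k hk h := by
    obtain ⟨a, rfl⟩ := D.center_le k (hK hk)
    have hodd : Odd (orderOf a) := by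
      refine hKodd.of_dvd_nat ?_
      have := orderOf_dvd_natCard (⟨D.T (a, a), hk⟩ : π.ker)
      rwa [← Subgroup.orderOf_coe, orderOf_injective D.T D.T_injective, Prod.orderOf,
        Nat.lcm_self] at this
    have h2 : a * a = 1 := by
      by_contra hne
      obtain ⟨α, hα⟩ := CommGroup.exists_apply_ne_one_of_hasEnoughRootsOfUnity A ℂ hne
      refine hα ?_
      obtain ⟨l, hl⟩ := CharInduce.IsChar.exists_hom_of_degree_one
        (CharBasic.IsIrr.isCharacter (D.irr_lin α)) (D.lin_at_one α)
      have e := congrArg l h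
      rw [map_mul l, map_mul l, map_mul l, map_inv, mul_inv_cancel_comm, left_eq_mul] at e
      have e2 := D.lin_centre α a
      rw [hl, e, Units.val_one, ← Units.val_mul, ← map_mul] at e2
      exact Units.ext e2.symm
    obtain ⟨j, hj⟩ := hodd
    have h3 := pow_orderOf_eq_one a
    rw [hj, pow_succ, pow_mul, pow_two, h2, one_pow, one_mul] at h3
    rw [h3]
    exact map_one D.T

end Cfsg.Agent.H3.SDOrder.Descent
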