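import Cfsg.Agent.H3.SDOrder.CuspTable
import Cfsg.Agent.BlockBasic.Roots

/-!
# The principal `2`-block of `GL(2, q)`, `q` odd

It consists of the characters all whose parameters are trivial on the elements of odd order.
-/

set_option autoImplicit false
set_option linter.unusedSectionVars false
set_option linter.style.haveILetI false

namespace Cfsg.Agent.H3.SDOrder

open Matrix Finset Cfsg.Agent.H53 Cfsg.Agent.BlockBasic
open scoped ComplexConjugate

variable {F : Type*} [Field F] [Fintype F] [DecidableEq F] [DecidableEq (MulChar F ℂ)]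

local notation "G2" => Matrix.GeneralLinearGroup (Fin 2) F
local notation "M2" => Matrix (Fin 2) (Fin 2) F
local notation "qF" => Fintype.card F

theorem odd_card {δ : F} (hδ : ¬ IsSquare δ) : Odd qF := by
  rw [Nat.odd_iff]
  exact FiniteField.odd_card_of_char_ne_two fun h => hδ (FiniteField.isSquare_of_char_two h δ)

/-- Trivial on the elements of odd order. -/
def OddTrivial {H : Type*} [Monoid H] (θ : H →* ℂˣ) : Prop := ∀ z, Odd (orderOf z) → θ z = 1

/-- Trivial on the elements of odd order. -/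
def OddTrivChar (α : MulChar F ℂ) : Prop := ∀ a : Fˣ, Odd (orderOf a) → α (a : F) = 1

theorem oddTrivChar_one : OddTrivChar (1 : MulChar F ℂ) := fun a _ => MulChar.one_apply a.isUnit

/-- A complex number with square one and an odd power one is one. -/
theorem eq_one_of_sq_odd {x : ℂ} {n : ℕ} (hn : Odd n) (hx : x ^ n = 1) (h2 : x * x = 1) : x = 1 := by
  obtain ⟨k, rfl⟩ := hn
  rwa [pow_succ, pow_mul, pow_two, h2, one_pow, one_mul] at hx

/-- Roots of unity of odd order with sum in `M` are equal. -/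
theorem eq_of_add_mem {M : Ideal Cfsg.AlgInt} (hM : Cfsg.IsPModular 2 M) {x y : ℂ} {n : ℕ}
    (hn : Odd n) (hx : x ^ n = 1) (hy : y ^ n = 1) (h : Cfsg.MemLocalIdeal M (x + y)) : x = y := by
  have hn2 : ¬ 2 ∣ n := fun hd => (Nat.not_even_iff_odd.2 hn) (even_iff_two_dvd.2 hd)
  have hpos : 0 < n := hn.pos
  let a : Cfsg.AlgInt := ⟨x, IsIntegral.of_pow hpos (by rw [hx]; exact isIntegral_one)⟩
  let b : Cfsg.AlgInt := ⟨y, IsIntegral.of_pow hpos (by rw [hy]; exact isIntegral_one)⟩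
  have hab : a + b ∈ M := (memLocalIdeal_coe_iff hM _).1 (by simpa [a, b] using h)
  have h2 : (2 : Cfsg.AlgInt) ∈ M := by exact_mod_cast hM.2.2
  have hsub : a - b ∈ M := by
    rw [show a - b = (a + b) - 2 * b by ring]
    exact M.sub_mem hab (M.mul_mem_right b h2)
  exact congrArg Subtype.val (root_unique hM (ε₁ := a) (ε₂ := b) hn2 hn2
    (Subtype.ext (by simpa [a] using hx)) (Subtype.ext (by simpa [b] using hy)) hsub)



/-- A character with finite order values. -/
theorem hom_pow_orderOf {H : Type*} [Monoid H] (θ : H →* ℂˣ) (z : H) :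
    (θ z : ℂ) ^ orderOf z = 1 := by
  rw [← Units.val_pow_eq_pow_val, ← map_pow, pow_orderOf_eq_one, map_one, Units.val_one]

theorem mulChar_pow_orderOf (α : MulChar F ℂ) (a : Fˣ) : α (a : F) ^ orderOf a = 1 := by
  rw [← map_pow, ← Units.val_pow_eq_pow_val, pow_orderOf_eq_one, Units.val_one, map_one]

theorem centralizer_conj_index {H : Type*} [Group H] (x g : H) :
    (Subgroup.centralizer ({x * g * x⁻¹} : Set H)).index =
      (Subgroup.centralizer ({g} : Set H)).index := by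
  rw [show Subgroup.centralizer ({x * g * x⁻¹} : Set H) =
    (Subgroup.centralizer ({g} : Set H)).map (MulAut.conj x).toMonoidHom from ?_]
  · exact Subgroup.index_map_of_bijective (MulAut.conj x).bijective _
  ext y
  simp only [Subgroup.mem_map, Subgroup.mem_centralizer_singleton_iff]
  constructor
  · intro h
    refine ⟨x⁻¹ * y * x, ?_, by simp [mul_assoc]⟩
    calc x⁻¹ * y * x * g = x⁻¹ * (y * (x * g * x⁻¹)) * x := by group
      _ = x⁻¹ * (x * g * x⁻¹ * y) * x := by rw [h]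
      _ = g * (x⁻¹ * y * x) := by group
  · rintro ⟨z, hz, rfl⟩
    simp only [MulEquiv.coe_toMonoidHom, MulAut.conj_apply]
    calc x * z * x⁻¹ * (x * g * x⁻¹) = x * (z * g) * x⁻¹ := by group
      _ = x * g * x⁻¹ * (x * z * x⁻¹) := by rw [hz]; group

theorem centralChar_conj {H : Type*} [Group H] {f : H → ℂ} (hf : Cfsg.IsClassFunction H f)
    {g h : H} (hc : IsConj g h) : Cfsg.centralChar f h = Cfsg.centralChar f g := by
  obtain ⟨x, rfl⟩ := isConj_iff.1 hc
  rw [Cfsg.centralChar, Cfsg.centralChar, centralizer_conj_index, hf g x]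

/-! ## Class sizes -/

theorem index_of_card {H : Subgroup G2} {c d : ℕ} (hH : Nat.card H = c) (hc : c ≠ 0)
    (h : Nat.card G2 = c * d) : H.index = d := by
  have := H.card_mul_index
  rw [hH, h] at this
  exact Nat.eq_of_mul_eq_mul_left (Nat.pos_of_ne_zero hc) this

theorem index_upper_ne {g : G2} (h10 : (g : M2) 1 0 = 0) (hne : (g : M2) 0 0 ≠ (g : M2) 1 1) :
    (Subgroup.centralizer ({g} : Set G2)).index = (qF + 1) * qF := by
  have h1 : 1 < qF := Fintype.one_lt_card
  refine index_of_card (Linear.card_centralizer_split hne (by rw [Matrix.trace_fin_two])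
    (by rw [Matrix.det_fin_two, h10, mul_zero, sub_zero]))
    (pow_ne_zero 2 (by omega)) ?_
  rw [Linear.card_GL_two]
  ring

theorem mul_scalarGL_comm (a : Fˣ) (g : G2) : g * scalarGL a = scalarGL a * g :=
  Subgroup.mem_center_iff.1 (scalarGL_mem_center a) g

theorem index_upper_eq {g : G2} (h10 : (g : M2) 1 0 = 0) (he : (g : M2) 0 0 = (g : M2) 1 1)
    (h01 : (g : M2) 0 1 ≠ 0) :
    (Subgroup.centralizer ({g} : Set G2)).index = (qF + 1) * (qF - 1) := by
  have h1 : 1 < qF := Fintype.one_lt_card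
  set a := Units.mk0 _ (entries_ne_zero h10).1
  set u : G2 := upGL 1 1 ((g : M2) 0 1 / (g : M2) 0 0)
  have e : g = u * scalarGL a := by
    apply Linear.GL_ext_two <;>
      simp [u, coe_upGL, coe_scalarGL, Linear.mul_two_apply, a, h10, ← he]
    rw [div_mul_cancel₀ _ (entries_ne_zero h10).1]
  have hu : u ∈ Linear.unitriGL 2 F := Linear.mem_unitriGL_two.2 (by simp [u, coe_upGL])
  have hu1 : u ≠ 1 := fun h => by
    have := congrArg (fun z : G2 => (z : M2) 0 1) h
    simp [u, coe_upGL, div_eq_zero_iff, h01, (entries_ne_zero h10).1] at this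
  have hcent : Subgroup.centralizer ({g} : Set G2) = Subgroup.centralizer ({u} : Set G2) := by
    ext x
    rw [Subgroup.mem_centralizer_singleton_iff, Subgroup.mem_centralizer_singleton_iff, e,
      ← mul_assoc, mul_assoc u, ← mul_scalarGL_comm a x, ← mul_assoc, mul_left_inj]
  rw [hcent]
  refine index_of_card (Linear.card_centralizer_unitri hu hu1)
    (Nat.mul_ne_zero (by omega) (by omega)) ?_
  rw [Linear.card_GL_two]
  ring

variable {δ : F} (hδ : ¬ IsSquare δ)

theorem index_torus {z : (Quad δ)ˣ} (hy : (z : Quad δ).im ≠ 0) :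
    (Subgroup.centralizer ({torusHom hδ z} : Set G2)).index = qF * (qF - 1) := by
  have h1 : 1 < qF := Fintype.one_lt_card
  have h2 : 1 ≤ qF ^ 2 := Nat.one_le_pow _ _ Fintype.card_pos
  refine index_of_card (Linear.card_centralizer_noEigen
    (Linear.noEigen_iff.1 (noEigen_torus hδ hy)))
    (by have : 1 < qF ^ 2 := Nat.one_lt_pow two_ne_zero h1; omega) ?_
  rw [Linear.card_GL_two, show qF ^ 2 - 1 = (qF + 1) * (qF - 1) by
    simpa using Nat.sq_sub_sq qF 1]
  ring

/-- Every element is conjugate to an upper triangular one or to one on the torus. -/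
theorem exists_conj_rep (g : G2) : ∃ h : G2, IsConj h g ∧
    ((h : M2) 1 0 = 0 ∨ ∃ z : (Quad δ)ˣ, (z : Quad δ).im ≠ 0 ∧ h = torusHom hδ z) := by
  by_cases hno : ∀ (c : F) (v : Fin 2 → F), v ≠ 0 → (g : M2).mulVec v ≠ c • v
  · obtain ⟨z, hz, hc⟩ := exists_torus_conj hδ hno
    exact ⟨_, hc, Or.inr ⟨z, hz, rfl⟩⟩
  · have hno' := mt Linear.noEigen_iff.2 hno
    push Not at hno'
    obtain ⟨c, hc⟩ := hno'
    by_cases hs : Linear.IsScalarTwo (g : M2)
    · exact ⟨g, IsConj.refl g, Or.inl hs.2.1⟩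
    · have hd : (g : M2).trace * c - c * c = (g : M2).det := by linear_combination -hc
      have hc0 : c ≠ 0 := fun e => Matrix.GeneralLinearGroup.det_ne_zero g
        (by rw [← hd, e, mul_zero, mul_zero, sub_zero])
      have hc1 : (g : M2).trace - c ≠ 0 := fun e => Matrix.GeneralLinearGroup.det_ne_zero g
        (by rw [← hd]; linear_combination c * e)
      refine ⟨upGL (Units.mk0 _ hc0) (Units.mk0 _ hc1) 1,
        isConj_of_trace_det (by simp [Linear.IsScalarTwo, coe_upGL]) hs ?_ ?_, Or.inl (by simp [coe_upGL])⟩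
      · simp [coe_upGL, Matrix.trace_fin_two]
      · rw [← hd]
        simp [coe_upGL, Matrix.det_fin_two]
        ring

/-- The powers of an upper triangular element. -/
theorem upper_pow {g : G2} (h10 : (g : M2) 1 0 = 0) (n : ℕ) :
    ((g ^ n : G2) : M2) 1 0 = 0 ∧ ((g ^ n : G2) : M2) 0 0 = (g : M2) 0 0 ^ n ∧
      ((g ^ n : G2) : M2) 1 1 = (g : M2) 1 1 ^ n := by
  induction n with
  | zero => simp
  | succ n ih =>
    simp only [Units.val_pow_eq_pow_val] at ih ⊢
    simp [pow_succ, Linear.mul_two_apply, h10, ih.1, ih.2.1, ih.2.2]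

theorem odd_entries {g : G2} (h10 : (g : M2) 1 0 = 0) (hg : Odd (orderOf g)) :
    Odd (orderOf (Units.mk0 _ (entries_ne_zero h10).1)) ∧
      Odd (orderOf (Units.mk0 _ (entries_ne_zero h10).2)) := by
  obtain ⟨-, h0, h1⟩ := upper_pow h10 (orderOf g)
  rw [pow_orderOf_eq_one, Units.val_one] at h0 h1
  constructor <;> refine hg.of_dvd_nat (orderOf_dvd_of_pow_eq_one (Units.ext ?_))
  · simpa using h0.symm
  · simpa using h1.symm

/-- The common test. -/
theorem mem_principal_of_values {M : Ideal Cfsg.AlgInt} (hM : Cfsg.IsPModular 2 M)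
    (ψ : Cfsg.IrrCharacter G2)
    (hs : ∀ a : Fˣ, Odd (orderOf a) → (ψ : G2 → ℂ) (scalarGL a) = (ψ : G2 → ℂ) 1)
    (hd : ∀ g : G2, (g : M2) 1 0 = 0 → Odd (orderOf g) → (g : M2) 0 0 ≠ (g : M2) 1 1 →
      ∃ m : ℤ, Even m ∧ Cfsg.centralChar (ψ : G2 → ℂ) g = m)
    (hu : ∀ g : G2, (g : M2) 1 0 = 0 → Odd (orderOf g) → (g : M2) 0 0 = (g : M2) 1 1 →
      (g : M2) 0 1 ≠ 0 → ∃ m : ℤ, Even m ∧ Cfsg.centralChar (ψ : G2 → ℂ) g = m)
    (ht : ∀ z : (Quad δ)ˣ, (z : Quad δ).im ≠ 0 → Odd (orderOf z) →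
      ∃ m : ℤ, Even m ∧ Cfsg.centralChar (ψ : G2 → ℂ) (torusHom hδ z) = m) :
    ψ ∈ Cfsg.principalBlock M G2 := by
  haveI : Fact (Nat.Prime 2) := ⟨hM.1⟩
  have hq := odd_card hδ
  have hev : Even (qF + 1) ∧ Even (qF - 1) := ⟨Nat.even_add_one.2 (Nat.not_even_iff_odd.2 hq), hq.tsub_odd odd_one⟩
  refine sameBlock_of_congr_regular hM (χ := ⟨fun _ => 1, CharBasic.isIrrCharacter_one⟩) (ψ := ψ)
    fun g hg => ?_
  obtain ⟨h, hc, hh⟩ := exists_conj_rep hδ g
  obtain ⟨x, hx⟩ := isConj_iff.1 hc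
  have hodd : Odd (orderOf h) := by
    rw [← Nat.not_even_iff_odd, even_iff_two_dvd,
      show orderOf h = orderOf g by rw [← hx]; exact (MulEquiv.orderOf_eq (MulAut.conj x) h).symm]
    exact hg
  have hfin : ∀ n : ℕ, Even n → (Subgroup.centralizer ({h} : Set G2)).index = n →
      (∃ m : ℤ, Even m ∧ Cfsg.centralChar (ψ : G2 → ℂ) h = m) →
      Cfsg.MemLocalIdeal M (Cfsg.centralChar (fun _ => (1 : ℂ)) h -
        Cfsg.centralChar (ψ : G2 → ℂ) h) := by
    rintro n hn hi ⟨m, hm, he⟩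
    rw [H82.centralChar_const_one, hi, he, ← Int.cast_natCast, ← Int.cast_sub,
      memLocalIdeal_intCast_iff hM]
    exact even_iff_two_dvd.1 (((Int.even_coe_nat n).2 hn).sub hm)
  rw [centralChar_conj (CharBasic.IsIrr.isClassFunction ψ.2) hc,
    centralChar_conj (f := fun _ : G2 => (1 : ℂ)) (fun _ _ => rfl) hc]
  rcases hh with h10 | ⟨z, hz, rfl⟩
  · by_cases hne : (h : M2) 0 0 = (h : M2) 1 1
    · by_cases h01 : (h : M2) 0 1 = 0
      · rw [H82.centralChar_const_one, Cfsg.centralChar, upper_scalar h10 hne h01,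
          hs _ (odd_entries h10 hodd).1, mul_div_assoc,
          div_self (irr_one_ne_zero ψ.2), mul_one, sub_self]
        exact memLocalIdeal_zero hM
      · exact hfin _ (hev.1.mul_right _) (index_upper_eq h10 hne h01) (hu h h10 hodd hne h01)
    · exact hfin _ (hev.1.mul_right _) (index_upper_ne h10 hne) (hd h h10 hodd hne)
  · rw [orderOf_injective _ (torusHom_injective hδ)] at hodd
    exact hfin _ (hev.2.mul_left _) (index_torus hδ hz) (ht z hz hodd)

theorem entries_oddTriv {α : MulChar F ℂ} (hα : OddTrivChar α) {g : G2}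
    (h10 : (g : M2) 1 0 = 0) (hg : Odd (orderOf g)) :
    α ((g : M2) 0 0) = 1 ∧ α ((g : M2) 1 1) = 1 :=
  ⟨hα _ (odd_entries h10 hg).1, hα _ (odd_entries h10 hg).2⟩

theorem det_oddTriv {α : MulChar F ℂ} (hα : OddTrivChar α) {g : G2} (hg : Odd (orderOf g)) :
    α (g : M2).det = 1 := by
  have h := hα (Matrix.GeneralLinearGroup.det g) (hg.of_dvd_nat (orderOf_map_dvd _ g))
  rwa [Matrix.GeneralLinearGroup.val_det_apply] at h

theorem filter_card_one {g : G2} (hne : (g : M2) 0 0 ≠ (g : M2) 1 1) :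
    (Finset.univ.filter fun t : F =>
      ((g : M2) 0 0 - (g : M2) 1 1) * t + (g : M2) 0 1 = 0).card = 1 := by
  rw [Finset.card_eq_one]
  refine ⟨-(g : M2) 0 1 / ((g : M2) 0 0 - (g : M2) 1 1), ?_⟩
  ext t
  simp only [Finset.mem_filter, Finset.mem_univ, true_and, Finset.mem_singleton]
  rw [eq_div_iff (sub_ne_zero.mpr hne)]
  constructor <;> intro h <;> linear_combination h

theorem linFun_mem {M : Ideal Cfsg.AlgInt} (hM : Cfsg.IsPModular 2 M) {α : MulChar F ℂ}
    (hα : OddTrivChar α) :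
    (⟨linFun α, isIrrCharacter_linFun α⟩ : Cfsg.IrrCharacter G2) ∈ Cfsg.principalBlock M G2 := by
  refine sameBlock_of_congr_regular (hp := ⟨hM.1⟩) hM
    (χ := ⟨fun _ => 1, CharBasic.isIrrCharacter_one⟩) fun g hg => ?_
  have e : linFun α g = 1 :=
    det_oddTriv hα (Nat.not_even_iff_odd.1 fun h => hg (even_iff_two_dvd.1 h))
  simp only [Cfsg.centralChar, e, linFun_one, sub_self]
  exact memLocalIdeal_zero hM

include hδ in
theorem stFun_mem {M : Ideal Cfsg.AlgInt} (hM : Cfsg.IsPModular 2 M) {α : MulChar F ℂ}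
    (hα : OddTrivChar α) :
    (⟨stFun α, isIrrCharacter_stFun α⟩ : Cfsg.IrrCharacter G2) ∈ Cfsg.principalBlock M G2 := by
  have hq := odd_card hδ
  have hq0 : (qF : ℂ) ≠ 0 := Nat.cast_ne_zero.2 Fintype.card_ne_zero
  have hev : Even ((qF : ℤ) + 1) := ((Int.odd_coe_nat _).2 hq).add_one
  have hev' : Even ((qF : ℤ) - 1) := ((Int.odd_coe_nat _).2 hq).sub_odd odd_one
  refine mem_principal_of_values hδ hM _ (fun a ha => ?_) (fun g h10 hg hne => ?_)
    (fun g h10 hg he h01 => ?_) (fun z hz hzo => ?_) <;> dsimp only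
  · rw [stFun_scalar, stFun_one, hα a ha]; ring
  · obtain ⟨e0, e1⟩ := entries_oddTriv hα h10 hg
    refine ⟨qF + 1, hev, ?_⟩
    rw [Cfsg.centralChar, index_upper_ne h10 hne, stFun_one, stFun, Pi.sub_apply,
      prin_upper _ _ h10, filter_card_one hne, linFun, det_oddTriv hα hg, e0, e1]
    push_cast
    field_simp
    ring
  · obtain ⟨e0, e1⟩ := entries_oddTriv hα h10 hg
    refine ⟨0, ⟨0, rfl⟩, ?_⟩
    rw [Cfsg.centralChar, stFun, Pi.sub_apply, prin_upper_eq _ _ h10 he h01, linFun,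
      det_oddTriv hα hg, e0]
    simp
  · refine ⟨-(qF - 1), hev'.neg, ?_⟩
    have hzo' : Odd (orderOf (torusHom hδ z)) := by
      rwa [orderOf_injective _ (torusHom_injective hδ)]
    rw [Cfsg.centralChar, index_torus hδ hz, stFun_one, stFun, Pi.sub_apply,
      prin_noEigen _ _ (noEigen_torus hδ hz), linFun, det_oddTriv hα hzo']
    rw [Nat.cast_mul, Nat.cast_sub Fintype.card_pos]
    push_cast
    field_simp
    ring

include hδ in
theorem prin_mem {M : Ideal Cfsg.AlgInt} (hM : Cfsg.IsPModular 2 M) {α β : MulChar F ℂ}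
    (hα : OddTrivChar α) (hβ : OddTrivChar β) (hαβ : α ≠ β) :
    (⟨prin α β, isIrrCharacter_prin hαβ⟩ : Cfsg.IrrCharacter G2) ∈ Cfsg.principalBlock M G2 := by
  have hq := odd_card hδ
  have hq1 : (qF : ℂ) + 1 ≠ 0 := Nat.cast_add_one_ne_zero _
  have hev' : Even ((qF : ℤ) - 1) := ((Int.odd_coe_nat _).2 hq).sub_odd odd_one
  refine mem_principal_of_values hδ hM _ (fun a ha => ?_) (fun g h10 hg hne => ?_)
    (fun g h10 hg he h01 => ?_) (fun z hz hzo => ?_) <;> dsimp only
  · rw [prin_scalar, prin_one, hα a ha, hβ a ha]; ring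
  · obtain ⟨a0, a1⟩ := entries_oddTriv hα h10 hg
    obtain ⟨b0, b1⟩ := entries_oddTriv hβ h10 hg
    refine ⟨2 * qF, even_two_mul _, ?_⟩
    rw [Cfsg.centralChar, index_upper_ne h10 hne, prin_one,
      prin_upper _ _ h10, filter_card_one hne, a0, a1, b0, b1]
    push_cast
    field_simp
    ring
  · refine ⟨qF - 1, hev', ?_⟩
    rw [Cfsg.centralChar, index_upper_eq h10 he h01, prin_one, prin_upper_eq _ _ h10 he h01,
      (entries_oddTriv hα h10 hg).1, (entries_oddTriv hβ h10 hg).1]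
    rw [Nat.cast_mul, Nat.cast_sub Fintype.card_pos]
    push_cast
    field_simp
  · refine ⟨0, ⟨0, rfl⟩, ?_⟩
    rw [Cfsg.centralChar, prin_noEigen _ _ (noEigen_torus hδ hz)]
    simp

variable (θ : (Quad δ)ˣ →* ℂˣ)

theorem scalUnit_injective : Function.Injective (scalUnit (δ := δ) : Fˣ →* (Quad δ)ˣ) :=
  fun a b h => Units.ext (by
    simpa [re_scalUnit] using congrArg (fun z : (Quad δ)ˣ => (z : Quad δ).re) h)

theorem centChar_oddTriv {θ : (Quad δ)ˣ →* ℂˣ} (hθ : OddTrivial θ) :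
    OddTrivChar (centChar θ) := fun a ha => by
  rw [centChar_apply, hθ _ (by rwa [orderOf_injective _ scalUnit_injective]), Units.val_one]

theorem cusp_mem {M : Ideal Cfsg.AlgInt} (hM : Cfsg.IsPModular 2 M) {θ : (Quad δ)ˣ →* ℂˣ}
    (hθ : OddTrivial θ) (hfix : θ.comp conjUnit ≠ θ) :
    (⟨cusp hδ θ, isIrrCharacter_cusp hδ θ hfix⟩ : Cfsg.IrrCharacter G2) ∈
      Cfsg.principalBlock M G2 := by
  have hq := odd_card hδ
  have hq1 : (qF : ℂ) - 1 ≠ 0 := by
    rw [sub_ne_zero, Nat.cast_ne_one]; exact Fintype.one_lt_card.ne'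
  refine mem_principal_of_values hδ hM _ (fun a ha => ?_) (fun g h10 hg hne => ?_)
    (fun g h10 hg he h01 => ?_) (fun z hz hzo => ?_) <;> dsimp only
  · rw [cusp_scalar, cusp_one, centChar_oddTriv hθ a ha, mul_one]
  · refine ⟨0, ⟨0, rfl⟩, ?_⟩
    rw [Cfsg.centralChar, cusp_upper_ne hδ θ h10 hne]
    simp
  · refine ⟨-(qF + 1), (((Int.odd_coe_nat _).2 hq).add_one).neg, ?_⟩
    rw [Cfsg.centralChar, index_upper_eq h10 he h01, cusp_one, cusp_upper_eq hδ θ h10 he h01,
      (entries_oddTriv (centChar_oddTriv hθ) h10 hg).1]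
    rw [Nat.cast_mul, Nat.cast_sub Fintype.card_pos]
    push_cast
    field_simp
  · refine ⟨-(2 * qF), (even_two_mul _).neg, ?_⟩
    have hcz : θ (conjUnit z) = 1 := hθ _ (hzo.of_dvd_nat (orderOf_map_dvd _ z))
    rw [Cfsg.centralChar, index_torus hδ hz, cusp_one, cusp_torus hδ θ hz, hθ z hzo, hcz]
    rw [Nat.cast_mul, Nat.cast_sub Fintype.card_pos]
    push_cast
    field_simp
    ring

/-- Sum of the two root values at a split or torus element of odd order. -/
theorem eq_of_centralChar_mem {M : Ideal Cfsg.AlgInt} (hM : Cfsg.IsPModular 2 M)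
    {ψ : Cfsg.IrrCharacter G2} (hψ : ψ ∈ Cfsg.principalBlock M G2) {g : G2} {x y : ℂ}
    {n : ℕ} (hn : Odd n) (hx : x ^ n = 1) (hy : y ^ n = 1)
    (hi : Even (Subgroup.centralizer ({g} : Set G2)).index) {c : ℤ} (hc : Odd c)
    (he : Cfsg.centralChar (ψ : G2 → ℂ) g = (c : ℂ) * (x + y)) : x = y := by
  have h := (H82.mem_principalBlock_iff ψ).1 hψ g
  have h2 : Cfsg.MemLocalIdeal M ((Subgroup.centralizer ({g} : Set G2)).index : ℂ) :=
    (memLocalIdeal_natCast_iff hM _).2 (even_iff_two_dvd.1 hi)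
  have h3 := memLocalIdeal_sub hM h2 h
  rw [sub_sub_cancel, he] at h3
  refine eq_of_add_mem hM hn hx hy ?_
  have hxy : Cfsg.MemLocalRing M (x + y) := memLocalRing_add hM
    (memLocalRing_of_isIntegral hM (IsIntegral.of_pow hn.pos (by rw [hx]; exact isIntegral_one)))
    (memLocalRing_of_isIntegral hM (IsIntegral.of_pow hn.pos (by rw [hy]; exact isIntegral_one)))
  refine ((memLocalIdeal_mul_iff hM (memLocalRing_of_isIntegral hM isIntegral_algebraMap) hxy).1
    h3).resolve_left fun hc' => ?_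
  exact Int.not_even_iff_odd.2 hc (even_iff_two_dvd.2 ((memLocalIdeal_intCast_iff hM c).1 hc'))

/-- The scalars of odd order act trivially in the principal block. -/
theorem apply_scalar_of_mem {M : Ideal Cfsg.AlgInt} (hM : Cfsg.IsPModular 2 M)
    {ψ : Cfsg.IrrCharacter G2} (hψ : ψ ∈ Cfsg.principalBlock M G2) {a : Fˣ}
    (ha : Odd (orderOf a)) : (ψ : G2 → ℂ) (scalarGL a) = (ψ : G2 → ℂ) 1 := by
  haveI : (Subgroup.zpowers (scalarHom a : G2)).Normal :=
    ⟨fun n hn g => by
      obtain ⟨k, rfl⟩ := Subgroup.mem_zpowers_iff.1 hn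
      have hc : (scalarHom a : G2) ^ k ∈ Subgroup.center G2 :=
        zpow_mem (scalarGL_mem_center a) k
      rw [Subgroup.mem_center_iff.1 hc g, mul_inv_cancel_right]
      exact hn⟩
  refine H82.apply_eq_of_mem_principalBlock hM hψ (Subgroup.zpowers (scalarHom a : G2)) ?_
    (Subgroup.mem_zpowers (scalarHom a : G2))
  rw [Nat.card_zpowers]
  intro hd
  exact Nat.not_even_iff_odd.2 ha (even_iff_two_dvd.2 (hd.trans (orderOf_map_dvd _ a)))

/-- The principal block: every parameter is trivial on elements of odd order. -/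
theorem principal_cases {M : Ideal Cfsg.AlgInt} (hM : Cfsg.IsPModular 2 M)
    {ψ : Cfsg.IrrCharacter G2} (hψ : ψ ∈ Cfsg.principalBlock M G2) :
    (∃ α, OddTrivChar α ∧ (ψ : G2 → ℂ) = linFun α) ∨
    (∃ α, OddTrivChar α ∧ (ψ : G2 → ℂ) = stFun α) ∨
    (∃ α β, OddTrivChar α ∧ OddTrivChar β ∧ α ≠ β ∧ (ψ : G2 → ℂ) = prin α β) ∨
    ∃ θ : (Quad δ)ˣ →* ℂˣ, OddTrivial θ ∧ θ.comp conjUnit ≠ θ ∧ (ψ : G2 → ℂ) = cusp hδ θ := by
  have hq := odd_card hδ
  have hs := fun a (ha : Odd (orderOf a)) => apply_scalar_of_mem hM hψ (a := a) ha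
  have hqz : Odd ((qF : ℤ)) := (Int.odd_coe_nat _).2 hq
  rcases gl_cases ψ.2 with ⟨α, hα⟩ | ⟨α, hα⟩ | ⟨α, β, hne, hα⟩ | hc
  · refine Or.inl ⟨α, fun a ha => eq_one_of_sq_odd ha (mulChar_pow_orderOf α a) ?_, hα⟩
    simpa [hα, linFun_scalar, linFun_one] using hs a ha
  · refine Or.inr (Or.inl ⟨α, fun a ha => eq_one_of_sq_odd ha (mulChar_pow_orderOf α a) ?_, hα⟩)
    have := hs a ha
    rw [hα, stFun_scalar, stFun_one] at this
    exact (mul_eq_left₀ (Nat.cast_ne_zero.2 Fintype.card_ne_zero)).1 this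
  · refine Or.inr (Or.inr (Or.inl ⟨α, β, ?_⟩))
    have hboth : ∀ a : Fˣ, Odd (orderOf a) → α (a : F) = 1 ∧ β (a : F) = 1 := by
      intro a ha
      have h1 := hs a ha
      rw [hα, prin_scalar, prin_one, mul_eq_left₀ (Nat.cast_add_one_ne_zero _)] at h1
      by_cases ha1 : a = 1
      · simp [ha1]
      have hne1 : (a : F) ≠ 1 := fun e => ha1 (Units.ext e)
      set g : G2 := upGL a 1 0
      have h10 : (g : M2) 1 0 = 0 := by simp [g, coe_upGL]
      have hd : (g : M2) 0 0 ≠ (g : M2) 1 1 := by simpa [g, coe_upGL] using hne1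
      have hxy : α (a : F) = β (a : F) := by
        refine eq_of_centralChar_mem hM hψ (g := g) ha (mulChar_pow_orderOf α a)
          (mulChar_pow_orderOf β a) ?_ hqz ?_
        · rw [index_upper_ne h10 hd]
          exact (Nat.even_add_one.2 (Nat.not_even_iff_odd.2 hq)).mul_right _
        · rw [Cfsg.centralChar, index_upper_ne h10 hd, hα, prin_one, prin_upper _ _ h10,
            filter_card_one hd]
          have := Nat.cast_add_one_ne_zero (R := ℂ) qF
          simp [g, coe_upGL]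
          field_simp
      rw [← hxy] at h1
      have := eq_one_of_sq_odd ha (mulChar_pow_orderOf α a) h1
      exact ⟨this, hxy ▸ this⟩
    exact ⟨fun a ha => (hboth a ha).1, fun a ha => (hboth a ha).2, hne, hα⟩
  · obtain ⟨θ, hfix, he⟩ := exists_cusp_eq hδ hc
    refine Or.inr (Or.inr (Or.inr ⟨θ, ?_, hfix, he⟩))
    have hq1 : (qF : ℂ) - 1 ≠ 0 := by
      rw [sub_ne_zero, Nat.cast_ne_one]; exact Fintype.one_lt_card.ne'
    intro z hz
    have hcen : ∀ a : Fˣ, Odd (orderOf a) → (θ (scalUnit a) : ℂ) = 1 := by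
      intro a ha
      have h1 := hs a ha
      rw [he, cusp_scalar, cusp_one, mul_eq_left₀ hq1, centChar_apply] at h1
      exact h1
    by_cases hy : (z : Quad δ).im = 0
    · obtain ⟨a, rfl⟩ := exists_scalUnit_eq hy
      exact Units.ext (hcen a (by rwa [orderOf_injective _ scalUnit_injective] at hz))
    have hxy : (θ z : ℂ) = (θ (conjUnit z) : ℂ) := by
      refine eq_of_centralChar_mem hM hψ (g := torusHom hδ z) hz (hom_pow_orderOf θ z)
        (hom_pow_orderOf (θ.comp conjUnit) z) ?_ hqz.neg ?_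
      · rw [index_torus hδ hy]
        exact (hq.tsub_odd odd_one).mul_left _
      · rw [Cfsg.centralChar, index_torus hδ hy, he, cusp_one, cusp_torus hδ θ hy,
          Nat.cast_mul, Nat.cast_sub Fintype.card_pos]
        push_cast
        field_simp
    refine Units.ext (eq_one_of_sq_odd hz (hom_pow_orderOf θ z) ?_)
    nth_rw 2 [hxy]
    have hy0 : (z * conjUnit z : (Quad δ)ˣ).1.im = 0 := by
      simp [re_conjUnit, im_conjUnit]; ring
    obtain ⟨b, hb⟩ := exists_scalUnit_eq hy0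
    have hbo : Odd (orderOf b) := hz.of_dvd_nat (orderOf_dvd_of_pow_eq_one (scalUnit_injective (δ := δ) (by
      rw [map_pow, hb, map_one, mul_pow, pow_orderOf_eq_one, one_mul, ← map_pow,
        pow_orderOf_eq_one, map_one])))
    rw [← Units.val_mul, ← map_mul, ← hb]
    exact hcen b hbo

end Cfsg.Agent.H3.SDOrder
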