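import Cfsg.Agent.H3.SDOrder.GLTwoPower
import Cfsg.Agent.H83.ClassConst

/-!
# The principal-block functions of `GL(2, q)`, `q ≡ 3 (mod 4)`, for the involution `-1`

`a₁ = 1 + St_ν - prin(1, ν)`, `a₂ = ν + St - prin(1, ν)` and `a₃ θ = 1 + ν + cusp θ - prin(1, ν)`
vanish on every element not having `-1` as a power, their combination gives the principal block
part of the column at `-1`, and their sums over products of two involutions are computed.
-/

set_option autoImplicit false
set_option linter.unusedSectionVars false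
set_option linter.style.haveILetI false

namespace Cfsg.Agent.H3.SDOrder

open Matrix Finset Cfsg.Agent.H53
open scoped ComplexConjugate

variable {F : Type*} [Field F] [Fintype F] [DecidableEq F] [DecidableEq (MulChar F ℂ)]

local notation "G2" => Matrix.GeneralLinearGroup (Fin 2) F
local notation "M2" => Matrix (Fin 2) (Fin 2) F
local notation "qF" => Fintype.card F

/-! ## Powers of upper triangular elements -/

theorem upGL_pow (c : F) (n : ℕ) : (upGL 1 1 c : G2) ^ n = upGL 1 1 ((n : F) * c) := by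
  induction n with
  | zero => simp [upGL_one]
  | succ n ih =>
    rw [pow_succ, ih]
    apply Linear.GL_ext_two <;> simp [coe_upGL, Linear.mul_two_apply]
    ring

/-- With equal diagonal entries the `q`-th power is scalar. -/
theorem upper_pow_card {g : G2} (h10 : (g : M2) 1 0 = 0) (he : (g : M2) 0 0 = (g : M2) 1 1) :
    g ^ qF = scalarGL (Units.mk0 _ (entries_ne_zero h10).1) := by
  set a := Units.mk0 _ (entries_ne_zero h10).1
  have e : g = upGL 1 1 ((g : M2) 0 1 / (g : M2) 0 0) * scalarGL a := by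
    apply Linear.GL_ext_two <;> simp [coe_upGL, coe_scalarGL, Linear.mul_two_apply, a, h10, ← he]
    rw [div_mul_cancel₀ _ (entries_ne_zero h10).1]
  have hpow : a ^ qF = a := Units.ext (by rw [Units.val_pow_eq_pow_val, FiniteField.pow_card])
  conv_lhs => rw [e, (show Commute _ _ from mul_scalarGL_comm a _).mul_pow, upGL_pow]
  rw [FiniteField.cast_card_eq_zero, zero_mul, upGL_one, one_mul,
    show (scalarGL a : G2) ^ qF = scalarHom (a ^ qF) from (map_pow scalarHom a qF).symm, hpow]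
  rfl

theorem torusHom_neg_one {δ : F} (hδ : ¬ IsSquare δ) :
    torusHom hδ (-1) = scalarGL (-1 : Fˣ) := by
  rw [← torusHom_scalUnit hδ]
  congr 1
  exact Units.ext (QuadraticAlgebra.ext (by simp [re_scalUnit, QuadraticAlgebra.re_one])
    (by simp [im_scalUnit, QuadraticAlgebra.im_one]))

theorem scalUnit_neg_one (δ : F) : (scalUnit (-1 : Fˣ) : (Quad δ)ˣ) = -1 :=
  Units.ext (QuadraticAlgebra.ext (by simp [re_scalUnit, QuadraticAlgebra.re_one])
    (by simp [im_scalUnit, QuadraticAlgebra.im_one]))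

/-- A scalar of even order has `-1` as a power. -/
theorem scalar_neg_one_mem {a : Fˣ} (ha : ¬ Odd (orderOf a)) :
    (scalarGL (-1 : Fˣ) : G2) ∈ Subgroup.zpowers (scalarGL a) := by
  obtain ⟨k, hk⟩ := Nat.not_odd_iff_even.1 ha
  have h : ((a ^ k : Fˣ) : F) * (a ^ k : Fˣ) = 1 := by
    rw [← Units.val_mul, ← pow_add, ← hk, pow_orderOf_eq_one, Units.val_one]
  have hne : a ^ k ≠ 1 := pow_ne_one_of_lt_orderOf (by have := orderOf_pos a; omega)
    (by have := orderOf_pos a; omega)
  have e : a ^ k = -1 := Units.ext ((mul_self_eq_one_iff.1 h).resolve_left fun h1 => hne (Units.ext h1))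
  exact ⟨(k : ℤ), show (scalarHom a : G2) ^ (k : ℤ) = scalarHom (-1) by
    rw [zpow_natCast, ← map_pow, e]⟩

/-- Elements with non-square entries on the diagonal have `-1` as a power. -/
theorem upper_neg_one_mem (hq : qF % 4 = 3) {g : G2} (h10 : (g : M2) 1 0 = 0)
    (h0 : qchar ((g : M2) 0 0) = -1) (h1 : qchar ((g : M2) 1 1) = -1) :
    (scalarGL (-1 : Fˣ) : G2) ∈ Subgroup.zpowers g := by
  have hp : ∀ x : F, x ≠ 0 → qchar x = -1 → x ^ (qF / 2) = -1 := by
    intro x hx h
    rcases quadraticChar_dichotomy hx with e | e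
    · exfalso
      rw [qchar, MulChar.ringHomComp_apply, e] at h
      norm_num at h
    · rw [← quadraticChar_eq_pow_of_char_ne_two' (ringChar_ne_two hq), e]
      simp
  obtain ⟨e10, e0, e1⟩ := upper_pow h10 (qF / 2)
  rw [hp _ (entries_ne_zero h10).1 h0] at e0
  rw [hp _ (entries_ne_zero h10).2 h1] at e1
  refine Subgroup.mem_zpowers_iff.2 ⟨((qF / 2 * qF : ℕ) : ℤ), ?_⟩
  rw [zpow_natCast, pow_mul, upper_pow_card e10 (e0.trans e1.symm)]
  congr 1
  exact Units.ext (by rw [Units.val_mk0, e0, Units.val_neg, Units.val_one])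

theorem linFun_one_eq : linFun (1 : MulChar F ℂ) = fun _ : G2 => (1 : ℂ) :=
  funext fun g => MulChar.one_apply (isUnit_iff_ne_zero.2 (Matrix.GeneralLinearGroup.det_ne_zero g))

theorem stFun_upper_ne (α : MulChar F ℂ) {g : G2} (h10 : (g : M2) 1 0 = 0)
    (hne : (g : M2) 0 0 ≠ (g : M2) 1 1) :
    stFun α g = α ((g : M2) 0 0) * α ((g : M2) 1 1) := by
  rw [stFun, Pi.sub_apply, prin_upper _ _ h10, filter_card_one hne, linFun, Matrix.det_fin_two, h10,
    mul_zero, sub_zero, map_mul]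
  push_cast
  ring

theorem stFun_upper_eq (α : MulChar F ℂ) {g : G2} (h10 : (g : M2) 1 0 = 0)
    (he : (g : M2) 0 0 = (g : M2) 1 1) (h01 : (g : M2) 0 1 ≠ 0) : stFun α g = 0 := by
  rw [stFun, Pi.sub_apply, prin_upper_eq _ _ h10 he h01, linFun, Matrix.det_fin_two, h10,
    mul_zero, sub_zero, map_mul, ← he, sub_self]

/-- The reflection. -/
noncomputable abbrev reflGL : G2 := upGL 1 (-1) 0

/-- The involutions. -/
theorem orderOf_two_iff (hq : qF % 4 = 3) (g : G2) :
    orderOf g = 2 ↔ g = scalarGL (-1) ∨ IsConj reflGL g := by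
  have h2 : (2 : F) ≠ 0 := Ring.two_ne_zero (ringChar_ne_two hq)
  have hm : ((-1 : F)) ≠ 1 := fun e => h2 (by linear_combination -e)
  have hiff : ∀ x : G2, orderOf x = 2 ↔ x * x = 1 ∧ x ≠ 1 := fun x => by
    rw [orderOf_eq_prime_iff, pow_two]
  constructor
  · intro h
    obtain ⟨h2g, hne⟩ := (hiff g).1 h
    by_cases hs : Linear.IsScalarTwo (g : M2)
    · left
      have e00 := congrArg (fun z : G2 => (z : M2) 0 0) h2g
      simp [Linear.mul_two_apply, hs.1] at e00
      rcases mul_self_eq_one_iff.1 e00 with e | e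
      · exfalso; apply hne
        apply Linear.GL_ext_two <;> simp [hs.1, hs.2.1, ← hs.2.2, e]
      · apply Linear.GL_ext_two <;> simp [coe_scalarGL, hs.1, hs.2.1, ← hs.2.2, e]
    · right
      refine isConj_of_trace_det (fun hh => hm (by simpa [coe_upGL] using hh.2.2.symm)) hs ?_ ?_
      all_goals
        have e00 := congrArg (fun z : G2 => (z : M2) 0 0) h2g
        have e01 := congrArg (fun z : G2 => (z : M2) 0 1) h2g
        have e10 := congrArg (fun z : G2 => (z : M2) 1 0) h2g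
        have e11 := congrArg (fun z : G2 => (z : M2) 1 1) h2g
        simp [Linear.mul_two_apply] at e00 e01 e10 e11
        have htr : (g : M2) 0 0 + (g : M2) 1 1 = 0 := by
          by_contra htr
          have b : (g : M2) 0 1 = 0 := by
            refine (mul_eq_zero.1 (show (g : M2) 0 1 * ((g : M2) 0 0 + (g : M2) 1 1) = 0 by
              linear_combination e01)).resolve_right htr
          have c : (g : M2) 1 0 = 0 := by
            refine (mul_eq_zero.1 (show (g : M2) 1 0 * ((g : M2) 0 0 + (g : M2) 1 1) = 0 by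
              linear_combination e10)).resolve_right htr
          refine hs ⟨b, c, ?_⟩
          exact sub_eq_zero.1 ((mul_eq_zero.1 (show ((g : M2) 0 0 - (g : M2) 1 1) *
            ((g : M2) 0 0 + (g : M2) 1 1) = 0 by linear_combination e00 - e11)).resolve_right htr)
      · simp [coe_upGL, Matrix.trace_fin_two, htr]
      · simp [coe_upGL, Matrix.det_fin_two]
        linear_combination e00 - (g : M2) 0 0 * htr
  · rintro (rfl | hc)
    · refine (hiff _).2 ⟨?_, fun e => hm ?_⟩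
      · apply Linear.GL_ext_two <;> simp [coe_scalarGL, Linear.mul_two_apply]
      · simpa [coe_scalarGL] using congrArg (fun z : G2 => (z : M2) 0 0) e
    · obtain ⟨x, rfl⟩ := isConj_iff.1 hc
      rw [show orderOf (x * reflGL * x⁻¹) = orderOf (reflGL : G2) from
        MulEquiv.orderOf_eq (MulAut.conj x) reflGL]
      refine (hiff _).2 ⟨?_, fun e => hm ?_⟩
      · apply Linear.GL_ext_two <;> simp [coe_upGL, Linear.mul_two_apply]
      · simpa [coe_upGL] using congrArg (fun z : G2 => (z : M2) 1 1) e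

theorem scalar_neg_one_ne_refl (hq : qF % 4 = 3) : ¬ IsConj (reflGL : G2) (scalarGL (-1)) :=
  fun h => by
    have h2 : (2 : F) ≠ 0 := Ring.two_ne_zero (ringChar_ne_two hq)
    have := (trace_det_of_isConj h).1
    simp [coe_upGL, coe_scalarGL, Matrix.trace_fin_two] at this
    exact h2 (by linear_combination this)

open scoped Classical in
/-- The indicator of the involutions. -/
noncomputable def involInd {H : Type*} [Group H] (g : H) : ℂ := if orderOf g = 2 then 1 else 0

theorem isClassFunction_involInd (H : Type*) [Group H] :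
    Cfsg.IsClassFunction H (involInd (H := H)) := fun g x => by
  unfold involInd
  rw [show orderOf (x * g * x⁻¹) = orderOf g from MulEquiv.orderOf_eq (MulAut.conj x) g]

/-- Sums over products of two involutions. -/
theorem sum_invol_irr (hq : qF % 4 = 3) (ψ : Cfsg.IrrCharacter G2) :
    (∑ g : G2, ∑ h : G2, involInd g * involInd h * (ψ : G2 → ℂ) (g * h)) =
      ((ψ : G2 → ℂ) (scalarGL (-1)) + ((qF : ℂ) + 1) * qF * (ψ : G2 → ℂ) reflGL) ^ 2 /
        (ψ : G2 → ℂ) 1 := by
  classical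
  rw [eq_div_iff (CharBasic.IsIrr.one_ne_zero ψ.2),
    H83.omega_mul (isClassFunction_involInd _) (isClassFunction_involInd _) ψ.2, ← sq]
  congr 1
  have h2 : (2 : F) ≠ 0 := Ring.two_ne_zero (ringChar_ne_two hq)
  have hne : ((reflGL : G2) : M2) 0 0 ≠ ((reflGL : G2) : M2) 1 1 := by
    intro e
    simp [coe_upGL] at e
    exact h2 (by linear_combination e)
  have hsplit : ∀ g : G2, involInd g * (ψ : G2 → ℂ) g =
      (if g = scalarGL (-1) then (ψ : G2 → ℂ) g else 0) + H83.classInd reflGL g * (ψ : G2 → ℂ) g := by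
    intro g
    unfold involInd H83.classInd
    by_cases h1 : g = scalarGL (-1)
    · subst h1
      rw [if_pos ((orderOf_two_iff hq _).2 (Or.inl rfl)), if_pos rfl,
        if_neg (scalar_neg_one_ne_refl hq)]
      ring
    · by_cases h3 : IsConj reflGL g
      · rw [if_pos ((orderOf_two_iff hq _).2 (Or.inr h3)), if_neg h1, if_pos h3]
        ring
      · rw [if_neg (fun h => (not_or.2 ⟨h1, h3⟩) ((orderOf_two_iff hq g).1 h)), if_neg h1, if_neg h3]
        ring
  rw [Finset.sum_congr rfl fun g _ => hsplit g, Finset.sum_add_distrib, Finset.sum_ite_eq',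
    if_pos (Finset.mem_univ _), H83.sum_classInd_mul (CharBasic.IsIrr.isClassFunction ψ.2),
    H83.classSize_eq_index, index_upper_ne (by simp [coe_upGL]) hne]
  push_cast
  ring

/-- The functions on `GL(2, q)` and their properties. -/
structure GLData (F : Type*) [Field F] [Fintype F] [DecidableEq F] (J : Type) [Fintype J] where
  a₁ : Matrix.GeneralLinearGroup (Fin 2) F → ℂ
  a₂ : Matrix.GeneralLinearGroup (Fin 2) F → ℂ
  a₃ : J → Matrix.GeneralLinearGroup (Fin 2) F → ℂ
  s : J → ℤ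
  hJ : 3 ≤ Fintype.card J
  hs : ∑ j, s j = -1
  hs2 : ∀ j, s j = 1 ∨ s j = -1
  gen : ∀ f, (f = a₁ ∨ f = a₂ ∨ ∃ j, f = a₃ j) → Cfsg.IsGeneralizedCharacter _ f
  special : ∀ f, (f = a₁ ∨ f = a₂ ∨ ∃ j, f = a₃ j) → ∀ g, f g ≠ 0 →
    scalarGL (-1) ∈ Subgroup.zpowers g
  scalarInv : ∀ f, (f = a₁ ∨ f = a₂ ∨ ∃ j, f = a₃ j) → ∀ g (a : Fˣ), Odd (orderOf a) →
    f (g * scalarGL a) = f g
  g11 : Cfsg.classInner a₁ a₁ = 3
  g22 : Cfsg.classInner a₂ a₂ = 3
  g12 : Cfsg.classInner a₁ a₂ = 1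
  g13 : ∀ j, Cfsg.classInner a₁ (a₃ j) = 2
  g23 : ∀ j, Cfsg.classInner a₂ (a₃ j) = 2
  g33 : ∀ j, Cfsg.classInner (a₃ j) (a₃ j) = 4
  g34 : ∀ j k, j ≠ k → Cfsg.classInner (a₃ j) (a₃ k) = 3
  one₁ : Cfsg.classInner a₁ (fun _ => 1) = 1
  one₂ : Cfsg.classInner a₂ (fun _ => 1) = 0
  one₃ : ∀ j, Cfsg.classInner (a₃ j) (fun _ => 1) = 1
  pairs₁ : (∑ g, ∑ h, involInd g * involInd h * a₁ (g * h)) =
    (((Fintype.card F : ℂ) + 1) * Fintype.card F) ^ 2 * (1 + (Fintype.card F : ℂ)⁻¹)
  pairs₂ : (∑ g, ∑ h, involInd g * involInd h * a₂ (g * h)) =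
    (((Fintype.card F : ℂ) + 1) * Fintype.card F) ^ 2 * (1 + (Fintype.card F : ℂ)⁻¹)
  pairs₃ : ∀ j, (∑ g, ∑ h, involInd g * involInd h * a₃ j (g * h)) =
    (((Fintype.card F : ℂ) + 1) * Fintype.card F) ^ 2 * 2
  perp : ∀ M : Ideal Cfsg.AlgInt, Cfsg.IsPModular 2 M → ∀ f, (f = a₁ ∨ f = a₂ ∨ ∃ j, f = a₃ j) →
    ∀ ψ : Cfsg.IrrCharacter (Matrix.GeneralLinearGroup (Fin 2) F),
      ψ ∉ Cfsg.principalBlock M _ → Cfsg.classInner f (ψ : Matrix.GeneralLinearGroup (Fin 2) F → ℂ) = 0
  column : ∀ M : Ideal Cfsg.AlgInt, Cfsg.IsPModular 2 M →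
    ∀ ψ : Cfsg.IrrCharacter (Matrix.GeneralLinearGroup (Fin 2) F),
      ψ ∈ Cfsg.principalBlock M _ →
      (Fintype.card F : ℂ) * (Cfsg.classInner a₁ (ψ : Matrix.GeneralLinearGroup (Fin 2) F → ℂ) + Cfsg.classInner a₂ (ψ : Matrix.GeneralLinearGroup (Fin 2) F → ℂ)) +
        ((Fintype.card F : ℂ) - 1) * ∑ j, (s j : ℂ) * Cfsg.classInner (a₃ j) (ψ : Matrix.GeneralLinearGroup (Fin 2) F → ℂ) =
        conj ((ψ : Matrix.GeneralLinearGroup (Fin 2) F → ℂ) (scalarGL (-1)))

/-- The functions exist. -/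
theorem exists_glData (hq : qF % 4 = 3) :
    ∃ a : ℕ, 2 ≤ a ∧ Nonempty (GLData F (OrbitIdx a)) := by
  classical
  obtain ⟨δ, hδ⟩ := FiniteField.exists_nonsquare (ringChar_ne_two hq)
  obtain ⟨D⟩ := exists_twoData hq
  obtain ⟨θ, hodd, hfix, hθm, hθinj, hθcj, hθall⟩ := exists_orbit_reps hδ D
  refine ⟨D.a, D.two_le, ?_⟩
  have hν1 : (1 : MulChar F ℂ) ≠ qchar := (qchar_ne_one hq).symm
  -- the principal block
  let χ : Fin 5 ⊕ OrbitIdx D.a → Cfsg.IrrCharacter G2 := Sum.elim
    ![⟨linFun 1, isIrrCharacter_linFun 1⟩, ⟨linFun qchar, isIrrCharacter_linFun qchar⟩,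
      ⟨stFun 1, isIrrCharacter_stFun 1⟩, ⟨stFun qchar, isIrrCharacter_stFun qchar⟩,
      ⟨prin 1 qchar, isIrrCharacter_prin hν1⟩]
    (fun j => ⟨cusp hδ (θ j), isIrrCharacter_cusp hδ (θ j) (hfix j)⟩)
  have hq3 : 3 ≤ qF := by omega
  obtain ⟨d1, d2, d3⟩ := degree_ne (F := F) hq3
  have d4 : (qF : ℂ) - 1 ≠ qF := fun e => one_ne_zero (α := ℂ) (by linear_combination -e)
  have d5 : (qF : ℂ) - 1 ≠ qF + 1 := fun e => two_ne_zero (α := ℂ) (by linear_combination -e)
  have hnc : ∀ (i : Fin 5) (j : OrbitIdx D.a), χ (Sum.inl i) ≠ χ (Sum.inr j) := by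
    intro i j h
    have := congrArg (fun ψ : Cfsg.IrrCharacter G2 => (ψ : G2 → ℂ) 1) h
    fin_cases i <;> simp [χ, linFun_one, stFun_one, prin_one, cusp_one] at this <;>
      first | exact d1 this | exact d4 this.symm | exact d5 this.symm
  have hinj : Function.Injective χ := by
    rintro (i | i) (j | j) h
    · have e := congrArg Subtype.val h
      have e1 := congrFun e 1
      congr 1
      fin_cases i <;> fin_cases j <;>
        simp [χ, linFun_one, stFun_one, prin_one] at e e1 ⊢ <;>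
        first
        | omega | exact d2 e1 | exact d2 e1.symm | exact d3 e1 | exact d3 e1.symm
        | exact absurd (linFun_injective e) hν1 | exact absurd (linFun_injective e) hν1.symm
        | (have h' := ncChar_injective (F := F) (a₁ := Sum.inr (Sum.inl _))
            (a₂ := Sum.inr (Sum.inl _)) (Subtype.ext e)
           simp [hν1, hν1.symm] at h')
    · exact absurd h (hnc i j)
    · exact absurd h.symm (hnc j i)
    · have e : cusp hδ (θ i) = cusp hδ (θ j) := congrArg Subtype.val h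
      have h1 := classInner_cusp hδ (θ j) (θ i)
      rw [e, CharBasic.classInner_irr_self (isIrrCharacter_cusp hδ (θ j) (hfix j))] at h1
      by_contra hne
      have hne' : i ≠ j := fun e => hne (congrArg Sum.inr e)
      rw [if_neg (fun e => hne' (hθinj _ _ e)), if_neg (fun e => hne' (hθcj _ _ e))] at h1
      simp at h1
  have horth : ∀ x y, Cfsg.classInner (χ x : G2 → ℂ) (χ y : G2 → ℂ) = if x = y then 1 else 0 := by
    intro x y
    split_ifs with h
    · rw [h, CharBasic.classInner_irr_self (χ y).2]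
    · exact CharBasic.classInner_irr_of_ne (χ x).2 (χ y).2 fun e => h (hinj (Subtype.ext e))
  have hcover : ∀ M : Ideal Cfsg.AlgInt, Cfsg.IsPModular 2 M →
      ∀ ψ : Cfsg.IrrCharacter G2, ψ ∈ Cfsg.principalBlock M G2 → ∃ x, χ x = ψ := by
    intro M hM ψ hψ
    rcases principal_cases hδ hM hψ with ⟨α, hα, e⟩ | ⟨α, hα, e⟩ | ⟨α, β, hα, hβ, hne, e⟩ |
      ⟨φ, hφ, hφf, e⟩
    · rcases oddTrivChar_cases hq hα with rfl | rfl
      · exact ⟨Sum.inl 0, Subtype.ext e.symm⟩
      · exact ⟨Sum.inl 1, Subtype.ext e.symm⟩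
    · rcases oddTrivChar_cases hq hα with rfl | rfl
      · exact ⟨Sum.inl 2, Subtype.ext e.symm⟩
      · exact ⟨Sum.inl 3, Subtype.ext e.symm⟩
    · rcases oddTrivChar_cases hq hα with rfl | rfl <;>
        rcases oddTrivChar_cases hq hβ with rfl | rfl
      · exact absurd rfl hne
      · exact ⟨Sum.inl 4, Subtype.ext e.symm⟩
      · exact ⟨Sum.inl 4, Subtype.ext (by rw [e, prin_comm]; rfl)⟩
      · exact absurd rfl hne
    · obtain ⟨j, rfl | hj⟩ := hθall φ hφ hφf
      · exact ⟨Sum.inr j, Subtype.ext e.symm⟩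
      · refine ⟨Sum.inr j, Subtype.ext ?_⟩
        by_contra hne'
        have h0 := classInner_cusp hδ (θ j) φ
        rw [CharBasic.classInner_irr_of_ne (isIrrCharacter_cusp hδ φ hφf)
          (isIrrCharacter_cusp hδ (θ j) (hfix j)) (fun e' => hne' (by rw [e, e']; rfl)),
          if_neg (fun e' => hφf (hj.trans e'.symm)), if_pos hj] at h0
        simp at h0
  have hmem : ∀ M : Ideal Cfsg.AlgInt, Cfsg.IsPModular 2 M →
      ∀ x, χ x ∈ Cfsg.principalBlock M G2 := by
    intro M hM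
    rintro (i | j)
    · fin_cases i
      · exact linFun_mem hM oddTrivChar_one
      · exact linFun_mem hM (oddTrivChar_qchar hq)
      · exact stFun_mem hδ hM oddTrivChar_one
      · exact stFun_mem hδ hM (oddTrivChar_qchar hq)
      · exact prin_mem hδ hM oddTrivChar_one (oddTrivChar_qchar hq) hν1
    · exact cusp_mem hδ hM (hodd j) (hfix j)
  have hI : Cfsg.IsGeneralizedCharacter G2 (fun _ : G2 => (0 : ℂ)) ∧
      ∀ x, Cfsg.IsGeneralizedCharacter G2 (χ x : G2 → ℂ) := ⟨CharInduce.IsGen.zero,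
    fun x => CharInduce.IsGen.of_char (CharBasic.IsIrr.isCharacter (χ x).2)⟩
  let e : Fin 5 → G2 → ℂ := fun i => (χ (Sum.inl i) : G2 → ℂ)
  let A₁ : G2 → ℂ := e 0 + e 3 - e 4
  let A₂ : G2 → ℂ := e 1 + e 2 - e 4
  let A₃ : OrbitIdx D.a → G2 → ℂ := fun j => e 0 + e 1 + (χ (Sum.inr j) : G2 → ℂ) - e 4
  have hgen : ∀ f, (f = A₁ ∨ f = A₂ ∨ ∃ j, f = A₃ j) → Cfsg.IsGeneralizedCharacter G2 f := by
    rintro f (rfl | rfl | ⟨j, rfl⟩)
    · exact CharInduce.IsGen.sub (CharInduce.IsGen.add (hI.2 _) (hI.2 _)) (hI.2 _)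
    · exact CharInduce.IsGen.sub (CharInduce.IsGen.add (hI.2 _) (hI.2 _)) (hI.2 _)
    · exact CharInduce.IsGen.sub
        (CharInduce.IsGen.add (CharInduce.IsGen.add (hI.2 _) (hI.2 _)) (hI.2 _)) (hI.2 _)
  have hodd' : ∀ j, OddTrivChar (centChar (θ j)) := fun j => centChar_oddTriv (hodd j)
  -- vanishing
  have hzero : ∀ f, (f = A₁ ∨ f = A₂ ∨ ∃ j, f = A₃ j) → ∀ h : G2,
      ((h : M2) 1 0 = 0 ∨ ∃ z : (Quad δ)ˣ, (z : Quad δ).im ≠ 0 ∧ h = torusHom hδ z) →
      scalarGL (-1) ∉ Subgroup.zpowers h → f h = 0 := by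
    intro f hf h hh hn
    rcases hh with h10 | ⟨z, hz, rfl⟩
    · have hv : ∀ (α : MulChar F ℂ), linFun α h = α ((h : M2) 0 0) * α ((h : M2) 1 1) :=
        fun α => by rw [linFun, Matrix.det_fin_two, h10, mul_zero, sub_zero, map_mul]
      obtain ⟨o0, o1⟩ := one_mulChar_entries h10
      by_cases hne : (h : M2) 0 0 = (h : M2) 1 1
      · set a := Units.mk0 _ (entries_ne_zero h10).1 with hadef
        have ha : Odd (orderOf a) := by
          by_contra ha
          exact hn (Subgroup.zpowers_le.2 (upper_pow_card h10 hne ▸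
            Subgroup.npow_mem_zpowers h qF) (scalar_neg_one_mem ha))
        have hν : qchar ((h : M2) 0 0) = 1 := oddTrivChar_qchar hq a ha
        have hc : ∀ j, centChar (θ j) ((h : M2) 0 0) = 1 := fun j => hodd' j a ha
        by_cases h01 : (h : M2) 0 1 = 0
        · have es := upper_scalar h10 hne h01
          rcases hf with rfl | rfl | ⟨j, rfl⟩ <;>
            simp [A₁, A₂, A₃, e, χ, hv] <;> simp only [← hne, o0, hν] <;>
            rw [es] <;> simp only [stFun_scalar, prin_scalar, cusp_scalar, Units.val_mk0, o0, hν, hc] <;>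
            ring
        · rcases hf with rfl | rfl | ⟨j, rfl⟩ <;>
            simp [A₁, A₂, A₃, e, χ, hv, stFun_upper_eq _ h10 hne h01,
              prin_upper_eq _ _ h10 hne h01, cusp_upper_eq hδ _ h10 hne h01, ← hne, o0, hν, hc]
      · have hor : qchar ((h : M2) 0 0) = 1 ∨ qchar ((h : M2) 1 1) = 1 := by
          by_contra hno
          push Not at hno
          exact hn (upper_neg_one_mem hq h10
            ((qchar_sq hq (Units.mk0 _ (entries_ne_zero h10).1)).resolve_left hno.1)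
            ((qchar_sq hq (Units.mk0 _ (entries_ne_zero h10).2)).resolve_left hno.2))
        rcases hf with rfl | rfl | ⟨j, rfl⟩ <;>
          simp [A₁, A₂, A₃, e, χ, hv, stFun_upper_ne _ h10 hne, prin_upper _ _ h10,
            filter_card_one hne, cusp_upper_ne hδ _ h10 hne, o0, o1] <;>
          rcases hor with w | w <;> rw [w] <;> ring
    · have hzo : Odd (orderOf z) := by
        by_contra hzo
        obtain ⟨k, hk⟩ := Subgroup.mem_zpowers_iff.1 (neg_one_mem_zpowers hδ hzo)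
        exact hn ⟨k, by rw [← torusHom_neg_one hδ, ← hk, map_zpow]⟩
      have hdo : Odd (orderOf (torusHom hδ z)) := by
        rwa [orderOf_injective _ (torusHom_injective hδ)]
      have hne := noEigen_torus hδ hz
      have hcz : ∀ j, θ j (conjUnit z) = 1 := fun j =>
        hodd j _ (hzo.of_dvd_nat (orderOf_map_dvd _ z))
      rcases hf with rfl | rfl | ⟨j, rfl⟩ <;>
        simp [A₁, A₂, A₃, e, χ, stFun, linFun, det_oddTriv oddTrivChar_one hdo,
          det_oddTriv (oddTrivChar_qchar hq) hdo, prin_noEigen _ _ hne, cusp_torus hδ _ hz,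
          hodd _ z hzo, hcz]
  have hspecial : ∀ f, (f = A₁ ∨ f = A₂ ∨ ∃ j, f = A₃ j) → ∀ g, f g ≠ 0 →
      scalarGL (-1) ∈ Subgroup.zpowers g := by
    intro f hf g hg
    obtain ⟨h, hc, hh⟩ := exists_conj_rep hδ g
    obtain ⟨x, rfl⟩ := isConj_iff.1 hc
    rw [CharInduce.IsGen.isClassFunction (hgen f hf) h x] at hg
    obtain ⟨k, hk⟩ := Subgroup.mem_zpowers_iff.1
      (show scalarGL (-1) ∈ Subgroup.zpowers h from by
        by_contra hn; exact hg (hzero f hf h hh hn))
    refine ⟨k, show (x * h * x⁻¹) ^ k = _ from ?_⟩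
    rw [conj_zpow, hk, mul_scalarGL_comm, mul_inv_cancel_right]
  -- invariance under the scalars of odd order
  have hscal : ∀ (ψ : Cfsg.IrrCharacter G2) (a : Fˣ),
      (ψ : G2 → ℂ) (scalarGL a) = (ψ : G2 → ℂ) 1 →
      ∀ g, (ψ : G2 → ℂ) (g * scalarGL a) = (ψ : G2 → ℂ) g := by
    intro ψ a ha g
    obtain ⟨ω, hω⟩ := exists_scalar_char ψ
    have := hω 1 a
    rw [one_mul, ha] at this
    rw [hω g a, (mul_eq_right₀ (BlockBasic.irr_one_ne_zero ψ.2)).1 this.symm, one_mul]
  have hinv : ∀ f, (f = A₁ ∨ f = A₂ ∨ ∃ j, f = A₃ j) → ∀ g (a : Fˣ), Odd (orderOf a) →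
      f (g * scalarGL a) = f g := by
    obtain ⟨M, hM⟩ := BlockBasic.exists_isPModular Nat.prime_two
    intro f hf g a ha
    have h := fun x => hscal (χ x) a (apply_scalar_of_mem hM (hmem M hM x) ha) g
    rcases hf with rfl | rfl | ⟨j, rfl⟩ <;> simp [A₁, A₂, A₃, e, h]
  have hone : (fun _ : G2 => (1 : ℂ)) = e 0 := linFun_one_eq.symm
  -- coefficients
  have hcoef : ∀ x, Cfsg.classInner A₁ (χ x : G2 → ℂ) =
      (if Sum.inl 0 = x then 1 else 0) + (if Sum.inl 3 = x then 1 else 0) -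
        (if Sum.inl 4 = x then 1 else 0) ∧
      Cfsg.classInner A₂ (χ x : G2 → ℂ) =
      (if Sum.inl 1 = x then 1 else 0) + (if Sum.inl 2 = x then 1 else 0) -
        (if Sum.inl 4 = x then 1 else 0) ∧
      ∀ j, Cfsg.classInner (A₃ j) (χ x : G2 → ℂ) =
      (if Sum.inl 0 = x then 1 else 0) + (if Sum.inl 1 = x then 1 else 0) +
        (if Sum.inr j = x then 1 else 0) - (if Sum.inl 4 = x then 1 else 0) := by
    intro x
    simp only [A₁, A₂, A₃, e, CharBasic.classInner_sub_left, CharBasic.classInner_add_left, horth,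
      forall_const, and_self]
  -- values for the pair sums
  have hR : ((reflGL : G2) : M2) 1 0 = 0 := by simp [coe_upGL]
  have hRne : ((reflGL : G2) : M2) 0 0 ≠ ((reflGL : G2) : M2) 1 1 := by
    intro h
    simp [coe_upGL] at h
    exact Ring.two_ne_zero (ringChar_ne_two hq) (by linear_combination h)
  have hm1 : ((-1 : Fˣ) : F) = -1 := by simp
  have hν0 := qchar_neg_one hq
  have hone0 : (1 : MulChar F ℂ) (-1) = 1 := MulChar.one_apply isUnit_one.neg
  have hcent : ∀ j, centChar (θ j) (-1 : F) = (sgnOrbit j : ℂ) := fun j => by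
    rw [← hm1, centChar_apply, scalUnit_neg_one, hθm j]
  have hP : prin 1 qchar (reflGL : G2) = 0 := by
    rw [prin_upper _ _ hR, filter_card_one hRne]
    simp [coe_upGL, hν0, hone0]
  have hval : ∀ x : Fin 5 ⊕ OrbitIdx D.a,
      (χ x : G2 → ℂ) (scalarGL (-1)) = Sum.elim ![1, 1, (qF : ℂ), qF, -(qF + 1)]
        (fun j => ((qF : ℂ) - 1) * sgnOrbit j) x ∧
      (χ x : G2 → ℂ) reflGL = Sum.elim ![1, -1, 1, -1, 0] (fun _ => 0) x ∧
      (χ x : G2 → ℂ) 1 = Sum.elim ![1, 1, (qF : ℂ), qF, qF + 1] (fun _ => (qF : ℂ) - 1) x := by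
    rintro (i | j)
    · fin_cases i <;>
        simp [χ, stFun_scalar, prin_scalar, stFun_one, prin_one,
          stFun_upper_ne _ hR hRne, hP, linFun, coe_upGL,
          coe_scalarGL, Matrix.det_fin_two, hν0, hone0]
    · simp [χ, cusp_scalar, cusp_one, cusp_upper_ne hδ _ hR hRne, hcent]
  have hS : ∀ x, (∑ g : G2, ∑ h : G2, involInd g * involInd h * (χ x : G2 → ℂ) (g * h)) =
      ((χ x : G2 → ℂ) (scalarGL (-1)) + ((qF : ℂ) + 1) * qF * (χ x : G2 → ℂ) reflGL) ^ 2 /
        (χ x : G2 → ℂ) 1 := fun x => sum_invol_irr hq (χ x)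
  have hq0 : (qF : ℂ) ≠ 0 := Nat.cast_ne_zero.2 (by omega)
  have hq1 : (qF : ℂ) + 1 ≠ 0 := Nat.cast_add_one_ne_zero _
  have hqm : (qF : ℂ) - 1 ≠ 0 := by rw [sub_ne_zero, Nat.cast_ne_one]; omega
  have hsq : ∀ j : OrbitIdx D.a, (sgnOrbit j : ℂ) ^ 2 = 1 := by
    rintro (i | i) <;> simp [sgnOrbit]
  refine ⟨{
    a₁ := A₁, a₂ := A₂, a₃ := A₃, s := sgnOrbit
    hJ := card_orbitIdx D.two_le
    hs := sum_sgnOrbit D.a
    hs2 := by rintro (i | i) <;> simp [sgnOrbit]
    gen := hgen, special := hspecial, scalarInv := hinv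
    g11 := ?g11, g22 := ?g22, g12 := ?g12, g13 := ?g13, g23 := ?g23, g33 := ?g33, g34 := ?g34
    one₁ := ?one₁, one₂ := ?one₂, one₃ := ?one₃, pairs₁ := ?pairs₁, pairs₂ := ?pairs₂, pairs₃ := ?pairs₃
    perp := ?perp, column := ?column }⟩
  case g11 | g22 | g12 | g13 | g23 | g33 =>
    intros
    simp only [A₁, A₂, A₃, e, CharBasic.classInner_sub_left, CharBasic.classInner_add_left,
      CharBasic.classInner_sub_right, CharBasic.classInner_add_right, horth]
    simp <;> norm_num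
  case g34 =>
    intro j k hjk
    simp only [A₃, e, CharBasic.classInner_sub_left, CharBasic.classInner_add_left,
      CharBasic.classInner_sub_right, CharBasic.classInner_add_right, horth]
    simp [hjk] <;> norm_num
  case one₁ | one₂ | one₃ =>
    intros
    rw [hone]
    simp only [e, (hcoef (Sum.inl 0)).1, (hcoef (Sum.inl 0)).2.1, (hcoef (Sum.inl 0)).2.2]
    simp
  case pairs₁ | pairs₂ | pairs₃ =>
    intros
    simp only [A₁, A₂, A₃, e, Pi.add_apply, Pi.sub_apply, mul_add, mul_sub, Finset.sum_add_distrib,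
      Finset.sum_sub_distrib, hS, hval, Sum.elim_inl, Sum.elim_inr]
    simp [mul_pow, hsq]
    field_simp
    ring
  case perp =>
    intro M hM f hf ψ hψ
    have h0 : ∀ x, Cfsg.classInner (χ x : G2 → ℂ) (ψ : G2 → ℂ) = 0 := fun x =>
      CharBasic.classInner_irr_of_ne (χ x).2 ψ.2 fun h => hψ (Subtype.ext h ▸ hmem M hM x)
    rcases hf with rfl | rfl | ⟨j, rfl⟩ <;>
      simp [A₁, A₂, A₃, e, CharBasic.classInner_sub_left, CharBasic.classInner_add_left, h0]
  case column =>
    intro M hM ψ hψ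
    obtain ⟨x, rfl⟩ := hcover M hM ψ hψ
    rw [(hcoef x).1, (hcoef x).2.1, Finset.sum_congr rfl fun j _ => by rw [(hcoef x).2.2 j],
      (hval x).1]
    have hs : ∑ j : OrbitIdx D.a, (sgnOrbit j : ℂ) = -1 := by
      exact_mod_cast sum_sgnOrbit D.a
    rcases x with i | k
    · simp only [mul_add, mul_sub, Finset.sum_add_distrib, Finset.sum_sub_distrib]
      fin_cases i <;> simp [hs] <;> ring
    · simp [Finset.sum_ite_eq']

end Cfsg.Agent.H3.SDOrder
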