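import Cfsg.Agent.H3.SDOrder.GLBlock
import Cfsg.Agent.H83.ClassConst

/-!
# Sums of class functions over `GL(2, q)`, `q` odd, through the tori
-/

set_option autoImplicit false
set_option linter.unusedSectionVars false
set_option linter.style.haveILetI false

namespace Cfsg.Agent.H3.SDOrder

open Matrix Finset Cfsg.Agent.H53

/-- A family meeting every class with total weight one computes sums of class functions. -/
theorem sum_eq_sum_reps {H : Type*} [Group H] [Fintype H] {ι : Type*} [Fintype ι] (h : ι → H)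
    (w : ι → ℂ) (hw : ∀ g, ∑ i, H83.classInd (h i) g * w i = 1)
    {f : H → ℂ} (hf : Cfsg.IsClassFunction H f) :
    ∑ g, f g = ∑ i, w i * ((Subgroup.centralizer ({h i} : Set H)).index : ℂ) * f (h i) := by
  classical
  rw [Finset.sum_congr rfl fun g _ => (show f g = ∑ i, w i * f (h i) * H83.classInd (h i) g from by
    conv_lhs => rw [← one_mul (f g), ← hw g, Finset.sum_mul]
    refine Finset.sum_congr rfl fun i _ => ?_
    unfold H83.classInd
    split_ifs with hc
    · obtain ⟨x, rfl⟩ := isConj_iff.1 hc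
      rw [hf (h i) x]; ring
    · simp), Finset.sum_comm]
  refine Finset.sum_congr rfl fun i _ => ?_
  rw [← Finset.mul_sum, ← H83.classSize_eq_index (h i)]
  rw [Finset.natCast_card_filter]
  unfold H83.classInd
  rw [mul_right_comm (w i)]

theorem classInd_pos {H : Type*} [Group H] {a b : H} (h : IsConj a b) : H83.classInd a b = 1 :=
  if_pos h

theorem classInd_neg {H : Type*} [Group H] {a b : H} (h : ¬ IsConj a b) : H83.classInd a b = 0 :=
  if_neg h

variable {F : Type*} [Field F] [Fintype F] [DecidableEq F]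

local notation "G2" => Matrix.GeneralLinearGroup (Fin 2) F
local notation "M2" => Matrix (Fin 2) (Fin 2) F
local notation "qF" => Fintype.card F

variable {δ : F} (hδ : ¬ IsSquare δ)

omit [Fintype F] [DecidableEq F] in
theorem upGL_ne_scalar {a d : Fˣ} {c : F} (h : a ≠ d ∨ c ≠ 0) :
    ¬ Linear.IsScalarTwo ((upGL a d c : G2) : M2) := by
  simp only [Linear.IsScalarTwo, coe_upGL]
  simp
  rintro rfl e
  exact h.elim (fun h => h (Units.ext e)) (fun h => h rfl)

omit [DecidableEq F] in
theorem not_conj_of_scalar {g h : G2} (hh : ¬ Linear.IsScalarTwo (h : M2)) (a : Fˣ)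
    (hg : g = scalarGL a) : ¬ IsConj h g := fun hc => hh (by
  have := eq_of_isConj_of_isScalarTwo hc.symm (hg ▸ isScalarTwo_scalarGL a)
  rw [← this, hg]
  exact isScalarTwo_scalarGL a)

/-- Trace and determinant decide conjugacy to a non-scalar upper triangular element. -/
theorem conj_upGL_iff {a d : Fˣ} {c : F} (h : a ≠ d ∨ c ≠ 0) {g : G2}
    (hg : ¬ Linear.IsScalarTwo (g : M2)) :
    IsConj (upGL a d c) g ↔ (a : F) + d = (g : M2).trace ∧ (a : F) * d = (g : M2).det := by
  constructor
  · intro hc
    obtain ⟨h1, h2⟩ := trace_det_of_isConj hc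
    rw [← h1, ← h2]
    simp [coe_upGL, Matrix.trace_fin_two, Matrix.det_fin_two]
  · rintro ⟨h1, h2⟩
    refine isConj_of_trace_det (upGL_ne_scalar h) hg ?_ ?_
    · rw [← h1]; simp [coe_upGL, Matrix.trace_fin_two]
    · rw [← h2]; simp [coe_upGL, Matrix.det_fin_two]

theorem conj_torus_iff {z : (Quad δ)ˣ} (hz : (z : Quad δ).im ≠ 0) {g : G2}
    (hg : ¬ Linear.IsScalarTwo (g : M2)) :
    IsConj (torusHom hδ z) g ↔ 2 * (z : Quad δ).re = (g : M2).trace ∧
      (z : Quad δ).re * (z : Quad δ).re - δ * (z : Quad δ).im * (z : Quad δ).im = (g : M2).det := by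
  constructor
  · intro hc
    obtain ⟨h1, h2⟩ := trace_det_of_isConj hc
    rw [← h1, ← h2, coe_torusHom, Matrix.trace_fin_two, Matrix.det_fin_two_of]
    exact ⟨(two_mul _).trans (by simp), rfl⟩
  · rintro ⟨h1, h2⟩
    refine isConj_of_trace_det (fun h => hz ((isScalarTwo_torus_iff hδ z).1 h)) hg ?_ ?_
    · rw [← h1, coe_torusHom, Matrix.trace_fin_two]; simp [two_mul]
    · rw [← h2, coe_torusHom, Matrix.det_fin_two_of]

include hδ

theorem torus_trace_det_ne {z : (Quad δ)ˣ} (hz : (z : Quad δ).im ≠ 0) {a d : F}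
    (h1 : 2 * (z : Quad δ).re = a + d)
    (h2 : (z : Quad δ).re * (z : Quad δ).re - δ * (z : Quad δ).im * (z : Quad δ).im = a * d) :
    False := by
  refine hδ ⟨((z : Quad δ).re - a) / (z : Quad δ).im, ?_⟩
  field_simp
  linear_combination -h2 + a * h1

theorem index_scalar (a : Fˣ) : (Subgroup.centralizer ({scalarGL a} : Set G2)).index = 1 := by
  rw [Subgroup.index_eq_one, Subgroup.eq_top_iff']
  exact fun x => Subgroup.mem_centralizer_singleton_iff.2 (mul_scalarGL_comm a x)

/-- Sums of class functions over the group. -/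
theorem sum_classFun_eq {f : G2 → ℂ} (hf : Cfsg.IsClassFunction G2 f) :
    ∑ g, f g = (∑ a : Fˣ, f (scalarGL a)) +
      ((qF : ℂ) + 1) * ((qF : ℂ) - 1) * (∑ a : Fˣ, f (upGL a a 1)) +
      ((qF : ℂ) + 1) * qF / 2 * (∑ a : Fˣ, ∑ d : Fˣ, if a = d then 0 else f (upGL a d 0)) +
      (qF : ℂ) * ((qF : ℂ) - 1) / 2 *
        (∑ z : (Quad δ)ˣ, if (z : Quad δ).im = 0 then 0 else f (torusHom hδ z)) := by
  classical
  have h2 := two_ne_zero' hδ
  let h : Fˣ ⊕ Fˣ ⊕ (Fˣ × Fˣ) ⊕ (Quad δ)ˣ → G2 := Sum.elim scalarGL (Sum.elim (fun a => upGL a a 1)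
    (Sum.elim (fun p => upGL p.1 p.2 0) fun z => torusHom hδ z))
  let w : Fˣ ⊕ Fˣ ⊕ (Fˣ × Fˣ) ⊕ (Quad δ)ˣ → ℂ := Sum.elim (fun _ => 1) (Sum.elim (fun _ => 1)
    (Sum.elim (fun p => if p.1 = p.2 then 0 else 1 / 2)
      fun z => if (z : Quad δ).im = 0 then 0 else 1 / 2))
  rw [sum_eq_sum_reps h w ?_ hf]
  · simp only [Fintype.sum_sum_type, Fintype.sum_prod_type, h, w, Sum.elim_inl, Sum.elim_inr,
      Finset.mul_sum, ← add_assoc]
    have hq1 : 1 ≤ qF := Fintype.card_pos
    congr 1
    congr 1
    congr 1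
    · exact Finset.sum_congr rfl fun a _ => by rw [index_scalar hδ]; simp
    · refine Finset.sum_congr rfl fun a _ => ?_
      rw [index_upper_eq (by simp [coe_upGL]) (by simp [coe_upGL]) (by simp [coe_upGL]), Nat.cast_mul,
        Nat.cast_sub hq1]
      push_cast
      ring
    · refine Finset.sum_congr rfl fun a _ => Finset.sum_congr rfl fun d _ => ?_
      split_ifs with e
      · simp
      · rw [index_upper_ne (by simp [coe_upGL])
          (by simpa [coe_upGL] using fun e' => e (Units.ext e'))]
        push_cast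
        ring
    · refine Finset.sum_congr rfl fun z _ => ?_
      split_ifs with e
      · simp
      · rw [index_torus hδ e, Nat.cast_mul, Nat.cast_sub hq1]
        push_cast
        ring
  · intro g
    obtain ⟨g₀, hc₀, hh⟩ := exists_conj_rep hδ g
    have hiff : ∀ i, H83.classInd (h i) g = H83.classInd (h i) g₀ := fun i => by
      obtain ⟨x, rfl⟩ := isConj_iff.1 hc₀
      exact H83.classInd_isClassFunction _ g₀ x
    simp only [hiff]
    rw [Fintype.sum_sum_type, Fintype.sum_sum_type, Fintype.sum_sum_type]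
    simp only [h, w, Sum.elim_inl, Sum.elim_inr]
    clear hiff hc₀ g
    by_cases hs : Linear.IsScalarTwo (g₀ : M2)
    · obtain ⟨a, rfl⟩ : ∃ a : Fˣ, g₀ = scalarGL a := by
        rcases hh with h10 | ⟨z, hz, rfl⟩
        · exact ⟨_, upper_scalar h10 hs.2.2 hs.1⟩
        · exact absurd ((isScalarTwo_torus_iff hδ z).1 hs) hz
      have hb' : ∀ b : Fˣ, IsConj (scalarGL b) (scalarGL a : G2) → b = a := fun b hc =>
        Units.ext (by
          have e := congrArg (fun g : G2 => (g : M2) 0 0)
            (eq_of_isConj_of_isScalarTwo hc (isScalarTwo_scalarGL b))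
          simpa [coe_scalarGL] using e)
      rw [Finset.sum_eq_single a (fun b _ hb => by rw [classInd_neg fun hc => hb (hb' b hc), zero_mul]) (by simp),
        classInd_pos (IsConj.refl _),
        Finset.sum_eq_zero fun b _ => by
          rw [classInd_neg (not_conj_of_scalar (upGL_ne_scalar (Or.inr one_ne_zero)) a rfl), zero_mul],
        Finset.sum_eq_zero fun p _ => ?_, Finset.sum_eq_zero fun z _ => ?_]
      · ring
      · by_cases e : (z : Quad δ).im = 0
        · simp [e]
        · rw [classInd_neg (not_conj_of_scalar (fun hh' => e ((isScalarTwo_torus_iff hδ z).1 hh')) a rfl), zero_mul]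
      · by_cases e : p.1 = p.2
        · simp [e]
        · rw [classInd_neg (not_conj_of_scalar (upGL_ne_scalar (Or.inl e)) a rfl), zero_mul]
    have hsc : ∀ a : Fˣ, ¬ IsConj (scalarGL a) g₀ := fun a hc =>
      hs (eq_of_isConj_of_isScalarTwo hc (isScalarTwo_scalarGL a) ▸ isScalarTwo_scalarGL a)
    rw [Finset.sum_eq_zero fun a _ => by rw [classInd_neg (hsc a), zero_mul], zero_add]
    rcases hh with h10 | ⟨z₀, hz₀, rfl⟩
    · obtain ⟨e0, e1⟩ := entries_ne_zero h10
      set a₀ := Units.mk0 _ e0 with ha₀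
      set d₀ := Units.mk0 _ e1 with hd₀
      have htr : (g₀ : M2).trace = (a₀ : F) + d₀ := by simp [Matrix.trace_fin_two, a₀, d₀]
      have hdet : (g₀ : M2).det = (a₀ : F) * d₀ := by simp [Matrix.det_fin_two, h10, a₀, d₀]
      rw [show (∑ z : (Quad δ)ˣ, H83.classInd (torusHom hδ z) g₀ *
          (if (z : Quad δ).im = 0 then (0 : ℂ) else 1 / 2)) = 0 from
        Finset.sum_eq_zero fun z _ => by
          by_cases e : (z : Quad δ).im = 0
          · simp [e]
          · rw [classInd_neg fun hc => ?_, zero_mul]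
            obtain ⟨t1, t2⟩ := (conj_torus_iff hδ e hs).1 hc
            exact torus_trace_det_ne hδ e (t1.trans htr) (t2.trans hdet), add_zero]
      have hroots : ∀ x y : Fˣ, (x : F) + y = (g₀ : M2).trace → (x : F) * y = (g₀ : M2).det →
          (x = a₀ ∧ y = d₀) ∨ (x = d₀ ∧ y = a₀) := by
        intro x y t1 t2
        rw [htr] at t1
        rw [hdet] at t2
        have : ((x : F) - a₀) * ((x : F) - d₀) = 0 := by linear_combination (x : F) * t1 - t2
        rcases mul_eq_zero.1 this with e | e
        · exact Or.inl ⟨Units.ext (sub_eq_zero.1 e),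
            Units.ext (by linear_combination t1 - e)⟩
        · exact Or.inr ⟨Units.ext (sub_eq_zero.1 e),
            Units.ext (by linear_combination t1 - e)⟩
      by_cases had : a₀ = d₀
      · rw [Finset.sum_eq_single a₀ (fun b _ hb => ?hb) (by simp), classInd_pos
            ((conj_upGL_iff (Or.inr one_ne_zero) hs).2 ⟨by rw [htr, had], by rw [hdet, had]⟩),
          Finset.sum_eq_zero fun p _ => ?hp]
        case hp =>
          by_cases e : p.1 = p.2
          · simp [e]
          · rw [classInd_neg fun hc => ?_, zero_mul]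
            obtain ⟨t1, t2⟩ := (conj_upGL_iff (Or.inl e) hs).1 hc
            rcases hroots _ _ t1 t2 with ⟨x, y⟩ | ⟨x, y⟩ <;> exact e (by rw [x, y, had])
        case hb =>
          rw [classInd_neg fun hc => ?_, zero_mul]
          obtain ⟨t1, t2⟩ := (conj_upGL_iff (Or.inr one_ne_zero) hs).1 hc
          rcases hroots _ _ t1 t2 with ⟨x, -⟩ | ⟨x, -⟩
          · exact hb x
          · exact hb (x.trans had.symm)
        norm_num
      · rw [Finset.sum_eq_zero fun b _ => ?hb, zero_add, Finset.sum_eq_add
          (a₀, d₀) (d₀, a₀) (fun e => had (congrArg Prod.fst e)) (fun p _ hp => ?hp) (by simp) (by simp),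
          classInd_pos ((conj_upGL_iff (Or.inl had) hs).2 ⟨htr.symm, hdet.symm⟩),
          classInd_pos ((conj_upGL_iff (Or.inl (Ne.symm had)) hs).2
            ⟨by rw [htr, add_comm], by rw [hdet, mul_comm]⟩), if_neg had, if_neg (Ne.symm had)]
        case hp =>
          obtain ⟨hp1, hp2⟩ := hp
          by_cases e : p.1 = p.2
          · simp [e]
          · rw [classInd_neg fun hc => ?_, zero_mul]
            obtain ⟨t1, t2⟩ := (conj_upGL_iff (Or.inl e) hs).1 hc
            rcases hroots _ _ t1 t2 with ⟨x, y⟩ | ⟨x, y⟩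
            · exact hp1 (Prod.ext x y)
            · exact hp2 (Prod.ext x y)
        case hb =>
          rw [classInd_neg fun hc => ?_, zero_mul]
          obtain ⟨t1, t2⟩ := (conj_upGL_iff (Or.inr one_ne_zero) hs).1 hc
          rcases hroots _ _ t1 t2 with ⟨x, y⟩ | ⟨x, y⟩
          · exact had (x.symm.trans y)
          · exact had (y.symm.trans x)
        norm_num
    · have htr : ((torusHom hδ z₀ : G2) : M2).trace = 2 * (z₀ : Quad δ).re := by
        simp [coe_torusHom, Matrix.trace_fin_two, two_mul]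
      have hdet : ((torusHom hδ z₀ : G2) : M2).det = (z₀ : Quad δ).re * (z₀ : Quad δ).re -
          δ * (z₀ : Quad δ).im * (z₀ : Quad δ).im := by
        rw [coe_torusHom, Matrix.det_fin_two_of]
      rw [Finset.sum_eq_zero fun b _ => mul_eq_zero_of_left (classInd_neg fun hc => ?_) _, zero_add,
        Finset.sum_eq_zero fun p _ => ?_, zero_add]
      · have hne : z₀ ≠ conjUnit z₀ := fun e => hz₀ (by
          have := congrArg (fun z : (Quad δ)ˣ => (z : Quad δ).im) e
          simp only [im_conjUnit] at this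
          have h3 : 2 * (z₀ : Quad δ).im = 0 := by linear_combination this
          exact (mul_eq_zero.1 h3).resolve_left h2)
        have hcy : (conjUnit z₀ : Quad δ).im ≠ 0 := by rw [im_conjUnit]; exact neg_ne_zero.2 hz₀
        rw [Finset.sum_eq_add z₀ (conjUnit z₀) hne (fun z _ hz => ?_) (by simp) (by simp),
          classInd_pos (IsConj.refl _), classInd_pos ((conj_torus_iff hδ hcy hs).2
            ⟨by rw [re_conjUnit, htr], by rw [re_conjUnit, im_conjUnit, hdet]; ring⟩),
          if_neg hz₀, if_neg hcy]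
        · norm_num
        · obtain ⟨hz1, hz2⟩ := hz
          by_cases e : (z : Quad δ).im = 0
          · simp [e]
          · rw [classInd_neg fun hc => ?_, zero_mul]
            obtain ⟨t1, t2⟩ := (conj_torus_iff hδ e hs).1 hc
            rw [htr] at t1
            rw [hdet, mul_left_cancel₀ h2 t1] at t2
            have hδ0 : δ ≠ 0 := fun e => hδ (e ▸ ⟨0, (mul_zero _).symm⟩)
            rcases mul_self_eq_mul_self_iff.1 (mul_left_cancel₀ hδ0 (show
              δ * ((z : Quad δ).im * (z : Quad δ).im) =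
                δ * ((z₀ : Quad δ).im * (z₀ : Quad δ).im) by linear_combination -t2)) with u | u
            · exact hz1 (Units.ext (QuadraticAlgebra.ext (mul_left_cancel₀ h2 t1) u))
            · exact hz2 (Units.ext (QuadraticAlgebra.ext
                (by rw [re_conjUnit]; exact mul_left_cancel₀ h2 t1) (by rw [im_conjUnit, u])))
      · by_cases e : p.1 = p.2
        · simp [e]
        · rw [classInd_neg fun hc => ?_, zero_mul]
          obtain ⟨t1, t2⟩ := (conj_upGL_iff (Or.inl e) hs).1 hc
          exact torus_trace_det_ne hδ hz₀ (htr.symm.trans t1.symm) (hdet.symm.trans t2.symm)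
      · obtain ⟨t1, t2⟩ := (conj_upGL_iff (Or.inr one_ne_zero) hs).1 hc
        exact torus_trace_det_ne hδ hz₀ (htr.symm.trans t1.symm) (hdet.symm.trans t2.symm)

end Cfsg.Agent.H3.SDOrder
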