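import Cfsg.Agent.H3.SDOrder.GLBlock
import Mathlib.RingTheory.RootsOfUnity.Complex
import Mathlib.NumberTheory.LegendreSymbol.QuadraticChar.Basic
import Mathlib.Algebra.CharP.Lemmas
import Mathlib.RingTheory.IntegralDomain

/-!
# The parameters of two-power order of `GL(2, q)`, `q ≡ 3 (mod 4)`

With `2 ^ a` the two-part of `q + 1` there are `2 ^ a - 1` orbits of non-fixed ones on the torus.
-/

set_option autoImplicit false
set_option linter.unusedSectionVars false
set_option linter.style.haveILetI false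

namespace Cfsg.Agent.H3.SDOrder

open Matrix Finset Cfsg.Agent.H53
open scoped ComplexConjugate

variable {F : Type*} [Field F] [Fintype F] [DecidableEq F] [DecidableEq (MulChar F ℂ)]

local notation "G2" => Matrix.GeneralLinearGroup (Fin 2) F
local notation "M2" => Matrix (Fin 2) (Fin 2) F
local notation "qF" => Fintype.card F

/-- The quadratic character. -/
noncomputable def qchar : MulChar F ℂ := (quadraticChar F).ringHomComp (Int.castRingHom ℂ)

variable (hq : Fintype.card F % 4 = 3)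
include hq

omit [DecidableEq (MulChar F ℂ)] in
theorem ringChar_ne_two : ringChar F ≠ 2 := fun h => by
  have := FiniteField.even_card_of_char_two h
  omega

theorem not_isSquare_neg_one : ¬ IsSquare (-1 : F) := by
  rw [FiniteField.isSquare_neg_one_iff]
  omega

theorem qchar_sq (a : Fˣ) : qchar (a : F) = 1 ∨ qchar (a : F) = -1 := by
  rcases quadraticChar_dichotomy a.ne_zero with h | h <;> simp [qchar, h]

theorem qchar_neg_one : qchar (-1 : F) = -1 := by
  rw [qchar, MulChar.ringHomComp_apply,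
    quadraticChar_neg_one_iff_not_isSquare.2 (not_isSquare_neg_one hq)]
  simp

theorem qchar_ne_one : (qchar : MulChar F ℂ) ≠ 1 := fun h => by
  have := qchar_neg_one hq
  rw [h, MulChar.one_apply (isUnit_one.neg)] at this
  norm_num at this

theorem oddTrivChar_qchar : OddTrivChar (qchar : MulChar F ℂ) := fun a ha => by
  refine eq_one_of_sq_odd ha (mulChar_pow_orderOf qchar a) ?_
  rcases qchar_sq hq a with h | h <;> simp [h]

/-- Two-power characters of the field are quadratic. -/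
theorem oddTrivChar_cases {α : MulChar F ℂ} (hα : OddTrivChar α) : α = 1 ∨ α = qchar := by
  have hsq : ∀ a : Fˣ, IsSquare (a : F) → α (a : F) = 1 := by
    rintro a ⟨b, hb⟩
    have hb0 : b ≠ 0 := fun e => a.ne_zero (by rw [hb, e, mul_zero])
    refine hα a (Odd.of_dvd_nat (n := qF / 2) ?_ (orderOf_dvd_of_pow_eq_one (Units.ext ?_)))
    · rw [Nat.odd_iff]; omega
    · rw [Units.val_pow_eq_pow_val, Units.val_one, hb, ← pow_two, ← pow_mul,
        show 2 * (qF / 2) = qF - 1 by omega, FiniteField.pow_card_sub_one_eq_one b hb0]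
  have hm : ∀ a : Fˣ, ¬ IsSquare (a : F) → α (a : F) = α (-1) := by
    intro a ha
    have h := hsq (-a) (by
      rw [Units.val_neg, neg_eq_neg_one_mul]
      exact Linear.isSquare_mul_of_not_isSquare (neg_ne_zero.2 one_ne_zero) a.ne_zero
        (not_isSquare_neg_one hq) ha)
    rw [Units.val_neg, neg_eq_neg_one_mul, map_mul] at h
    have h2 : α (-1) * α (-1) = 1 := by rw [← map_mul]; simp
    linear_combination α (-1) * h - α (a : F) * h2
  rcases mul_self_eq_one_iff.1 (show α (-1) * α (-1) = 1 by rw [← map_mul]; simp) with h | h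
  · refine Or.inl (MulChar.ext fun a => ?_)
    rw [MulChar.one_apply a.isUnit]
    by_cases ha : IsSquare (a : F)
    · exact hsq a ha
    · rw [hm a ha, h]
  · refine Or.inr (MulChar.ext fun a => ?_)
    by_cases ha : IsSquare (a : F)
    · rw [hsq a ha, qchar, MulChar.ringHomComp_apply,
        (quadraticChar_one_iff_isSquare a.ne_zero).2 ha]
      simp
    · rw [hm a ha, h, qchar, MulChar.ringHomComp_apply,
        quadraticChar_neg_one_iff_not_isSquare.2 ha]
      simp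

omit hq

variable {δ : F}

/-- The torus is cyclic. -/
theorem isCyclic_quad (hδ : ¬ IsSquare δ) : IsCyclic (Quad δ)ˣ := by
  haveI : Fact (∀ r : F, r ^ 2 ≠ δ + 0 * r) := ⟨fun r hr => hδ ⟨r, by linear_combination -hr⟩⟩
  infer_instance

theorem card_quad (hδ : ¬ IsSquare δ) : Nat.card (Quad δ)ˣ = qF ^ 2 - 1 := by
  rw [Nat.card_congr (MonoidHom.ofInjective (torusHom_injective hδ)).toEquiv, card_torus]

/-- The square roots of one in the torus. -/
theorem eq_of_sq_one (hδ : ¬ IsSquare δ) {z : (Quad δ)ˣ} (h : z * z = 1) : z = 1 ∨ z = -1 := by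
  haveI : Fact (∀ r : F, r ^ 2 ≠ δ + 0 * r) := ⟨fun r hr => hδ ⟨r, by linear_combination -hr⟩⟩
  rcases mul_self_eq_one_iff.1 (show (z : Quad δ) * z = 1 by rw [← Units.val_mul, h, Units.val_one])
    with e | e
  · exact Or.inl (Units.ext e)
  · exact Or.inr (Units.ext e)

/-- An element of even order has the involution as a power. -/
theorem neg_one_mem_zpowers (hδ : ¬ IsSquare δ) {z : (Quad δ)ˣ} (hz : ¬ Odd (orderOf z)) :
    (-1 : (Quad δ)ˣ) ∈ Subgroup.zpowers z := by
  obtain ⟨k, hk⟩ := Nat.not_odd_iff_even.1 hz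
  rcases eq_of_sq_one hδ (z := z ^ k) (by rw [← pow_add, ← hk, pow_orderOf_eq_one]) with h | h
  · exfalso
    have := orderOf_pos z
    have := orderOf_le_of_pow_eq_one (by omega) h
    omega
  · exact h ▸ Subgroup.npow_mem_zpowers z k

/-- Conjugation is the Frobenius map. -/
theorem conjUnit_eq_pow (hδ : ¬ IsSquare δ) (z : (Quad δ)ˣ) : conjUnit z = z ^ qF := by
  obtain ⟨p, hp⟩ := CharP.exists F
  haveI := hp
  obtain ⟨n, hpp, hn⟩ := FiniteField.card F p
  haveI := Fact.mk hpp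
  haveI : Fact (∀ r : F, r ^ 2 ≠ δ + 0 * r) := ⟨fun r hr => hδ ⟨r, by linear_combination -hr⟩⟩
  haveI : CharP (Quad δ) p := charP_of_injective_algebraMap
    ((algebraMap F (Quad δ)).injective) p
  have hchar : ringChar F ≠ 2 := fun h => hδ (FiniteField.isSquare_of_char_two h δ)
  have hd : δ ^ (qF / 2) = -1 := by
    have hδ0 : δ ≠ 0 := fun e => hδ (e ▸ ⟨0, (mul_zero _).symm⟩)
    exact (FiniteField.pow_dichotomy hchar hδ0).resolve_left
      fun h => hδ ((FiniteField.isSquare_iff hchar hδ0).2 h)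
  set ω : Quad δ := ⟨0, 1⟩
  have hω : ω * ω = algebraMap F (Quad δ) δ := by ext <;> simp [ω]
  have hsplit : ∀ w : Quad δ, w = algebraMap F (Quad δ) w.re + algebraMap F (Quad δ) w.im * ω := by
    intro w; ext <;> simp [ω]
  have hodd := Nat.odd_iff.1 (odd_card hδ)
  have hωq : ω ^ qF = -ω := by
    rw [show qF = 2 * (qF / 2) + 1 by omega, pow_succ, pow_mul, pow_two, hω, ← map_pow, hd,
      map_neg, map_one, neg_one_mul]
  refine Units.ext (Eq.symm ?_)
  rw [Units.val_pow_eq_pow_val]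
  conv_lhs => rw [hsplit (z : Quad δ), hn, add_pow_char_pow, ← hn, mul_pow, ← map_pow, ← map_pow,
    FiniteField.pow_card, FiniteField.pow_card, hωq]
  refine QuadraticAlgebra.ext ?_ ?_
  · simp [ω, re_conjUnit]
  · simp [ω, im_conjUnit]

/-- The two-part of `q + 1` and the data of the torus. -/
structure TwoData (F : Type*) [Field F] [Fintype F] where
  a : ℕ
  o : ℕ
  m : ℕ
  two_le : 2 ≤ a
  odd_o : Odd o
  odd_m : Odd m
  succ : Fintype.card F + 1 = 2 ^ a * o
  total : Fintype.card F ^ 2 - 1 = 2 ^ (a + 1) * m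

include hq in
theorem exists_twoData : Nonempty (TwoData F) := by
  obtain ⟨a, o, ho, hao⟩ := Nat.exists_eq_two_pow_mul_odd (n := qF + 1) (by omega)
  have ha : 2 ≤ a := by
    by_contra h
    obtain ⟨r, rfl⟩ := ho
    rcases (show a = 0 ∨ a = 1 by omega) with rfl | rfl <;> omega
  refine ⟨⟨a, o, o * (qF / 2), ha, ho, ho.mul (by rw [Nat.odd_iff]; omega), hao, ?_⟩⟩
  rw [show qF ^ 2 - 1 = (qF + 1) * (qF - 1) by simpa using Nat.sq_sub_sq qF 1,
    show qF - 1 = 2 * (qF / 2) by omega, hao]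
  ring

/-- The index set of the orbits. -/
abbrev OrbitIdx (a : ℕ) := Fin (2 ^ (a - 1)) ⊕ Fin (2 ^ (a - 1) - 1)

/-- The exponent of an orbit. -/
def expo {a : ℕ} : OrbitIdx a → ℤ :=
  Sum.elim (fun i => 4 * (i.val : ℤ) + 1) (fun i => 2 * ((i.val : ℤ) + 1))

/-- The value at the involution. -/
def sgnOrbit {a : ℕ} : OrbitIdx a → ℤ := Sum.elim (fun _ => -1) (fun _ => 1)

theorem sum_sgnOrbit (a : ℕ) : ∑ j : OrbitIdx a, sgnOrbit j = -1 := by
  have h : 1 ≤ 2 ^ (a - 1) := Nat.one_le_two_pow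
  simp [sgnOrbit, Fintype.sum_sum_type, Nat.cast_sub h]
  ring

theorem card_orbitIdx {a : ℕ} (ha : 2 ≤ a) : 3 ≤ Fintype.card (OrbitIdx a) := by
  have : 2 ≤ 2 ^ (a - 1) := by
    simpa using Nat.pow_le_pow_right (show 1 ≤ 2 by norm_num) (show 1 ≤ a - 1 by omega)
  simp only [Fintype.card_sum, Fintype.card_fin]
  omega

/-- The representatives of the orbits of two-power characters of the torus. -/
theorem exists_orbit_reps (hδ : ¬ IsSquare δ) (D : TwoData F) :
    ∃ θ : OrbitIdx D.a → ((Quad δ)ˣ →* ℂˣ),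
      (∀ j, OddTrivial (θ j)) ∧ (∀ j, (θ j).comp conjUnit ≠ θ j) ∧
      (∀ j, (θ j (-1) : ℂ) = sgnOrbit j) ∧
      (∀ i j, θ i = θ j → i = j) ∧ (∀ i j, (θ i).comp conjUnit = θ j → i = j) ∧
      ∀ φ : (Quad δ)ˣ →* ℂˣ, OddTrivial φ → φ.comp conjUnit ≠ φ →
        ∃ j, φ = θ j ∨ φ.comp conjUnit = θ j := by
  classical
  haveI := isCyclic_quad hδ
  haveI : Fintype (Quad δ)ˣ := Fintype.ofFinite _
  obtain ⟨a, o, m, ha, ho, hm, hsucc, htot⟩ := D
  dsimp only
  set A : ℕ := 2 ^ (a - 1) with hA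
  have hA2 : 2 ≤ A := by
    simpa using Nat.pow_le_pow_right (show 1 ≤ 2 by norm_num) (show 1 ≤ a - 1 by omega)
  have h2a : 2 ^ a = 2 * A := by rw [hA, ← pow_succ', Nat.sub_add_cancel (by omega)]
  obtain ⟨g, hg⟩ := IsCyclic.exists_generator (α := (Quad δ)ˣ)
  have hog : orderOf g = 4 * A * m := by
    rw [orderOf_eq_card_of_forall_mem_zpowers hg, card_quad hδ, htot, pow_succ, h2a]
    ring
  set N : ℕ := 4 * A with hN
  have hN0 : N ≠ 0 := by omega
  set η : ℂˣ := (Complex.isPrimitiveRoot_exp N hN0).isUnit hN0 |>.unit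
  have hη : IsPrimitiveRoot η N :=
    (Complex.isPrimitiveRoot_exp N hN0).isUnit_unit hN0
  have hηN : η ^ N = 1 := hη.pow_eq_one
  have hcon : ∀ i j : ℤ, η ^ i = η ^ j → (N : ℤ) ∣ i - j := fun i j h => by
    rw [← hη.zpow_eq_one_iff_dvd, _root_.zpow_sub, h, mul_inv_cancel]
  have hη2 : η ^ (2 * A) = -1 := by
    have h1 : ((η ^ (2 * A) : ℂˣ) : ℂ) * (η ^ (2 * A) : ℂˣ) = 1 := by
      rw [← Units.val_mul, ← pow_add, show 2 * A + 2 * A = N by omega, hηN, Units.val_one]
    rcases mul_self_eq_one_iff.1 h1 with h | h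
    · exfalso
      exact hη.pow_ne_one_of_pos_of_lt (by omega) (by omega) (Units.ext h)
    · exact Units.ext h
  have hex : ∀ k : ℤ, ∃ θ : (Quad δ)ˣ →* ℂˣ, θ g = η ^ k := fun k => by
    have hd : orderOf (η ^ k) ∣ orderOf g := by
      rw [hog]
      refine Dvd.dvd.mul_right (orderOf_dvd_of_pow_eq_one ?_) m
      rw [← zpow_natCast, ← _root_.zpow_mul, mul_comm, _root_.zpow_mul, zpow_natCast, hηN, _root_.one_zpow]
    exact ⟨monoidHomOfForallMemZpowers hg hd, monoidHomOfForallMemZpowers_apply_gen hg hd⟩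
  choose Θ hΘ using hex
  have hext : ∀ φ ψ : (Quad δ)ˣ →* ℂˣ, φ g = ψ g → φ = ψ := fun φ ψ h => MonoidHom.ext fun z => by
    obtain ⟨i, rfl⟩ := Subgroup.mem_zpowers_iff.1 (hg z)
    rw [map_zpow, map_zpow, h]
  have hodd : ∀ k, OddTrivial (Θ k) := fun k z hz => by
    obtain ⟨i, rfl⟩ := Subgroup.mem_zpowers_iff.1 (hg z)
    have h1 : (Θ k (g ^ i)) ^ N = 1 := by
      rw [map_zpow, hΘ, ← zpow_natCast, ← _root_.zpow_mul, ← _root_.zpow_mul,
        show k * (i * (N : ℤ)) = (N : ℤ) * (k * i) by ring, _root_.zpow_mul, zpow_natCast, hηN,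
        _root_.one_zpow]
    have h2 : (Θ k (g ^ i)) ^ orderOf (g ^ i) = 1 := by
      rw [← map_pow, pow_orderOf_eq_one, map_one]
    have hco : Nat.Coprime N (orderOf (g ^ i)) := by
      rw [hN, show 4 * A = 2 ^ (a + 1) by rw [pow_succ, h2a]; ring]
      exact Nat.Coprime.pow_left _ (Nat.coprime_two_left.2 hz)
    have := pow_gcd_eq_one.2 ⟨h1, h2⟩
    rwa [hco, pow_one] at this
  -- the action of conjugation
  have hqη : η ^ qF = η ^ (2 * A) * η⁻¹ := by
    rw [eq_mul_inv_iff_mul_eq, ← pow_succ, hsucc, h2a, pow_mul, hη2, ho.neg_one_pow]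
  have hcj : ∀ k : ℤ, (Θ k).comp conjUnit = Θ (2 * A * k - k) := fun k => hext _ _ (by
    rw [MonoidHom.comp_apply, conjUnit_eq_pow hδ, map_pow, hΘ, hΘ, ← zpow_natCast, ← _root_.zpow_mul,
      mul_comm, _root_.zpow_mul, zpow_natCast, hqη, _root_.zpow_sub, mul_zpow, _root_.inv_zpow,
      _root_.zpow_mul η (2 * (A : ℤ)) k, ← zpow_natCast η (2 * A)]
    norm_cast)
  have heq : ∀ i j : ℤ, Θ i = Θ j → (N : ℤ) ∣ i - j := fun i j h => hcon i j (by
    rw [← hΘ i, ← hΘ j, h])
  have hmod : ∀ i j : ℤ, (N : ℤ) ∣ i - j → Θ i = Θ j := fun i j h => hext _ _ (by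
    rw [hΘ, hΘ, ← mul_inv_eq_one, ← _root_.zpow_sub, (hη.zpow_eq_one_iff_dvd _).2 h])
  have hN4 : (N : ℤ) = 4 * (A : ℤ) := by push_cast [hN]; ring
  -- conjugation on the exponents
  have hcjE : ∀ i : ℤ, (Θ (2 * i)).comp conjUnit = Θ (-(2 * i)) := fun i => by
    rw [hcj]; exact hmod _ _ ⟨i, by rw [hN4]; ring⟩
  have hcjO : ∀ i : ℤ, (Θ (2 * i + 1)).comp conjUnit = Θ (2 * A - (2 * i + 1)) := fun i => by
    rw [hcj]; exact hmod _ _ ⟨i, by rw [hN4]; ring⟩
  have hsmall : ∀ x : ℤ, (N : ℤ) ∣ x → -(4 * (A : ℤ)) < x → x < 4 * (A : ℤ) → x = 0 :=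
    fun x hx h1 h2 => Int.eq_zero_of_abs_lt_dvd hx (abs_lt.2 ⟨by omega, by omega⟩)
  have hAe : Even (A : ℤ) :=
    (Int.even_coe_nat _).2 ((Nat.even_pow' (by omega)).2 even_two)
  obtain ⟨A', hA'⟩ := hAe
  have hpair : ∀ i j : OrbitIdx a, (Θ (expo i)).comp conjUnit ≠ Θ (expo j) := by
    rintro (i | i) (j | j) h <;> simp only [expo, Sum.elim_inl, Sum.elim_inr] at h
    · rw [show (4 * (i.val : ℤ) + 1) = 2 * (2 * i.val) + 1 by ring, hcjO] at h
      obtain ⟨c, hc⟩ := (Dvd.intro (A : ℤ) rfl : (4 : ℤ) ∣ 4 * A).trans (hN4 ▸ heq _ _ h)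
      omega
    · rw [show (4 * (i.val : ℤ) + 1) = 2 * (2 * i.val) + 1 by ring, hcjO] at h
      obtain ⟨c, hc⟩ := (Dvd.intro (A : ℤ) rfl : (4 : ℤ) ∣ 4 * A).trans (hN4 ▸ heq _ _ h)
      omega
    · rw [hcjE] at h
      obtain ⟨c, hc⟩ := (Dvd.intro (A : ℤ) rfl : (4 : ℤ) ∣ 4 * A).trans (hN4 ▸ heq _ _ h)
      omega
    · rw [hcjE] at h
      have := hsmall _ (heq _ _ h) (by omega) (by omega)
      omega
  refine ⟨fun j => Θ (expo j), fun j => hodd _, fun j => hpair j j, fun j => ?_, fun i j h => ?_,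
    fun i j h => absurd h (hpair i j), fun φ hφ hfix => ?_⟩
  · have hneg : (-1 : (Quad δ)ˣ) = g ^ (2 * A * m) := by
      refine ((eq_of_sq_one hδ ?_).resolve_left ?_).symm
      · rw [← pow_add, show 2 * A * m + 2 * A * m = orderOf g by rw [hog]; ring, pow_orderOf_eq_one]
      · exact pow_ne_one_of_lt_orderOf (Nat.mul_ne_zero (by omega) hm.pos.ne')
          (by rw [hog]; exact Nat.mul_lt_mul_of_pos_right (by omega) hm.pos)
    rw [hneg, map_pow, hΘ, ← zpow_natCast, ← _root_.zpow_mul, mul_comm, _root_.zpow_mul,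
      zpow_natCast, pow_mul, hη2, hm.neg_one_pow]
    rcases j with i | i <;>
      simp [expo, sgnOrbit, Units.val_zpow_eq_zpow_val, zpow_add₀, _root_.zpow_mul] <;>
      norm_num
  · rcases i with i | i <;> rcases j with j | j <;>
      simp only [expo, Sum.elim_inl, Sum.elim_inr] at h <;>
      have := hsmall _ (heq _ _ h) (by omega) (by omega)
    · exact congrArg Sum.inl (Fin.ext (by omega))
    · omega
    · omega
    · exact congrArg Sum.inr (Fin.ext (by omega))
  · -- every parameter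
    have hφN : φ g ^ N = 1 := by
      rw [← map_pow]
      refine hφ _ ?_
      rw [orderOf_pow_of_dvd hN0 ⟨m, by rw [hog]⟩, hog, Nat.mul_div_cancel_left _ (by omega)]
      exact hm
    haveI : NeZero N := ⟨hN0⟩
    obtain ⟨k, hk, hkη⟩ := (IsPrimitiveRoot.coe_units_iff.2 hη).eq_pow_of_pow_eq_one
      (show ((φ g : ℂˣ) : ℂ) ^ N = 1 by rw [← Units.val_pow_eq_pow_val, hφN, Units.val_one])
    have hφk : φ = Θ (k : ℤ) := hext _ _ (by rw [hΘ, zpow_natCast]; exact Units.ext (by rw [Units.val_pow_eq_pow_val, hkη]))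
    rcases Nat.mod_two_eq_zero_or_one k with h0 | h0
    · obtain ⟨i, rfl⟩ : ∃ i, k = 2 * i := ⟨k / 2, by omega⟩
      have hne : (Θ (2 * (i : ℤ))).comp conjUnit ≠ Θ (2 * (i : ℤ)) := by
        rw [hφk] at hfix; exact_mod_cast hfix
      push_cast at hφk
      rcases lt_trichotomy i A with hi | hi | hi
      · rcases Nat.eq_zero_or_pos i with rfl | hi0
        · exact absurd ((hcjE _).trans (hmod _ _ (by simp))) hne
        · refine ⟨Sum.inr ⟨i - 1, by omega⟩, Or.inl ?_⟩
          rw [hφk]; congr 1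
          simp only [expo, Sum.elim_inr]; omega
      · exact absurd ((hcjE _).trans (hmod _ _ ⟨-1, by subst hi; rw [hN4]; ring⟩)) hne
      · refine ⟨Sum.inr ⟨2 * A - i - 1, by omega⟩, Or.inr ?_⟩
        rw [hφk, hcjE]
        refine hmod _ _ ⟨-1, ?_⟩
        rw [hN4]; simp only [expo, Sum.elim_inr]; omega
    · rcases (show k % 4 = 1 ∨ k % 4 = 3 by omega) with h4 | h4
      · refine ⟨Sum.inl ⟨k / 4, by omega⟩, Or.inl ?_⟩
        rw [hφk]; congr 1
        simp only [expo, Sum.elim_inl]; omega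
      · obtain ⟨i, rfl⟩ : ∃ i, k = 2 * i + 1 := ⟨k / 2, by omega⟩
        push_cast at hφk
        by_cases hlt : 2 * i + 1 < 2 * A
        · refine ⟨Sum.inl ⟨(2 * A - (2 * i + 1)) / 4, by omega⟩, Or.inr ?_⟩
          rw [hφk, hcjO]; congr 1
          simp only [expo, Sum.elim_inl]; omega
        · refine ⟨Sum.inl ⟨(6 * A - (2 * i + 1)) / 4, by omega⟩, Or.inr ?_⟩
          rw [hφk, hcjO]
          refine hmod _ _ ⟨-1, ?_⟩
          rw [hN4]; simp only [expo, Sum.elim_inl]; omega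

end Cfsg.Agent.H3.SDOrder
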