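import Cfsg.Agent.H3.SDOrder.Column
import Cfsg.Agent.H3.SDOrder.Descent
import Cfsg.Agent.CharBasic.Complete
import Cfsg.Agent.CharBasic.Kernel
import Cfsg.Agent.BlockBasic.Local

/-!
# Data of the semidihedral order formula on a group covering `C(t)`

`Data H z J Q`: three kinds of functions supported on the elements with `z` as a power, with their inner
products, their sums over products of two involutions and the principal block part of the column at
`z`.  `Data.exists_funs` pushes them to `C(t)` along a quotient by a central subgroup of odd order.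
-/

set_option autoImplicit false
set_option linter.unusedSectionVars false
set_option linter.style.haveILetI false

namespace Cfsg.Agent.H3.SDOrder.SDTable

open Finset Subgroup Cfsg.Agent.CharBasic Cfsg.Agent.H3.SDOrder.Descent
open scoped ComplexConjugate

universe u v

variable {H : Type v} [Group H] [Fintype H]

/-- A generalised character with all constituents in the principal two-block is constant modulo
central elements of odd order. -/
theorem apply_mul_central_of_perp {M : Ideal Cfsg.AlgInt} (hM : Cfsg.IsPModular 2 M) {f : H → ℂ}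
    (hgen : Cfsg.IsGeneralizedCharacter H f)
    (hperp : ∀ ψ : Cfsg.IrrCharacter H, ψ ∉ Cfsg.principalBlock M H →
      Cfsg.classInner f (ψ : H → ℂ) = 0) (g c : H) (hc : c ∈ center H) (ho : Odd (orderOf c)) :
    f (g * c) = f g := by
  rw [classFunction_expansion (CharInduce.IsGen.isClassFunction hgen)]
  simp only [Finset.sum_apply, Pi.smul_apply, smul_eq_mul]
  refine Finset.sum_congr rfl fun ψ _ => ?_
  by_cases hψ : ψ ∈ Cfsg.principalBlock M H
  · congr 1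
    haveI : (zpowers c).Normal := ⟨fun n hn y => by
      rw [mem_center_iff.1 (zpowers_le.2 hc hn) y, mul_inv_cancel_right]; exact hn⟩
    have h1 : (ψ : H → ℂ) c = (ψ : H → ℂ) 1 :=
      H82.apply_eq_of_mem_principalBlock hM hψ (zpowers c)
        (by rw [Nat.card_zpowers]; exact fun hd =>
          Nat.not_even_iff_odd.2 ho (even_iff_two_dvd.2 hd)) (mem_zpowers c)
    obtain ⟨n, ρ, hρ, he⟩ := ψ.2
    haveI := hρ
    obtain ⟨z, -, -, hz⟩ := CharBasic.exists_central_scalar ρ hc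
    rw [← he] at h1 ⊢
    have := hz 1
    rw [one_mul, h1] at this
    rw [hz g, (mul_eq_right₀ (by rw [he]; exact IsIrr.one_ne_zero ψ.2)).1 this.symm, one_mul]
  · rw [hperp ψ hψ, zero_mul, zero_mul]

/-- The data. -/
structure Data (H : Type v) [Group H] [Fintype H] (z : H) (J : Type) [Fintype J] (Q : ℤ) where
  a₁ : H → ℂ
  a₂ : H → ℂ
  a₃ : J → H → ℂ
  s : J → ℤ
  hJ : 3 ≤ Fintype.card J
  hs : ∑ j, s j = -1
  hs2 : ∀ j, s j = 1 ∨ s j = -1
  gen : ∀ f, (f = a₁ ∨ f = a₂ ∨ ∃ j, f = a₃ j) → Cfsg.IsGeneralizedCharacter H f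
  special : ∀ f, (f = a₁ ∨ f = a₂ ∨ ∃ j, f = a₃ j) → ∀ g, f g ≠ 0 → z ∈ zpowers g
  perp : ∀ M : Ideal Cfsg.AlgInt, Cfsg.IsPModular 2 M → ∀ f, (f = a₁ ∨ f = a₂ ∨ ∃ j, f = a₃ j) →
    ∀ ψ : Cfsg.IrrCharacter H, ψ ∉ Cfsg.principalBlock M H → Cfsg.classInner f (ψ : H → ℂ) = 0
  g11 : Cfsg.classInner a₁ a₁ = 3
  g22 : Cfsg.classInner a₂ a₂ = 3
  g12 : Cfsg.classInner a₁ a₂ = 1
  g13 : ∀ j, Cfsg.classInner a₁ (a₃ j) = 2
  g23 : ∀ j, Cfsg.classInner a₂ (a₃ j) = 2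
  g33 : ∀ j, Cfsg.classInner (a₃ j) (a₃ j) = 4
  g34 : ∀ j k, j ≠ k → Cfsg.classInner (a₃ j) (a₃ k) = 3
  one₁ : Cfsg.classInner a₁ (fun _ => 1) = 1
  one₂ : Cfsg.classInner a₂ (fun _ => 1) = 0
  one₃ : ∀ j, Cfsg.classInner (a₃ j) (fun _ => 1) = 1
  pairs₁ : (∑ g, ∑ h, invol g * invol h * a₁ (g * h)) =
    (((Q : ℂ) + 1) * Q) ^ 2 * (1 + (Q : ℂ)⁻¹)
  pairs₂ : (∑ g, ∑ h, invol g * invol h * a₂ (g * h)) =
    (((Q : ℂ) + 1) * Q) ^ 2 * (1 + (Q : ℂ)⁻¹)
  pairs₃ : ∀ j, (∑ g, ∑ h, invol g * invol h * a₃ j (g * h)) = (((Q : ℂ) + 1) * Q) ^ 2 * 2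
  column : ∀ M : Ideal Cfsg.AlgInt, Cfsg.IsPModular 2 M → ∀ ψ : Cfsg.IrrCharacter H,
    ψ ∈ Cfsg.principalBlock M H →
      (Q : ℂ) * (Cfsg.classInner a₁ (ψ : H → ℂ) + Cfsg.classInner a₂ (ψ : H → ℂ)) +
        ((Q : ℂ) - 1) * ∑ j, (s j : ℂ) * Cfsg.classInner (a₃ j) (ψ : H → ℂ) =
        conj ((ψ : H → ℂ) z)
  card_eq : (Nat.card H : ℤ) = (Q + 1) * Q * (Q - 1) ^ 2
  card_center : (Nat.card (center H) : ℤ) ∣ (Q - 1) ^ 2

variable {G : Type u} [Group G] [Fintype G] {t : G} [Fintype (centralizer ({t} : Set G))]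
  {z : H} {J : Type} [Fintype J] {Q : ℤ}

/-- The functions of the order formula. -/
theorem Data.exists_funs (D : Data H z J Q) (ht : orderOf t = 2)
    {π : H →* centralizer ({t} : Set G)} (hc : OddCover π) (hπz : (π z : G) = t) :
    ∃ (T : ℕ) (P P₃ : ℚ), T ≠ 0 ∧
      (Nat.card (centralizer ({t} : Set G)) : ℤ) = T * Q * (Q + 1) ∧
      P * ((T : ℚ) ^ 2 * Q) =
        (Nat.card (centralizer ({t} : Set G)) : ℚ) * ((Q : ℚ) + 1) ∧
      P₃ * (T : ℚ) ^ 2 = 2 * (Nat.card (centralizer ({t} : Set G)) : ℚ) ∧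
      Nonempty (H84.SD.Funs t J Q P P₃) := by
  classical
  obtain ⟨M, hM⟩ := BlockBasic.exists_isPModular Nat.prime_two
  set N := Nat.card (centralizer ({t} : Set G)) with hN
  have hcard : (Nat.card π.ker : ℤ) * N = (Q + 1) * Q * (Q - 1) ^ 2 := by
    rw [← D.card_eq, hN, ← Nat.card_congr (QuotientGroup.quotientKerEquivOfSurjective π hc.surj).toEquiv,
      Subgroup.card_eq_card_quotient_mul_card_subgroup π.ker]
    push_cast; ring
  obtain ⟨c, hcK⟩ : (Nat.card π.ker : ℤ) ∣ (Q - 1) ^ 2 :=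
    (Int.natCast_dvd_natCast.2 (Subgroup.card_dvd_of_le hc.central)).trans D.card_center
  have hH0 : (Q + 1) * Q * (Q - 1) ^ 2 ≠ 0 := by
    rw [← D.card_eq]; exact_mod_cast Nat.card_pos.ne'
  simp only [ne_eq, mul_eq_zero, not_or, pow_eq_zero_iff two_ne_zero] at hH0
  obtain ⟨⟨hQ1, hQ0⟩, hQm⟩ := hH0
  have hK0 : (0 : ℤ) < Nat.card π.ker := by exact_mod_cast Nat.card_pos
  have hcpos : 0 < c := by
    have : (0 : ℤ) < (Q - 1) ^ 2 := by positivity
    rw [hcK] at this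
    exact (pos_iff_pos_of_mul_pos this).1 hK0
  lift c to ℕ using hcpos.le
  have hc0 : c ≠ 0 := by omega
  have hC : (N : ℤ) = c * Q * (Q + 1) := by
    refine mul_left_cancel₀ hK0.ne' ?_
    rw [hcard, hcK]; ring
  have hN0 : (N : ℚ) ≠ 0 := by rw [hN]; exact_mod_cast Nat.card_pos.ne'
  have hc0' : (c : ℚ) ≠ 0 := Nat.cast_ne_zero.2 hc0
  have hQ0' : (Q : ℚ) ≠ 0 := Int.cast_ne_zero.2 hQ0
  set R : ℚ := ((Q : ℚ) + 1) * Q
  have hCq : (N : ℚ) = (c : ℚ) * Q * (Q + 1) := by exact_mod_cast hC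
  refine ⟨c, R ^ 2 * (1 + (Q : ℚ)⁻¹) / N, R ^ 2 * 2 / N, hc0, hC, ?_, ?_, ?_⟩
  · simp only [R]; rw [hCq] at hN0 ⊢; field_simp
  · simp only [R]; rw [hCq] at hN0 ⊢; field_simp
  let Mem : (H → ℂ) → Prop := fun f => f = D.a₁ ∨ f = D.a₂ ∨ ∃ j, f = D.a₃ j
  have m₁ : Mem D.a₁ := Or.inl rfl
  have m₂ : Mem D.a₂ := Or.inr (Or.inl rfl)
  have m₃ : ∀ j, Mem (D.a₃ j) := fun j => Or.inr (Or.inr ⟨j, rfl⟩)
  have hinv : ∀ {f}, Mem f → ∀ g k, k ∈ center H → Odd (orderOf k) → f (g * k) = f g :=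
    fun hf => apply_mul_central_of_perp hM (D.gen _ hf) (D.perp M hM _ hf)
  have hsp : ∀ {f}, Mem f → H84.SD.Special (push hc f) := fun hf =>
    special_push hc (hinv hf) hπz (D.special _ hf)
  have hperp : ∀ {f}, Mem f → ∀ ψ : Cfsg.IrrCharacter (centralizer ({t} : Set G)),
      ψ ∉ Cfsg.principalBlock M (centralizer ({t} : Set G)) →
      Cfsg.classInner (push hc f) (ψ : centralizer ({t} : Set G) → ℂ) = 0 :=
    fun hf => perp_push hc (hinv hf) (D.perp M hM _ hf)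
  have hone : ∀ {f}, Mem f → Cfsg.classInner (push hc f) (fun _ => 1) =
      Cfsg.classInner f (fun _ => 1) := fun hf => inner_push hc (hinv hf) _
  have hgram : ∀ {f f'}, Mem f → Mem f' →
      Cfsg.classInner (push hc f) (push hc f') = Cfsg.classInner f f' :=
    fun hf hf' => inner_push_push hc (hinv hf) (hinv hf')
  have hpairs : ∀ {f}, Mem f → ∀ r : ℚ,
      (∑ g, ∑ h, invol g * invol h * f (g * h)) = (r : ℂ) →
      ∑ x : centralizer ({t} : Set G), conj (push hc f x) * (H84.SD.pairs t x : ℂ) =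
        (N : ℂ) * ((r / N : ℚ) : ℂ) := by
    intro f hf r hr
    rw [pairs_push hc (hinv hf), hr, Rat.cast_div, Rat.cast_natCast,
      show ((r : ℂ)) = ((r : ℝ) : ℂ) by push_cast; rfl, Complex.conj_ofReal,
      mul_div_cancel₀ _ (by exact_mod_cast hN0)]
  refine ⟨{
    a₁ := push hc D.a₁, a₂ := push hc D.a₂, a₃ := fun j => push hc (D.a₃ j), s := D.s
    hs := D.hs, hs2 := D.hs2
    gen₁ := isGen_push hc (hinv m₁) (D.gen _ m₁)
    gen₂ := isGen_push hc (hinv m₂) (D.gen _ m₂)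
    gen₃ := fun j => isGen_push hc (hinv (m₃ j)) (D.gen _ (m₃ j))
    sp₁ := hsp m₁, sp₂ := hsp m₂, sp₃ := fun j => hsp (m₃ j)
    g11 := by rw [hgram m₁ m₁, D.g11]
    g22 := by rw [hgram m₂ m₂, D.g22]
    g12 := by rw [hgram m₁ m₂, D.g12]
    g13 := fun j => by rw [hgram m₁ (m₃ j), D.g13]
    g23 := fun j => by rw [hgram m₂ (m₃ j), D.g23]
    g33 := fun j => by rw [hgram (m₃ j) (m₃ j), D.g33]
    g34 := fun j k hjk => by rw [hgram (m₃ j) (m₃ k), D.g34 j k hjk]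
    one₁ := by rw [hone m₁, D.one₁]
    one₂ := by rw [hone m₂, D.one₂]
    one₃ := fun j => by rw [hone (m₃ j), D.one₃]
    hP₁ := hpairs m₁ _ (by rw [D.pairs₁]; simp [R])
    hP₂ := hpairs m₂ _ (by rw [D.pairs₂]; simp [R])
    hP₃ := fun j => hpairs (m₃ j) _ (by rw [D.pairs₃]; simp [R])
    value := fun χ hχ => ?_ }⟩
  have hmem : χ ∈ Cfsg.principalBlock M G := by
    rcases hχ with h | h | ⟨j, h⟩
    · exact mem_principal_of_coeff_ne_zero hM ht (hsp m₁) (hperp m₁) h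
    · exact mem_principal_of_coeff_ne_zero hM ht (hsp m₂) (hperp m₂) h
    · exact mem_principal_of_coeff_ne_zero hM ht (hsp (m₃ j)) (hperp (m₃ j)) h
  rw [value_eq_sum hM ht hmem
    (Sum.elim (fun _ : Fin 2 => (Q : ℂ)) fun j => ((Q : ℂ) - 1) * (D.s j : ℂ))
    (Sum.elim ![push hc D.a₁, push hc D.a₂] fun j => push hc (D.a₃ j)) fun ψ => ?_]
  · simp only [Fintype.sum_sum_type, Fin.sum_univ_two, Sum.elim_inl, Sum.elim_inr,
      Matrix.cons_val_zero, Matrix.cons_val_one, Finset.mul_sum, mul_add, mul_assoc]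
  simp only [Fintype.sum_sum_type, Fin.sum_univ_two, Sum.elim_inl, Sum.elim_inr,
    Matrix.cons_val_zero, Matrix.cons_val_one]
  split_ifs with hψ
  · simp only [inner_push hc (hinv m₁), inner_push hc (hinv m₂),
      fun j => inner_push hc (hinv (m₃ j))]
    have h := D.column M hM ⟨_, CharInduce.IsIrr.comp ψ.2 π hc.surj⟩
      ((mem_principal hc M ψ).1 hψ)
    simp only [show π z = ⟨t, mem_centralizer_singleton_iff.2 rfl⟩ from Subtype.ext hπz] at h
    rw [← h, mul_add, Finset.mul_sum]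
    simp only [mul_assoc]
  · simp [hperp m₁ ψ hψ, hperp m₂ ψ hψ, fun j => hperp (m₃ j) ψ hψ]

end Cfsg.Agent.H3.SDOrder.SDTable
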