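import Cfsg.Agent.H36.TwoTori.Table
import Cfsg.Agent.H83.ClassConst
import Cfsg.Agent.H84.SD.Engine
import Cfsg.Agent.H3.SDOrder.Descent

/-!
# The involutions of a table of two tori

With `e` the involution of `A`: the central one `T (e, e)` and the class of `T (1, e)`, of size
`Q (Q + 1)`; the sums of an irreducible character over products of two involutions.
-/

set_option autoImplicit false
set_option linter.unusedSectionVars false
set_option linter.style.haveILetI false

namespace Cfsg.Agent.H3.SDOrder.Invol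

open Finset Cfsg.Agent.H36.TwoTori Cfsg.Agent.CharBasic Cfsg.Agent.H3.SDOrder.Descent

universe v

variable {H A B : Type v} [Group H] [Fintype H] [CommGroup A] [Fintype A] [CommGroup B] [Fintype B]
  {Q : ℤ} (D : Table H A B Q) {e : A} (he : orderOf e = 2)

include he in
theorem sq_e : e * e = 1 := by rw [← pow_two, ← he, pow_orderOf_eq_one]

include he in
theorem ne_e : e ≠ 1 := fun h => by rw [h, orderOf_one] at he; exact absurd he (by norm_num)

include D he in
/-- The only involution of `A`. -/
theorem eq_e {a : A} (h : a * a = 1) (h1 : a ≠ 1) : a = e := by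
  haveI := D.cyclicA
  obtain ⟨g, hg⟩ := IsCyclic.exists_generator (α := A)
  exact H84.SD.eq_of_mem_zpowers (hg a) (hg e) h (sq_e he) h1 (ne_e he)

include D he in
theorem mem_zpowers_of_even {a : A} (ha : ¬ Odd (orderOf a)) : e ∈ Subgroup.zpowers a := by
  obtain ⟨k, hk⟩ := Nat.not_odd_iff_even.1 ha
  have hpos := orderOf_pos a
  rw [← eq_e D he (a := a ^ k) (by rw [← pow_add, ← hk, pow_orderOf_eq_one])
    (pow_ne_one_of_lt_orderOf (by omega) (by omega))]
  exact Subgroup.npow_mem_zpowers a k

include D he in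
theorem incl_mem_zpowers {y : B} (hy : ¬ Odd (orderOf y)) : D.incl e ∈ Subgroup.zpowers y := by
  obtain ⟨k, hk⟩ := Nat.not_odd_iff_even.1 hy
  have hpos := orderOf_pos y
  haveI := D.cyclicB
  obtain ⟨g, hg⟩ := IsCyclic.exists_generator (α := B)
  rw [← H84.SD.eq_of_mem_zpowers (a := y ^ k) (hg _) (hg (D.incl e))
    (by rw [← pow_add, ← hk, pow_orderOf_eq_one]) (by rw [← map_mul, sq_e he, map_one])
    (pow_ne_one_of_lt_orderOf (by omega) (by omega))
    (fun h => ne_e he (D.incl_injective (h.trans (map_one _).symm)))]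
  exact Subgroup.npow_mem_zpowers y k

include he in
theorem orderOf_central : orderOf (D.T (e, e)) = 2 := by
  rw [orderOf_injective D.T D.T_injective, Prod.orderOf, Nat.lcm_self, he]

include he in
theorem invol_cases {x : H} (hx : orderOf x = 2) : x = (D.T (e, e)) ∨ IsConj (D.T (1, e)) x := by
  have hsq : x * x = 1 := by rw [← pow_two]; exact hx ▸ pow_orderOf_eq_one x
  have hne : x ≠ 1 := fun h => by rw [h, orderOf_one] at hx; exact absurd hx (by norm_num)
  rcases D.classes x with ⟨a, rfl⟩ | ⟨a, hc⟩ | ⟨a, b, hab, hc⟩ | ⟨y, hy, hc⟩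
  · left
    have h2 : a * a = 1 := congrArg Prod.fst
      (D.T_injective ((map_mul D.T _ _).trans (hsq.trans (map_one D.T).symm)))
    rw [eq_e D he h2 fun h => hne (by rw [h]; exact map_one D.T)]
  all_goals obtain ⟨g, rfl⟩ := isConj_iff.1 hc
  · exfalso
    have h1 : D.T (a, a) * D.uni * (D.T (a, a) * D.uni) = 1 := by
      apply mul_left_cancel (a := g)
      apply mul_right_cancel (b := g⁻¹)
      calc g * (D.T (a, a) * D.uni * (D.T (a, a) * D.uni)) * g⁻¹
          = g * (D.T (a, a) * D.uni) * g⁻¹ * (g * (D.T (a, a) * D.uni) * g⁻¹) := by group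
        _ = _ := by rw [hsq]; group
    have hcomm : Commute (D.T (a, a)) D.uni := (Subgroup.mem_center_iff.1 (D.T_center a) D.uni).symm
    rw [← pow_two, hcomm.mul_pow] at h1
    have h2 : D.T (a, a) ^ (2 * Q.natAbs) = 1 := by
      have h3 := congrArg (· ^ Q.natAbs) h1
      simp only [one_pow] at h3
      rwa [(hcomm.pow_pow 2 2).mul_pow, ← pow_mul, ← pow_mul, mul_comm 2 Q.natAbs,
        pow_mul D.uni, D.uni_pow, one_pow, mul_one, mul_comm Q.natAbs 2] at h3
    have h4 : a ^ (2 * Q.natAbs) = 1 := by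
      rw [← map_pow, Prod.pow_mk] at h2
      exact congrArg Prod.fst (D.T_injective (h2.trans (map_one _).symm))
    have h5 : a ^ 2 = 1 := by
      have hcop : (Nat.card A).Coprime Q.natAbs := by
        have hcop : IsCoprime ((Nat.card A : ℤ)) Q := by
          rcases D.σ_pm with e | e
          · exact ⟨-1, 1, by rw [D.cardA, e]; ring⟩
          · exact ⟨1, 1, by rw [D.cardA, e]; ring⟩
        simpa [Int.isCoprime_iff_gcd_eq_one, Int.gcd, Nat.Coprime] using hcop
      have := pow_gcd_eq_one.2 ⟨(show (a ^ 2) ^ Nat.card A = 1 from pow_card_eq_one'),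
        (show (a ^ 2) ^ Q.natAbs = 1 by rw [← pow_mul, h4])⟩
      rwa [hcop, pow_one] at this
    rw [← map_pow, Prod.pow_mk, h5, Prod.mk_one_one, map_one, one_mul] at h1
    obtain ⟨r, hr⟩ := Int.natAbs_odd.2 D.odd_Q
    have h6 := D.uni_pow
    rw [hr, pow_succ, pow_mul, h1, one_pow, one_mul] at h6
    exact D.uni_ne h6
  · right
    have h1 : D.T (a, b) * D.T (a, b) = 1 := by
      apply mul_left_cancel (a := g)
      apply mul_right_cancel (b := g⁻¹)
      calc g * (D.T (a, b) * D.T (a, b)) * g⁻¹ = g * D.T (a, b) * g⁻¹ * (g * D.T (a, b) * g⁻¹) := by group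
        _ = _ := by rw [hsq]; group
    have h2 := D.T_injective ((map_mul D.T _ _).trans (h1.trans (map_one D.T).symm))
    have ha : a * a = 1 := congrArg Prod.fst h2
    have hb : b * b = 1 := congrArg Prod.snd h2
    refine IsConj.trans ?_ (isConj_iff.2 ⟨g, rfl⟩)
    by_cases ha1 : a = 1
    · rw [ha1, eq_e D he hb fun h => hab (ha1.trans h.symm)]
    · by_cases hb1 : b = 1
      · obtain ⟨w, hw⟩ := D.swapT
        rw [hb1, eq_e D he ha ha1]
        exact isConj_iff.2 ⟨w, hw _ _⟩
      · exact absurd ((eq_e D he ha ha1).trans (eq_e D he hb hb1).symm) hab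
  · exfalso
    have h1 : D.S (y * y) = D.S 1 := by
      apply mul_left_cancel (a := g)
      apply mul_right_cancel (b := g⁻¹)
      calc g * D.S (y * y) * g⁻¹ = g * D.S y * g⁻¹ * (g * D.S y * g⁻¹) := by rw [map_mul]; group
        _ = _ := by rw [hsq, map_one]; group
    have h2 : y * y = 1 := D.S_injective h1
    by_cases hy1 : y = 1
    · exact hy ⟨1, by rw [map_one, hy1]⟩
    · refine hy ⟨e, ?_⟩
      haveI := D.cyclicB
      obtain ⟨g', hg'⟩ := IsCyclic.exists_generator (α := B)
      exact (H84.SD.eq_of_mem_zpowers (hg' y) (hg' _) h2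
        (by rw [← map_mul, (sq_e he), map_one]) hy1
        (fun h => (ne_e he) (D.incl_injective (h.trans (map_one _).symm)))).symm

include he in
theorem orderOf_refl : orderOf (D.T (1, e)) = 2 := by
  rw [orderOf_injective D.T D.T_injective]
  refine orderOf_eq_prime ?_ fun h => (ne_e he) (congrArg Prod.snd h)
  rw [pow_two, Prod.mk_mul_mk, (sq_e he), one_mul, Prod.mk_one_one]

include he in
theorem refl_not_conj : ¬ IsConj (D.T (1, e)) (D.T (e, e)) := fun h => by
  obtain ⟨g, hg⟩ := isConj_iff.1 h
  have e : (D.T (1, e)) = (D.T (e, e)) := by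
    calc (D.T (1, e)) = g⁻¹ * (g * (D.T (1, e)) * g⁻¹) * g := by group
      _ = (D.T (e, e)) := by
        rw [hg, mul_assoc, ← Subgroup.mem_center_iff.1 (D.T_center e) g, inv_mul_cancel_left]
  exact (ne_e he) (congrArg Prod.fst (D.T_injective e)).symm

include he in
open scoped Classical in
/-- The size of the class of reflections. -/
theorem index_refl :
    ((Subgroup.centralizer ({(D.T (1, e))} : Set H)).index : ℂ) = (Q : ℂ) * (Q + 1) := by
  have hs := D.sum_eq (H83.classInd (D.T (1, e))) (H83.classInd_isClassFunction _)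
  rw [show ∑ x : H, H83.classInd (D.T (1, e)) x = ((Subgroup.centralizer ({(D.T (1, e))} : Set H)).index : ℂ) by
    rw [← H83.classSize_eq_index (D.T (1, e)), Finset.natCast_card_filter]; rfl] at hs
  have hord : ∀ x : H, IsConj (D.T (1, e)) x → orderOf x = 2 := fun x hx => by
    obtain ⟨g, rfl⟩ := isConj_iff.1 hx
    exact (MulEquiv.orderOf_eq (MulAut.conj g) _).trans (orderOf_refl D he)
  have hcen : ∀ a : A, ¬ IsConj (D.T (1, e)) (D.T (a, a)) := fun a h => by
    obtain ⟨g, hg⟩ := isConj_iff.1 h
    have e : (D.T (1, e)) = D.T (a, a) := by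
      calc (D.T (1, e)) = g⁻¹ * (g * (D.T (1, e)) * g⁻¹) * g := by group
        _ = D.T (a, a) := by
          rw [hg, mul_assoc, ← Subgroup.mem_center_iff.1 (D.T_center a) g, inv_mul_cancel_left]
    have := D.T_injective e
    exact (ne_e he) ((congrArg Prod.snd this).trans (congrArg Prod.fst this).symm)
  have hsq : ∀ {x : H}, IsConj (D.T (1, e)) x → x * x = 1 := fun h => by
    rw [← pow_two]; exact hord _ h ▸ pow_orderOf_eq_one _
  have hsum1 : ∀ a : A, H83.classInd (D.T (1, e)) (D.T (a, a) * D.uni) = 0 := fun a => if_neg fun h => by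
    rcases invol_cases D he (hord _ h) with e | e
    · exact (refl_not_conj D he) (e ▸ h)
    · have h1 := hsq h
      have hcomm : Commute (D.T (a, a)) D.uni := (Subgroup.mem_center_iff.1 (D.T_center a) D.uni).symm
      rw [← pow_two, hcomm.mul_pow, mul_eq_one_iff_eq_inv] at h1
      have h2 : (D.T (a, a) * D.uni) ^ Q.natAbs = D.T (a, a) ^ Q.natAbs := by
        rw [hcomm.mul_pow, D.uni_pow, mul_one]
      obtain ⟨r, hr⟩ := Int.natAbs_odd.2 D.odd_Q
      have h3 : (D.T (a, a) * D.uni) ^ Q.natAbs = D.T (a, a) * D.uni := by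
        rw [hr, pow_succ, pow_mul, pow_two, hsq h, one_pow, one_mul]
      refine hcen (a ^ Q.natAbs) ?_
      rwa [← h3, h2, ← map_pow, Prod.pow_mk] at h
  have hsum2 : ∀ y : B, y ∉ D.incl.range → H83.classInd (D.T (1, e)) (D.S y) = 0 := fun y hy =>
    if_neg fun h => by
      have h1 := hsq h
      rw [← map_mul, ← map_one D.S] at h1
      have h2 := D.S_injective h1
      by_cases hy1 : y = 1
      · exact hy ⟨1, by rw [map_one, hy1]⟩
      · refine hy ⟨e, ?_⟩
        haveI := D.cyclicB
        obtain ⟨g', hg'⟩ := IsCyclic.exists_generator (α := B)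
        exact (H84.SD.eq_of_mem_zpowers (hg' y) (hg' _) h2
          (by rw [← map_mul, (sq_e he), map_one]) hy1
          (fun h => (ne_e he) (D.incl_injective (h.trans (map_one _).symm)))).symm
  have hpair : (∑ p : A × A, if p.1 = p.2 then (0 : ℂ) else H83.classInd (D.T (1, e)) (D.T p)) = 2 := by
    have hne : (1, e) ≠ (e, (1 : A)) := fun e => (ne_e he) (congrArg Prod.fst e).symm
    rw [Finset.sum_eq_add (1, e) (e, 1) hne (fun p _ hp => ?hp) (by simp) (by simp),
      if_neg (Ne.symm (ne_e he)), if_neg (ne_e he)]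
    case hp =>
      split_ifs with e
      · rfl
      · refine if_neg fun h => ?_
        have h1 := hsq h
        rw [← map_mul, ← map_one D.T] at h1
        have h2 := D.T_injective h1
        have ha : p.1 * p.1 = 1 := congrArg Prod.fst h2
        have hb : p.2 * p.2 = 1 := congrArg Prod.snd h2
        by_cases ha1 : p.1 = 1
        · exact hp.1 (Prod.ext ha1 (eq_e D he hb fun h => e (ha1.trans h.symm)))
        · by_cases hb1 : p.2 = 1
          · exact hp.2 (Prod.ext (eq_e D he ha ha1) hb1)
          · exact e ((eq_e D he ha ha1).trans (eq_e D he hb hb1).symm)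
    obtain ⟨w, hw⟩ := D.swapT
    rw [show H83.classInd (D.T (1, e)) (D.T (1, e)) = 1 from if_pos (IsConj.refl _),
      show H83.classInd (D.T (1, e)) (D.T (e, 1)) = 1 from
        if_pos (isConj_iff.2 ⟨w, hw _ _⟩)]
    norm_num
  rw [hs, Finset.sum_eq_zero fun a _ => by
      rw [hsum1 a, show H83.classInd (D.T (1, e)) (D.T (a, a)) = 0 from if_neg (hcen a), mul_zero, add_zero],
    zero_add, hpair, show (∑ y : B, if y ∈ D.incl.range then (0 : ℂ) else H83.classInd (D.T (1, e)) (D.S y)) = 0
      from Finset.sum_eq_zero fun y _ => by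
        split_ifs with e
        · rfl
        · exact hsum2 y e]
  ring

include he in
theorem sum_invol_irr (ψ : Cfsg.IrrCharacter H) :
    (∑ g : H, ∑ h : H, invol g * invol h * (ψ : H → ℂ) (g * h)) * (ψ : H → ℂ) 1 =
      ((ψ : H → ℂ) (D.T (e, e)) + (Q : ℂ) * (Q + 1) * (ψ : H → ℂ) (D.T (1, e))) ^ 2 := by
  classical
  have hcl : Cfsg.IsClassFunction H (invol (K := H)) := fun g x => by
    unfold invol
    rw [show orderOf (x * g * x⁻¹) = orderOf g from MulEquiv.orderOf_eq (MulAut.conj x) g]
  rw [H83.omega_mul hcl hcl ψ.2, ← sq]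
  congr 1
  have hsplit : ∀ g : H, invol g * (ψ : H → ℂ) g =
      (if g = (D.T (e, e)) then (ψ : H → ℂ) g else 0) + H83.classInd (D.T (1, e)) g * (ψ : H → ℂ) g := by
    intro g
    unfold invol H83.classInd
    by_cases h1 : g = (D.T (e, e))
    · subst h1
      rw [if_pos (orderOf_central D he), if_pos rfl, if_neg (refl_not_conj D he)]; ring
    · by_cases h3 : IsConj (D.T (1, e)) g
      · obtain ⟨y, rfl⟩ := isConj_iff.1 h3
        have ho : orderOf (y * (D.T (1, e)) * y⁻¹) = 2 :=
          (MulEquiv.orderOf_eq (MulAut.conj y) _).trans (orderOf_refl D he)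
        rw [if_pos ho, if_neg h1,
          if_pos h3]
        ring
      · rw [if_neg fun h => (invol_cases D he h).elim h1 h3, if_neg h1, if_neg h3]; ring
  rw [Finset.sum_congr rfl fun g _ => hsplit g, Finset.sum_add_distrib, Finset.sum_ite_eq',
    if_pos (Finset.mem_univ _), H83.sum_classInd_mul (CharBasic.IsIrr.isClassFunction ψ.2),
    H83.classSize_eq_index, index_refl D he]

end Cfsg.Agent.H3.SDOrder.Invol
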