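import Cfsg.Agent.H3.SDOrder.TableLog
import Cfsg.Agent.CharInduce.Ops
import Cfsg.Agent.H82.PrincipalBlock
import Cfsg.Agent.H84.SD.Engine
import Cfsg.Agent.H83.ClassConst
import Cfsg.Agent.BlockBasic.Local
import Cfsg.Agent.H3.SDOrder.TableInvol

/-!
# The three wreathed functions on a table of two tori, `Q ≡ 1 (mod 4)`

`phiW j = 1 - St + cu (2 j + 1)`, `sW = (1 - sgn) (1 - St)`, `psiW = 1 + sgn St - ps (1, sgn)`: special
for the central involution, constant modulo central elements of odd order, with their inner products,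
values at the involution and sums over products of two involutions.
-/

set_option autoImplicit false
set_option linter.unusedSectionVars false
set_option linter.style.haveILetI false

namespace Cfsg.Agent.H3.SDOrder.Wr

open Finset Cfsg.Agent.H84.WR Cfsg.Agent.H36.TwoTori Cfsg.Agent.CharBasic
open scoped ComplexConjugate

universe v

variable {H A B : Type v} [Group H] [Fintype H] [CommGroup A] [Fintype A] [CommGroup B] [Fintype B]
  {Q : ℤ} {D : Table H A B Q} {m : ℕ} (P : Log D m)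

namespace Log

/-- The quadratic parameter. -/
noncomputable def sgnChar : A →* ℂˣ := P.aChar (half m)

/-- The involution of `A`. -/
def invA : A := P.s (Multiplicative.ofAdd (half m))

/-- The central involution. -/
def invH : H := D.T (P.invA, P.invA)

/-- `1 - St + cu (2 j + 1)`. -/
noncomputable def phiW (j : Fin (2 ^ (m - 1))) : H → ℂ :=
  D.lin 1 - D.st 1 + D.cu (P.bChar (rep m j))

/-- `(1 - sgn) (1 - St)`. -/
noncomputable def sW : H → ℂ := D.lin 1 - D.lin P.sgnChar - D.st 1 + D.st P.sgnChar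

/-- `1 + sgn St - ps (1, sgn)`. -/
noncomputable def psiW : H → ℂ := D.lin 1 + D.st P.sgnChar - D.ps 1 P.sgnChar

/-- One of the three functions. -/
def IsFun (f : H → ℂ) : Prop := (∃ j, f = P.phiW j) ∨ f = P.sW ∨ f = P.psiW

include P in
theorem half_ne : (half m : ZMod (2 ^ m)) ≠ 0 :=
  half_ne_zero (le_trans (by norm_num) P.two_le)

include P in
theorem ee_half : ee (half m : ZMod (2 ^ m)) = -1 := by
  have hm1 : 1 ≤ m := le_trans (by norm_num) P.two_le
  have h2 : ee (half m : ZMod (2 ^ m)) * ee (half m) = 1 := by rw [← ee_add, half_add hm1, ee_zero]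
  refine (mul_self_eq_one_iff.1 h2).resolve_left fun h => P.half_ne ?_
  exact ZMod.injective_stdAddChar (show ee (half m : ZMod (2 ^ m)) = ee 0 by rw [h, ee_zero])

include P in
theorem half_mul_eq (x : ZMod (2 ^ m)) :
    half m * x = if Even x.val then 0 else (half m : ZMod (2 ^ m)) := by
  have hm1 : 1 ≤ m := le_trans (by norm_num) P.two_le
  conv_lhs => rw [← ZMod.natCast_zmod_val x]
  have hstep : ∀ n : ℕ, (half m : ZMod (2 ^ m)) * ((2 * n : ℕ) : ZMod (2 ^ m)) = 0 := fun n => by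
    push_cast
    linear_combination ((n : ZMod (2 ^ m))) * (half_add hm1 : (half m : ZMod (2 ^ m)) + half m = 0)
  split_ifs with h
  · obtain ⟨n, hn⟩ := h
    rw [hn, ← two_mul]; exact hstep n
  · obtain ⟨n, hn⟩ := Nat.not_even_iff_odd.1 h
    rw [hn, Nat.cast_add, mul_add, hstep n, Nat.cast_one, mul_one, zero_add]

include P in
theorem half_mul_half : (half m : ZMod (2 ^ m)) * half m = 0 := by
  rw [P.half_mul_eq, if_pos]
  rw [show (half m : ZMod (2 ^ m)) = ((2 ^ (m - 1) : ℕ) : ZMod (2 ^ m)) from rfl, ZMod.val_natCast,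
    Nat.mod_eq_of_lt (Nat.pow_lt_pow_right one_lt_two (by have := P.two_le; omega)), Nat.even_pow]
  exact ⟨even_two, by have := P.two_le; omega⟩

include P in
theorem ee_half_mul (x : ZMod (2 ^ m)) : ee (half m * x) = if Even x.val then 1 else -1 := by
  rw [P.half_mul_eq]
  split_ifs <;> simp [ee_zero, P.ee_half]

theorem sgnChar_pm (a : A) : (P.sgnChar a : ℂ) = 1 ∨ (P.sgnChar a : ℂ) = -1 := by
  rw [sgnChar, aChar_apply, P.ee_half_mul]
  split_ifs <;> simp

theorem l_invA : P.l P.invA = Multiplicative.ofAdd (half m) := P.l_s _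

theorem invA_ne : P.invA ≠ 1 := fun h => P.half_ne (by
  have := P.l_invA
  rw [h, map_one, eq_comm, ofAdd_eq_one] at this
  exact this)

theorem invA_sq : P.invA * P.invA = 1 := by
  rw [invA, ← map_mul, ← ofAdd_add, half_add (le_trans (by norm_num) P.two_le), ofAdd_zero, map_one]

theorem orderOf_invA : orderOf P.invA = 2 :=
  orderOf_eq_prime (by rw [pow_two, P.invA_sq]) P.invA_ne

/-- The only involution of `A`. -/
theorem eq_invA {a : A} (h : a * a = 1) (h1 : a ≠ 1) : a = P.invA := by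
  haveI := D.cyclicA
  obtain ⟨g, hg⟩ := IsCyclic.exists_generator (α := A)
  exact H84.SD.eq_of_mem_zpowers (hg a) (hg _) h P.invA_sq h1 P.invA_ne

theorem invA_mem_of_even {a : A} (ha : ¬ Odd (orderOf a)) : P.invA ∈ Subgroup.zpowers a := by
  obtain ⟨k, hk⟩ := Nat.not_odd_iff_even.1 ha
  have hpos := orderOf_pos a
  rw [← P.eq_invA (a := a ^ k) (by rw [← pow_add, ← hk, pow_orderOf_eq_one])
    (pow_ne_one_of_lt_orderOf (by omega) (by omega))]
  exact Subgroup.npow_mem_zpowers a k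

theorem incl_invA_mem {y : B} (hy : ¬ Odd (orderOf y)) : D.incl P.invA ∈ Subgroup.zpowers y := by
  obtain ⟨k, hk⟩ := Nat.not_odd_iff_even.1 hy
  have hpos := orderOf_pos y
  haveI := D.cyclicB
  obtain ⟨g, hg⟩ := IsCyclic.exists_generator (α := B)
  rw [← H84.SD.eq_of_mem_zpowers (a := y ^ k) (hg _) (hg (D.incl P.invA))
    (by rw [← pow_add, ← hk, pow_orderOf_eq_one]) (by rw [← map_mul, P.invA_sq, map_one])
    (pow_ne_one_of_lt_orderOf (by omega) (by omega))
    (fun h => P.invA_ne (D.incl_injective (h.trans (map_one _).symm)))]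
  exact Subgroup.npow_mem_zpowers y k

theorem invH_mem_of_a {a : A} (h : P.invA ∈ Subgroup.zpowers a) :
    P.invH ∈ Subgroup.zpowers (D.T (a, a)) := by
  obtain ⟨k, hk⟩ := Subgroup.mem_zpowers_iff.1 h
  refine ⟨k, show D.T (a, a) ^ k = D.T (P.invA, P.invA) from ?_⟩
  rw [← map_zpow, Prod.pow_mk, hk]

theorem orderOf_invH : orderOf P.invH = 2 := by
  rw [invH, orderOf_injective D.T D.T_injective]
  refine orderOf_eq_prime ?_ fun h => P.invA_ne (congrArg Prod.fst h)
  rw [pow_two, Prod.mk_mul_mk, P.invA_sq, Prod.mk_one_one]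

theorem invH_mem_center : P.invH ∈ Subgroup.center H := D.T_center _

/-! ## The constituents -/

theorem σ_ne : (D.σ : ℂ) ≠ 0 := by rcases D.σ_pm with e | e <;> simp [e]

theorem σ_mul (D : Table H A B Q) : (D.σ : ℂ) * D.σ = 1 := by rcases D.σ_pm with e | e <;> simp [e]

/-- The five constituents besides the cuspidal ones, signed to be characters. -/
noncomputable def five (i : Fin 5) : H → ℂ :=
  ![D.lin 1, D.lin P.sgnChar, (D.σ : ℂ) • D.st 1, (D.σ : ℂ) • D.st P.sgnChar,
    (D.σ : ℂ) • D.ps 1 P.sgnChar] i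

theorem sgnChar_ne_one : (1 : A →* ℂˣ) ≠ P.sgnChar := fun h => by
  obtain ⟨a, ha⟩ := P.l_surjective (Multiplicative.ofAdd 1)
  have := congrArg (fun θ : A →* ℂˣ => (θ a : ℂ)) h
  simp only [sgnChar, aChar_apply, ha, toAdd_ofAdd, mul_one, MonoidHom.one_apply, Units.val_one,
    P.ee_half] at this
  norm_num at this

include P in
theorem rep_odd (j : Fin (2 ^ (m - 1))) : Odd (rep m j).val := by
  rw [rep_val (le_trans (by norm_num) P.two_le)]
  exact ⟨j.val, rfl⟩

/-- All constituents. -/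
noncomputable def cons : Fin 5 ⊕ Fin (2 ^ (m - 1)) → H → ℂ :=
  Sum.elim P.five fun j => (D.σ : ℂ) • D.cu (P.bChar (rep m j))

theorem irr_cons (x) : Cfsg.IsIrrCharacter H (P.cons x) := by
  rcases x with i | j
  · fin_cases i
    · exact D.irr_lin _
    · exact D.irr_lin _
    · exact D.irr_st _
    · exact D.irr_st _
    · exact D.irr_ps _ _ P.sgnChar_ne_one
  · exact D.irr_cu _ ((P.bChar_moved_iff _).2 (P.rep_odd j))

theorem cons_mem {M : Ideal Cfsg.AlgInt} (hM : Cfsg.IsPModular 2 M) (x) :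
    (⟨P.cons x, P.irr_cons x⟩ : Cfsg.IrrCharacter H) ∈ Cfsg.principalBlock M H := by
  rw [D.block M hM]
  rcases x with i | j
  · have h1 : OddTriv (1 : A →* ℂˣ) := fun _ _ => rfl
    have h2 : OddTriv P.sgnChar := P.aChar_oddTriv _
    fin_cases i
    · exact Or.inl ⟨_, h1, rfl⟩
    · exact Or.inl ⟨_, h2, rfl⟩
    · exact Or.inr (Or.inl ⟨_, h1, rfl⟩)
    · exact Or.inr (Or.inl ⟨_, h2, rfl⟩)
    · exact Or.inr (Or.inr (Or.inl ⟨_, _, h1, h2, P.sgnChar_ne_one, rfl⟩))
  · exact Or.inr (Or.inr (Or.inr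
      ⟨_, P.bChar_oddTriv _, (P.bChar_moved_iff _).2 (P.rep_odd j), rfl⟩))

theorem cons_injective : Function.Injective P.cons := by
  have hv : ∀ x, P.cons x (D.T (1, 1)) = Sum.elim
      ![1, 1, (D.σ : ℂ) * Q, (D.σ : ℂ) * Q, (D.σ : ℂ) * (Q + 1)] (fun _ => (D.σ : ℂ) * (Q - 1)) x := by
    rintro (i | j)
    · fin_cases i <;> simp [cons, five, D.lin_centre, D.st_centre, D.ps_centre, Pi.smul_apply,
        smul_eq_mul, -Prod.mk_one_one]
    · simp [cons, D.cu_centre, Pi.smul_apply, smul_eq_mul]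
  obtain ⟨a, ha⟩ := P.l_surjective (Multiplicative.ofAdd 1)
  have hane : a ≠ 1 := fun h => by
    rw [h, map_one, eq_comm, ofAdd_eq_one] at ha
    exact P.half_ne (by rw [← mul_one (half m), ha, mul_zero])
  have hsgn : (P.sgnChar a : ℂ) = -1 := by
    rw [sgnChar, aChar_apply, ha, toAdd_ofAdd, mul_one, P.ee_half]
  have hQ : Q ≠ 0 ∧ D.σ * Q ≠ 1 ∧ D.σ * (Q + 1) ≠ 1 ∧ D.σ * (Q - 1) ≠ 1 := by
    have := D.three_le
    rcases D.σ_pm with e | e <;> rw [e] at this ⊢ <;> omega
  have hσ0 : D.σ ≠ 0 := by rcases D.σ_pm with e | e <;> omega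
  intro x y h
  have e := congrFun h (D.T (1, 1))
  rw [hv, hv] at e
  have e' := congrFun h (D.T (a, 1))
  obtain ⟨hQ0, hQ1, hQ2, hQ3⟩ := hQ
  rcases x with i | i <;> rcases y with j | j
  · congr 1
    fin_cases i <;> fin_cases j <;> simp [hσ0] at e ⊢ <;>
      first
      | (exfalso
         first
         | exact hQ1 (by exact_mod_cast e) | exact hQ1 (by exact_mod_cast e.symm)
         | exact hQ2 (by exact_mod_cast e) | exact hQ2 (by exact_mod_cast e.symm)
         | (simp [cons, five, D.lin_T _ _ _ hane, D.st_T _ _ _ hane, hsgn, hσ0, Pi.smul_apply] at e'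
            first
            | (norm_num at e'; done)
            | exact σ_ne (D := D) (by linear_combination e' / 2)
            | exact σ_ne (D := D) (by linear_combination -(e' / 2))))
  · exfalso
    fin_cases i <;> simp [hσ0] at e <;>
      first
      | exact hQ3 (by exact_mod_cast e.symm)
      | (have : (2 : ℂ) = 0 := by linear_combination e
         norm_num at this)
      | (have : (1 : ℂ) = 0 := by linear_combination e
         norm_num at this)
  · exfalso
    fin_cases j <;> simp [hσ0] at e <;>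
      first
      | exact hQ3 (by exact_mod_cast e)
      | (have : (2 : ℂ) = 0 := by linear_combination -e
         norm_num at this)
      | (have : (1 : ℂ) = 0 := by linear_combination -e
         norm_num at this)
  · congr 1
    have hQm : ((Q : ℂ) - 1) ≠ 0 := by
      rw [sub_ne_zero]; intro h'
      have h'' : Q = 1 := by exact_mod_cast h'
      have := D.three_le
      rcases D.σ_pm with e | e <;> rw [e, h''] at this <;> norm_num at this
    have e'' := congrFun h (D.T (a, a))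
    simp only [cons, Sum.elim_inr, Pi.smul_apply, smul_eq_mul, D.cu_centre] at e''
    have e3 := mul_left_cancel₀ hQm (mul_left_cancel₀ σ_ne e'')
    rw [P.bChar_incl, P.bChar_incl, aChar_apply, aChar_apply, ha, toAdd_ofAdd, mul_one, mul_one] at e3
    have e4 := congrArg ZMod.val (ZMod.injective_stdAddChar e3)
    have hm1 : 1 ≤ m := le_trans (by norm_num) P.two_le
    rw [red, red, rep_val hm1, rep_val hm1, ZMod.val_natCast, ZMod.val_natCast] at e4
    have hlt : ∀ k : Fin (2 ^ (m - 1)), 2 * k.val + 1 < 2 ^ m := fun k => by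
      have := k.isLt
      have : 2 ^ m = 2 * 2 ^ (m - 1) := by rw [← pow_succ']; congr 1; omega
      omega
    rw [Nat.mod_eq_of_lt (hlt i), Nat.mod_eq_of_lt (hlt j)] at e4
    exact Fin.ext (by omega)

open scoped Classical in
theorem inner_cons (x y) :
    Cfsg.classInner (P.cons x) (P.cons y) = if x = y then 1 else 0 := by
  split_ifs with h
  · rw [h, classInner_irr_self (P.irr_cons y)]
  · exact classInner_irr_of_ne (P.irr_cons x) (P.irr_cons y) fun e => h (P.cons_injective e)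

theorem phiW_eq (j : Fin (2 ^ (m - 1))) : P.phiW j = P.cons (Sum.inl 0) -
    (D.σ : ℂ) • P.cons (Sum.inl 2) + (D.σ : ℂ) • P.cons (Sum.inr j) := by
  simp [phiW, cons, five, smul_smul, σ_mul D]

theorem sW_eq : P.sW = P.cons (Sum.inl 0) - P.cons (Sum.inl 1) -
    (D.σ : ℂ) • P.cons (Sum.inl 2) + (D.σ : ℂ) • P.cons (Sum.inl 3) := by
  simp [sW, cons, five, smul_smul, σ_mul D]

theorem psiW_eq : P.psiW = P.cons (Sum.inl 0) + (D.σ : ℂ) • P.cons (Sum.inl 3) -
    (D.σ : ℂ) • P.cons (Sum.inl 4) := by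
  simp [psiW, cons, five, smul_smul, σ_mul D]

theorem conj_σ : conj (D.σ : ℂ) = D.σ := map_intCast _ _

/-- The inner products. -/
theorem gram :
    (∀ j, Cfsg.classInner (P.phiW j) (P.phiW j) = 3) ∧
    (∀ j k, j ≠ k → Cfsg.classInner (P.phiW j) (P.phiW k) = 2) ∧
    Cfsg.classInner P.sW P.sW = 4 ∧ (∀ j, Cfsg.classInner P.sW (P.phiW j) = 2) ∧
    Cfsg.classInner P.psiW P.psiW = 3 ∧ (∀ j, Cfsg.classInner P.psiW (P.phiW j) = 1) ∧
    Cfsg.classInner P.psiW P.sW = 2 := by
  classical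
  simp only [phiW_eq, sW_eq, psiW_eq, classInner_add_left, classInner_add_right,
    classInner_sub_left, classInner_sub_right, classInner_smul_left, classInner_smul_right,
    conj_σ, inner_cons]
  refine ⟨fun j => ?_, fun j k h => ?_, ?_, fun j => ?_, ?_, fun j => ?_, ?_⟩ <;>
    simp [*, σ_mul D] <;> norm_num

theorem cons_zero : P.cons (Sum.inl 0) = fun _ => 1 := by
  funext x
  show D.lin 1 x = 1
  have hc := CharBasic.IsIrr.isClassFunction (D.irr_lin 1)
  rcases D.classes x with ⟨a, rfl⟩ | ⟨a, h⟩ | ⟨a, b, hab, h⟩ | ⟨y, hy, h⟩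
  · simp [D.lin_centre]
  all_goals
    obtain ⟨g, rfl⟩ := isConj_iff.1 h
    rw [hc _ g]
  · simp [D.lin_uni]
  · simp [D.lin_T _ _ _ hab]
  · simp [D.lin_S _ _ hy]

theorem inner_one :
    (∀ j, Cfsg.classInner (P.phiW j) (fun _ => 1) = 1) ∧
    Cfsg.classInner P.sW (fun _ => 1) = 1 ∧ Cfsg.classInner P.psiW (fun _ => 1) = 1 := by
  classical
  simp only [← P.cons_zero, phiW_eq, sW_eq, psiW_eq, classInner_add_left, classInner_sub_left,
    classInner_smul_left, inner_cons]
  simp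

theorem isGen {f : H → ℂ} (hf : P.IsFun f) : Cfsg.IsGeneralizedCharacter H f := by
  have h : ∀ x, Cfsg.IsGeneralizedCharacter H (P.cons x) := fun x =>
    CharInduce.IsGen.of_char (IsIrr.isCharacter (P.irr_cons x))
  have hs : ∀ x, Cfsg.IsGeneralizedCharacter H ((D.σ : ℂ) • P.cons x) := fun x => by
    rw [show (D.σ : ℂ) • P.cons x = D.σ • P.cons x from Int.cast_smul_eq_zsmul ℂ _ _]
    exact CharInduce.IsGen.zsmul (h x) _
  rcases hf with ⟨j, rfl⟩ | rfl | rfl
  · rw [phiW_eq]; exact CharInduce.IsGen.add (CharInduce.IsGen.sub (h _) (hs _)) (hs _)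
  · rw [sW_eq]
    exact CharInduce.IsGen.add (CharInduce.IsGen.sub (CharInduce.IsGen.sub (h _) (h _)) (hs _)) (hs _)
  · rw [psiW_eq]; exact CharInduce.IsGen.sub (CharInduce.IsGen.add (h _) (hs _)) (hs _)

theorem perp {M : Ideal Cfsg.AlgInt} (hM : Cfsg.IsPModular 2 M) {f : H → ℂ} (hf : P.IsFun f)
    (ψ : Cfsg.IrrCharacter H) (hψ : ψ ∉ Cfsg.principalBlock M H) :
    Cfsg.classInner f (ψ : H → ℂ) = 0 := by
  have h : ∀ x, Cfsg.classInner (P.cons x) (ψ : H → ℂ) = 0 := fun x =>
    classInner_irr_of_ne (P.irr_cons x) ψ.2 fun e => hψ (by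
      rw [← show (⟨P.cons x, P.irr_cons x⟩ : Cfsg.IrrCharacter H) = ψ from Subtype.ext e]
      exact P.cons_mem hM x)
  rcases hf with ⟨j, rfl⟩ | rfl | rfl <;>
    simp [phiW_eq, sW_eq, psiW_eq, classInner_add_left, classInner_sub_left,
      classInner_smul_left, h]

/-- Constant modulo central elements of odd order. -/
theorem apply_mul_central {f : H → ℂ} (hf : P.IsFun f) (g : H) {c : H}
    (hc : c ∈ Subgroup.center H) (ho : Odd (orderOf c)) : f (g * c) = f g := by
  obtain ⟨M, hM⟩ := BlockBasic.exists_isPModular Nat.prime_two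
  have h : ∀ x, P.cons x (g * c) = P.cons x g := fun x => by
    haveI : (Subgroup.zpowers c).Normal := ⟨fun n hn y => by
      rw [Subgroup.mem_center_iff.1 (Subgroup.zpowers_le.2 hc hn) y, mul_inv_cancel_right]
      exact hn⟩
    have h1 : P.cons x c = P.cons x 1 :=
      H82.apply_eq_of_mem_principalBlock hM (P.cons_mem hM x) (Subgroup.zpowers c)
        (by rw [Nat.card_zpowers]; exact fun hd =>
          Nat.not_even_iff_odd.2 ho (even_iff_two_dvd.2 hd)) (Subgroup.mem_zpowers c)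
    obtain ⟨n, ρ, hρ, he⟩ := P.irr_cons x
    haveI := hρ
    obtain ⟨z, -, -, hz⟩ := CharBasic.exists_central_scalar ρ hc
    rw [← he] at h1 ⊢
    have := hz 1
    rw [one_mul, h1] at this
    rw [hz g, (mul_eq_right₀ (by rw [he]; exact IsIrr.one_ne_zero (P.irr_cons x))).1 this.symm,
      one_mul]
  rcases hf with ⟨j, rfl⟩ | rfl | rfl <;> simp [phiW_eq, sW_eq, psiW_eq, h]

theorem a_pow_eq_invA {a : A} (ha : ¬ Even (P.l a).toAdd.val) :
    a ^ (2 ^ (m - 1) * P.k.natAbs) = P.invA := by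
  have hm1 : 1 ≤ m := le_trans (by norm_num) P.two_le
  refine P.eq_invA ?_ fun h => ?_
  · rw [← pow_add, show 2 ^ (m - 1) * P.k.natAbs + 2 ^ (m - 1) * P.k.natAbs = Nat.card A from ?_,
      pow_card_eq_one']
    have hc := congrArg Int.natAbs D.cardA
    rw [Int.natAbs_natCast, Int.natAbs_mul, P.hQ, Int.natAbs_mul, Int.natAbs_pow] at hc
    rw [hc, ← two_mul, ← mul_assoc, ← pow_succ', Nat.sub_add_cancel hm1]
    rcases D.σ_pm with e | e <;> rw [e] <;> simp
  · have h1 := congrArg (fun x => (P.l x).toAdd) h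
    simp only [map_one, toAdd_one, map_pow, toAdd_pow, nsmul_eq_mul, Nat.cast_mul] at h1
    rw [show (((2 ^ (m - 1) : ℕ)) : ZMod (2 ^ m)) = half m from rfl, mul_assoc, P.half_mul_eq,
      if_neg] at h1
    · exact P.half_ne h1
    · rw [ZMod.val_mul, Nat.even_iff, Nat.mod_mod_of_dvd _ (dvd_pow_self 2 (by omega)),
        ← Nat.even_iff, ZMod.val_natCast, Nat.even_mul]
      rintro (h2 | h2)
      · rw [Nat.even_iff, Nat.mod_mod_of_dvd _ (dvd_pow_self 2 (by omega)), ← Nat.even_iff] at h2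
        exact Nat.not_even_iff_odd.2 (Int.natAbs_odd.2 P.odd_k) h2
      · exact ha h2

/-- The functions vanish on the elements not having the central involution as a power. -/
theorem special {f : H → ℂ} (hf : P.IsFun f) {g : H} (hg : f g ≠ 0) :
    P.invH ∈ Subgroup.zpowers g := by
  have hcf := CharInduce.IsGen.isClassFunction (P.isGen hf)
  have hconj : ∀ {x : H}, IsConj x g → (f x ≠ 0 → P.invH ∈ Subgroup.zpowers x) →
      P.invH ∈ Subgroup.zpowers g := by
    intro x hc hx
    obtain ⟨y, rfl⟩ := isConj_iff.1 hc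
    rw [hcf x y] at hg
    obtain ⟨k, hk⟩ := Subgroup.mem_zpowers_iff.1 (hx hg)
    refine ⟨k, show (y * x * y⁻¹) ^ k = _ from ?_⟩
    rw [conj_zpow, hk, Subgroup.mem_center_iff.1 P.invH_mem_center y, mul_inv_cancel_right]
  have hodd : ∀ {a : A}, Odd (orderOf a) → (P.sgnChar a : ℂ) = 1 := fun ha => by
    rw [show P.sgnChar _ = 1 from P.aChar_oddTriv _ _ ha, Units.val_one]
  have hoddB : ∀ (j : Fin (2 ^ (m - 1))) {a : A}, Odd (orderOf a) →
      (P.bChar (rep m j) (D.incl a) : ℂ) = 1 := fun j a ha => by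
    rw [P.bChar_incl, show P.aChar _ _ = 1 from P.aChar_oddTriv _ _ ha, Units.val_one]
  rcases D.classes g with ⟨a, rfl⟩ | ⟨a, hc⟩ | ⟨a, b, hab, hc⟩ | ⟨y, hy, hc⟩
  · by_contra hn
    have ha : Odd (orderOf a) := by
      by_contra ha; exact hn (P.invH_mem_of_a (P.invA_mem_of_even ha))
    apply hg
    rcases hf with ⟨j, rfl⟩ | rfl | rfl <;>
      simp [phiW, sW, psiW, D.lin_centre, D.st_centre, D.ps_centre, D.cu_centre, hodd ha, hoddB _ ha] <;> ring
  · refine hconj hc fun hx => ?_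
    by_contra hn
    have ha : Odd (orderOf a) := by
      by_contra ha
      have hQodd : Odd Q.natAbs := Int.natAbs_odd.2 D.odd_Q
      have hpow : (D.T (a, a) * D.uni) ^ Q.natAbs = D.T (a ^ Q.natAbs, a ^ Q.natAbs) := by
        rw [(show Commute (D.T (a, a)) D.uni from
          (Subgroup.mem_center_iff.1 (D.T_center a) D.uni).symm).mul_pow, D.uni_pow, mul_one,
          ← map_pow, Prod.pow_mk]
      refine hn (Subgroup.zpowers_le.2 (Subgroup.npow_mem_zpowers _ Q.natAbs)
        (hpow ▸ P.invH_mem_of_a (P.invA_mem_of_even fun h => ha ?_)))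
      have hAQ : (Nat.card A).Coprime Q.natAbs := by
        have hcop : IsCoprime ((Nat.card A : ℤ)) Q := by
          rcases D.σ_pm with e | e
          · exact ⟨-1, 1, by rw [D.cardA, e]; ring⟩
          · exact ⟨1, 1, by rw [D.cardA, e]; ring⟩
        simpa [Int.isCoprime_iff_gcd_eq_one, Int.gcd, Nat.Coprime] using hcop
      rwa [Nat.Coprime.orderOf_pow (hAQ.coprime_dvd_left (orderOf_dvd_natCard a))] at h
    apply hx
    rcases hf with ⟨j, rfl⟩ | rfl | rfl <;>
      simp [phiW, sW, psiW, D.lin_uni, D.st_uni, D.ps_uni, D.cu_uni, hodd ha, hoddB _ ha]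
  · refine hconj hc fun hx => ?_
    rcases hf with ⟨j, rfl⟩ | rfl | rfl
    · simp [phiW, D.lin_T _ _ _ hab, D.st_T _ _ _ hab, D.cu_T _ _ _ hab] at hx
    · simp [sW, D.lin_T _ _ _ hab, D.st_T _ _ _ hab] at hx
    · have hv : ∀ {c : A}, (P.sgnChar c : ℂ) = -1 → ¬ Even (P.l c).toAdd.val := fun h he => by
        rw [sgnChar, aChar_apply, P.ee_half_mul, if_pos he] at h
        norm_num at h
      simp [psiW, D.lin_T _ _ _ hab, D.st_T _ _ _ hab, D.ps_T _ _ _ _ hab] at hx
      rcases P.sgnChar_pm a with ea | ea <;> rcases P.sgnChar_pm b with eb | eb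
      iterate 3 exact absurd (by rw [ea, eb]; norm_num) hx
      refine ⟨(2 ^ (m - 1) * P.k.natAbs : ℕ), show D.T (a, b) ^ ((_ : ℕ) : ℤ) = _ from ?_⟩
      rw [zpow_natCast, ← map_pow, Prod.pow_mk, P.a_pow_eq_invA (hv ea), P.a_pow_eq_invA (hv eb)]
      rfl
  · refine hconj hc fun hx => ?_
    by_contra hn
    have hyo : Odd (orderOf y) := by
      by_contra h
      obtain ⟨k, hk⟩ := Subgroup.mem_zpowers_iff.1 (P.incl_invA_mem h)
      exact hn ⟨k, show D.S y ^ k = D.T (P.invA, P.invA) by rw [← map_zpow, hk, D.S_incl]⟩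
    have hn0 : (P.sgnChar (D.norm y) : ℂ) = 1 := hodd (hyo.of_dvd_nat (orderOf_map_dvd _ y))
    have hb : ∀ j, (P.bChar (rep m j) y : ℂ) = 1 ∧ (P.bChar (rep m j) (y ^ Q) : ℂ) = 1 := fun j => by
      have h : P.bChar (rep m j) y = 1 := P.bChar_oddTriv _ _ hyo
      rw [map_zpow, h, one_zpow]; simp
    apply hx
    rcases hf with ⟨j, rfl⟩ | rfl | rfl
    · simp [phiW, D.lin_S _ _ hy, D.st_S _ _ hy, D.cu_S _ _ hy, map_zpow, P.bChar_oddTriv _ _ hyo]
    · simp [sW, D.lin_S _ _ hy, D.st_S _ _ hy, hn0]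
    · simp [psiW, D.lin_S _ _ hy, D.st_S _ _ hy, D.ps_S _ _ _ hy, hn0]

/-- Values at the central involution. -/
theorem at_invH : (∀ j, P.phiW j P.invH = ((2 - 2 * Q : ℤ) : ℂ)) ∧ P.sW P.invH = 0 ∧
    P.psiW P.invH = 0 := by
  have hs : (P.sgnChar P.invA : ℂ) = 1 := by
    rw [sgnChar, aChar_apply, P.l_invA, toAdd_ofAdd, P.half_mul_half, ee_zero]
  have hb : ∀ j, (P.bChar (rep m j) (D.incl P.invA) : ℂ) = -1 := fun j => by
    have hm1 : 1 ≤ m := le_trans (by norm_num) P.two_le
    rw [P.bChar_incl, aChar_apply, P.l_invA, toAdd_ofAdd, mul_comm, P.ee_half_mul, if_neg]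
    rw [red, rep_val hm1, ZMod.val_natCast, Nat.even_iff,
      Nat.mod_mod_of_dvd _ (dvd_pow_self 2 (by omega))]
    omega
  refine ⟨fun j => ?_, ?_, ?_⟩
  · simp [invH, phiW, D.lin_centre, D.st_centre, D.cu_centre, hb]; ring
  · simp [invH, sW, D.lin_centre, D.st_centre, hs]
  · simp [invH, psiW, D.lin_centre, D.st_centre, D.ps_centre, hs]; ring

/-- The reflection. -/
def refH : H := D.T (1, P.invA)

theorem invol_cases {x : H} (hx : orderOf x = 2) : x = P.invH ∨ IsConj P.refH x :=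
  Invol.invol_cases D P.orderOf_invA hx

theorem orderOf_refH : orderOf P.refH = 2 := Invol.orderOf_refl D P.orderOf_invA

theorem refH_not_conj_invH : ¬ IsConj P.refH P.invH := Invol.refl_not_conj D P.orderOf_invA

open scoped Classical in
/-- The size of the class of reflections. -/
theorem index_refH :
    ((Subgroup.centralizer ({P.refH} : Set H)).index : ℂ) = (Q : ℂ) * (Q + 1) :=
  Invol.index_refl D P.orderOf_invA

open scoped Classical in
/-- The indicator of the involutions. -/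
noncomputable def invInd {K : Type*} [Group K] (g : K) : ℂ := if orderOf g = 2 then 1 else 0

theorem sum_invol_irr (ψ : Cfsg.IrrCharacter H) :
    (∑ g : H, ∑ h : H, invInd g * invInd h * (ψ : H → ℂ) (g * h)) * (ψ : H → ℂ) 1 =
      ((ψ : H → ℂ) P.invH + (Q : ℂ) * (Q + 1) * (ψ : H → ℂ) P.refH) ^ 2 :=
  Invol.sum_invol_irr D P.orderOf_invA ψ

/-- The sums over products of two involutions. -/
theorem pairSums :
    (∀ j, (∑ g : H, ∑ h : H, invInd g * invInd h * P.phiW j (g * h)) =
      ((Q * (Q - 1) * (Q + 1) ^ 2 : ℤ) : ℂ)) ∧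
    (∑ g : H, ∑ h : H, invInd g * invInd h * P.sW (g * h)) = 0 ∧
    (∑ g : H, ∑ h : H, invInd g * invInd h * P.psiW (g * h)) =
      ((Q * (Q - 1) ^ 2 * (Q + 1) : ℤ) : ℂ) := by
  have hs : (P.sgnChar P.invA : ℂ) = 1 := by
    rw [sgnChar, aChar_apply, P.l_invA, toAdd_ofAdd, P.half_mul_half, ee_zero]
  have hne : (1 : A) ≠ P.invA := Ne.symm P.invA_ne
  have hQ3 := D.three_le
  have hQ0 : (Q : ℂ) ≠ 0 := by
    have : Q ≠ 0 := by intro h; rcases D.σ_pm with e | e <;> rw [e] at hQ3 <;> omega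
    exact_mod_cast this
  have hQ1 : (Q : ℂ) + 1 ≠ 0 := by
    have : Q + 1 ≠ 0 := by
      intro h
      rcases D.σ_pm with e | e <;> rw [e] at hQ3 <;> omega
    exact_mod_cast this
  have hQm : (Q : ℂ) - 1 ≠ 0 := by
    have : Q - 1 ≠ 0 := by
      intro h
      rcases D.σ_pm with e | e <;> rw [e] at hQ3 <;> omega
    exact_mod_cast this
  have hσ := σ_ne (D := D)
  have hσ2 : (D.σ : ℂ) ^ 2 = 1 := by rw [pow_two, σ_mul D]
  have hS : ∀ x, (∑ g : H, ∑ h : H, invInd g * invInd h * P.cons x (g * h)) =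
      (P.cons x P.invH + (Q : ℂ) * (Q + 1) * P.cons x P.refH) ^ 2 / P.cons x (D.T (1, 1)) := by
    intro x
    have h1 : D.T (1, 1) = 1 := map_one D.T
    rw [h1, eq_div_iff (IsIrr.one_ne_zero (P.irr_cons x))]
    exact P.sum_invol_irr ⟨_, P.irr_cons x⟩
  have hb : ∀ j, (P.bChar (rep m j) (D.incl P.invA) : ℂ) = -1 := fun j => by
    have h := P.at_invH.1 j
    simp [invH, phiW, D.lin_centre, D.st_centre, D.cu_centre] at h
    exact mul_left_cancel₀ hQm (by linear_combination h)
  simp only [phiW_eq, sW_eq, psiW_eq, Pi.add_apply, Pi.sub_apply, Pi.smul_apply, smul_eq_mul,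
    mul_add, mul_sub, mul_left_comm _ (D.σ : ℂ), ← Finset.mul_sum, Finset.sum_add_distrib,
    Finset.sum_sub_distrib, hS]
  simp [cons, five, invH, refH, D.lin_centre, D.st_centre, D.ps_centre, D.cu_centre,
    D.lin_T _ _ _ hne, D.st_T _ _ _ hne, D.ps_T _ _ _ _ hne, D.cu_T _ _ _ hne, hs, hb]
  and_intros <;> intros <;> field_simp <;> simp only [hσ2] <;> ring

end Log

end Cfsg.Agent.H3.SDOrder.Wr
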