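import Cfsg.Agent.H36.TwoTori.Table
import Cfsg.Agent.H84.WR.Fourier
import Cfsg.Agent.H84.WR.Funs
import Mathlib.RingTheory.IntegralDomain

/-!
# The two-power logarithms on the tori of a table with `Q ≡ 1 (mod 4)`

`l` maps `A` onto `ZMod (2 ^ m)`, `L` maps `B` onto `ZMod (2 ^ (m + 1))`; both kill exactly the elements
of odd order and `L (incl a) = 2 * l a`.  The parameters trivial on odd order are `aChar k`, `bChar i`.
-/

set_option autoImplicit false
set_option linter.unusedSectionVars false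
set_option linter.style.haveILetI false

namespace Cfsg.Agent.H3.SDOrder.Wr

open Cfsg.Agent.H84.WR Cfsg.Agent.H36.TwoTori

/-- Doubling on two-power moduli. -/
def dblTwo {m : ℕ} (x : ZMod (2 ^ m)) : ZMod (2 ^ (m + 1)) := 2 * (x.val : ZMod (2 ^ (m + 1)))

theorem dblTwo_intCast {m : ℕ} (x : ℤ) :
    dblTwo ((x : ZMod (2 ^ m))) = ((2 * x : ℤ) : ZMod (2 ^ (m + 1))) := by
  rw [dblTwo, show (((x : ZMod (2 ^ m)).val : ℕ) : ZMod (2 ^ (m + 1))) =
    ((((x : ZMod (2 ^ m)).val : ℤ)) : ZMod (2 ^ (m + 1))) by push_cast; rfl, ZMod.val_intCast,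
    ← Int.cast_two, ← Int.cast_mul, ZMod.intCast_eq_intCast_iff']
  push_cast
  rw [pow_succ' (2 : ℤ), Int.mul_emod_mul_of_pos _ _ (two_pos (α := ℤ)), Int.emod_emod,
    Int.mul_emod_mul_of_pos _ _ (two_pos (α := ℤ))]

theorem dblTwo_add {m : ℕ} (x y : ZMod (2 ^ m)) : dblTwo (x + y) = dblTwo x + dblTwo y := by
  obtain ⟨a, rfl⟩ := ZMod.intCast_surjective x
  obtain ⟨b, rfl⟩ := ZMod.intCast_surjective y
  rw [← Int.cast_add, dblTwo_intCast, dblTwo_intCast, dblTwo_intCast]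
  push_cast
  ring

theorem dblTwo_injective {m : ℕ} : Function.Injective (dblTwo (m := m)) := by
  intro x y h
  obtain ⟨a, rfl⟩ := ZMod.intCast_surjective x
  obtain ⟨b, rfl⟩ := ZMod.intCast_surjective y
  rw [dblTwo_intCast, dblTwo_intCast, ZMod.intCast_eq_intCast_iff_dvd_sub] at h
  rw [ZMod.intCast_eq_intCast_iff_dvd_sub]
  push_cast at h ⊢
  rw [pow_succ', ← mul_sub] at h
  exact (mul_dvd_mul_iff_left two_ne_zero).1 h

/-- Reduction of an index on the cyclic torus. -/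
def red {m : ℕ} (i : ZMod (2 ^ (m + 1))) : ZMod (2 ^ m) := ((i.val : ℕ) : ZMod (2 ^ m))

theorem red_intCast {m : ℕ} (x : ℤ) :
    red ((x : ZMod (2 ^ (m + 1)))) = ((x : ℤ) : ZMod (2 ^ m)) := by
  rw [red, show (((x : ZMod (2 ^ (m + 1))).val : ℕ) : ZMod (2 ^ m)) =
    ((((x : ZMod (2 ^ (m + 1))).val : ℤ)) : ZMod (2 ^ m)) by push_cast; rfl, ZMod.val_intCast,
    ZMod.intCast_eq_intCast_iff']
  push_cast
  exact Int.emod_emod_of_dvd _ (pow_dvd_pow 2 (Nat.le_succ m))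

theorem mul_dblTwo {m : ℕ} (i : ZMod (2 ^ (m + 1))) (x : ZMod (2 ^ m)) :
    i * dblTwo x = dblTwo (red i * x) := by
  obtain ⟨a, rfl⟩ := ZMod.intCast_surjective i
  obtain ⟨b, rfl⟩ := ZMod.intCast_surjective x
  rw [red_intCast, ← Int.cast_mul, dblTwo_intCast, dblTwo_intCast, ← Int.cast_mul]
  congr 1
  ring

theorem ee_dblTwo {m : ℕ} (x : ZMod (2 ^ m)) : ee (dblTwo x) = ee x := by
  obtain ⟨a, rfl⟩ := ZMod.intCast_surjective x
  rw [dblTwo_intCast, ee, ee, ZMod.stdAddChar_coe, ZMod.stdAddChar_coe, pow_succ]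
  congr 1
  push_cast
  field_simp

universe v

variable {H A B : Type v} [Group H] [Fintype H] [CommGroup A] [Fintype A] [CommGroup B] [Fintype B]
  {Q : ℤ}

/-- The logarithms. -/
structure Log (D : Table H A B Q) (m : ℕ) where
  k : ℤ
  odd_k : Odd k
  two_le : 2 ≤ m
  hQ : Q - 1 = 2 ^ m * k
  l : A →* Multiplicative (ZMod (2 ^ m))
  L : B →* Multiplicative (ZMod (2 ^ (m + 1)))
  l_surjective : Function.Surjective l
  L_surjective : Function.Surjective L
  l_ker : ∀ a, l a = 1 ↔ Odd (orderOf a)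
  L_ker : ∀ y, L y = 1 ↔ Odd (orderOf y)
  L_incl : ∀ a, (L (D.incl a)).toAdd = dblTwo (l a).toAdd
  s : Multiplicative (ZMod (2 ^ m)) →* A
  l_s : ∀ x, l (s x) = x

/-- A logarithm on a cyclic group. -/
theorem exists_log {C : Type*} [CommGroup C] [Fintype C] {g : C}
    (hg : ∀ x, x ∈ Subgroup.zpowers g) {e M : ℕ} (hM : Odd M) (hc : Nat.card C = 2 ^ e * M)
    {u : ℤ} (hu : IsCoprime u ((2 : ℤ) ^ e)) :
    ∃ l : C →* Multiplicative (ZMod (2 ^ e)), l g = Multiplicative.ofAdd (u : ZMod (2 ^ e)) ∧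
      Function.Surjective l ∧ ∀ x, l x = 1 ↔ Odd (orderOf x) := by
  have hd : orderOf (Multiplicative.ofAdd (u : ZMod (2 ^ e))) ∣ orderOf g := by
    rw [orderOf_eq_card_of_forall_mem_zpowers hg, hc]
    refine Dvd.dvd.mul_right ?_ M
    have := orderOf_dvd_natCard (Multiplicative.ofAdd (u : ZMod (2 ^ e)))
    rwa [Nat.card_congr Multiplicative.toAdd, Nat.card_zmod] at this
  set l := monoidHomOfForallMemZpowers hg hd
  have hl : l g = Multiplicative.ofAdd (u : ZMod (2 ^ e)) := monoidHomOfForallMemZpowers_apply_gen hg hd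
  have hlz : ∀ j : ℤ, l (g ^ j) = Multiplicative.ofAdd ((j * u : ℤ) : ZMod (2 ^ e)) := fun j => by
    rw [map_zpow, hl, ← ofAdd_zsmul, zsmul_eq_mul]
    push_cast
    rfl
  refine ⟨l, hl, fun x => ?_, fun x => ?_⟩
  · obtain ⟨a, b, hab⟩ := hu
    obtain ⟨n, hn⟩ := ZMod.intCast_surjective (Multiplicative.toAdd x)
    refine ⟨g ^ (n * a), ?_⟩
    rw [hlz, ← ofAdd_toAdd x, ← hn]
    congr 1
    have hz : ((2 ^ e : ℤ) : ZMod (2 ^ e)) = 0 := by exact_mod_cast ZMod.natCast_self (2 ^ e)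
    rw [show n * a * u = n - n * b * 2 ^ e by linear_combination n * hab]
    push_cast at hz ⊢
    rw [hz, mul_zero, sub_zero]
  · obtain ⟨j, rfl⟩ := Subgroup.mem_zpowers_iff.1 (hg x)
    rw [hlz, ofAdd_eq_one, ZMod.intCast_zmod_eq_zero_iff_dvd]
    push_cast
    have hgN : orderOf g = 2 ^ e * M := by rw [orderOf_eq_card_of_forall_mem_zpowers hg, hc]
    constructor
    · intro h
      obtain ⟨i, hi⟩ := (IsCoprime.symm hu).dvd_of_dvd_mul_right h
      refine hM.of_dvd_nat (orderOf_dvd_of_pow_eq_one ?_)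
      rw [← zpow_natCast, ← zpow_mul, hi, show (2 : ℤ) ^ e * i * M = ((2 ^ e * M : ℕ) : ℤ) * i by
        push_cast; ring, zpow_mul, zpow_natCast, ← hgN, pow_orderOf_eq_one, one_zpow]
    · intro h
      refine Dvd.dvd.mul_right ?_ u
      have h1 : g ^ (j * orderOf (g ^ j)) = 1 := by
        rw [zpow_mul, zpow_natCast, pow_orderOf_eq_one]
      rw [← orderOf_dvd_iff_zpow_eq_one, hgN] at h1
      push_cast at h1
      refine IsCoprime.dvd_of_dvd_mul_right ?_ ((dvd_mul_right _ (M : ℤ)).trans h1)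
      exact IsCoprime.pow_left (by
        obtain ⟨r, hr⟩ := h
        exact ⟨-(r : ℤ), 1, by rw [hr]; push_cast; ring⟩)

theorem exists_logData (D : Table H A B Q) (hQ4 : Q % 4 = 1) : ∃ m, Nonempty (Log D m) := by
  have hQ1 : Q ≠ 1 := by
    intro h
    have := D.three_le
    rcases D.σ_pm with e | e <;> rw [e, h] at this <;> norm_num at this
  obtain ⟨m, k, hk, hmk⟩ : ∃ m : ℕ, ∃ k : ℤ, Odd k ∧ Q - 1 = 2 ^ m * k := by
    obtain ⟨m, k, hk, h⟩ := Nat.exists_eq_two_pow_mul_odd (n := (Q - 1).natAbs) (by omega)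
    rcases Int.natAbs_eq (Q - 1) with e | e
    · exact ⟨m, k, (Int.odd_coe_nat _).2 hk, by rw [e, h]; push_cast; ring⟩
    · exact ⟨m, -k, ((Int.odd_coe_nat _).2 hk).neg, by rw [e, h]; push_cast; ring⟩
  have hm : 2 ≤ m := by
    by_contra h
    obtain ⟨r, rfl⟩ := hk
    rcases (show m = 0 ∨ m = 1 by omega) with rfl | rfl <;> omega
  obtain ⟨o, ho⟩ : ∃ o : ℤ, Q + 1 = 2 * (2 * o + 1) := ⟨(Q - 1) / 4, by omega⟩
  haveI := D.cyclicB
  obtain ⟨g, hg⟩ := IsCyclic.exists_generator (α := B)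
  have hcA : Nat.card A = 2 ^ m * k.natAbs := by
    have h := congrArg Int.natAbs D.cardA
    rw [Int.natAbs_natCast, Int.natAbs_mul, hmk, Int.natAbs_mul, Int.natAbs_pow] at h
    rw [h]
    rcases D.σ_pm with e | e <;> rw [e] <;> simp
  have hcB : Nat.card B = 2 ^ (m + 1) * (k * (2 * o + 1)).natAbs := by
    have h := congrArg Int.natAbs D.cardB
    rw [Int.natAbs_natCast, show Q ^ 2 - 1 = (Q - 1) * (Q + 1) by ring, hmk, ho] at h
    rw [h]
    simp only [Int.natAbs_mul, Int.natAbs_pow]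
    ring
  have hA0 : ∀ a, a ∈ Subgroup.zpowers (D.norm g) := by
    intro a
    obtain ⟨j, hj⟩ := Subgroup.mem_zpowers_iff.1 (hg (D.incl a))
    have hda : g ^ (j * (Q - 1)) = 1 := by
      rw [zpow_mul, hj, ← map_zpow]
      have h1 : a ^ (D.σ * (Q - 1)) = 1 := by rw [← D.cardA, zpow_natCast, pow_card_eq_one']
      rcases D.σ_pm with e | e <;> rw [e] at h1
      · rw [one_mul] at h1; rw [h1, map_one]
      · rw [neg_one_mul, zpow_neg, inv_eq_one] at h1; rw [h1, map_one]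
    rw [← orderOf_dvd_iff_zpow_eq_one, orderOf_eq_card_of_forall_mem_zpowers hg, D.cardB,
      show Q ^ 2 - 1 = (Q + 1) * (Q - 1) by ring] at hda
    obtain ⟨i, hi⟩ := (mul_dvd_mul_iff_right (sub_ne_zero.2 hQ1)).1 hda
    refine ⟨i, D.incl_injective ?_⟩
    show D.incl (D.norm g ^ i) = D.incl a
    rw [map_zpow, D.incl_norm, ← zpow_mul, ← hi, hj]
  obtain ⟨L, hLg, hLs, hLk⟩ := exists_log hg (e := m + 1) (M := (k * (2 * o + 1)).natAbs)
    (Int.natAbs_odd.2 (hk.mul ⟨o, rfl⟩)) hcB (u := 1) isCoprime_one_left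
  obtain ⟨l, hlg, hls, hlk⟩ := exists_log hA0 (e := m) (M := k.natAbs) (Int.natAbs_odd.2 hk) hcA
    (u := 2 * o + 1) (IsCoprime.pow_right ⟨1, -o, by ring⟩)
  obtain ⟨a, ha⟩ := hls (Multiplicative.ofAdd 1)
  obtain ⟨v, w, hvw⟩ : IsCoprime (k.natAbs : ℤ) ((2 : ℤ) ^ m) := by
    obtain ⟨r, hr⟩ := Int.natAbs_odd.2 hk
    exact IsCoprime.pow_right ⟨1, -r, by rw [hr]; push_cast; ring⟩
  set a₁ := a ^ ((k.natAbs : ℤ) * v)
  have ha1 : orderOf (Multiplicative.ofAdd (1 : ZMod (2 ^ m))) = 2 ^ m := by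
    rw [orderOf_ofAdd_eq_addOrderOf, ZMod.addOrderOf_one]
  have hgen : ∀ x : Multiplicative (ZMod (2 ^ m)), x ∈ Subgroup.zpowers (Multiplicative.ofAdd (1 : ZMod (2 ^ m))) := by
    intro x
    obtain ⟨n, hn⟩ := ZMod.intCast_surjective x.toAdd
    refine ⟨n, ?_⟩
    show Multiplicative.ofAdd (1 : ZMod (2 ^ m)) ^ n = x
    rw [← ofAdd_zsmul, zsmul_one, hn, ofAdd_toAdd]
  have hd : orderOf a₁ ∣ orderOf (Multiplicative.ofAdd (1 : ZMod (2 ^ m))) := by
    rw [ha1]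
    refine orderOf_dvd_of_pow_eq_one ?_
    rw [← zpow_natCast, ← zpow_mul, show (k.natAbs : ℤ) * v * ((2 ^ m : ℕ) : ℤ) =
      ((2 ^ m * k.natAbs : ℕ) : ℤ) * v by push_cast; ring, zpow_mul, zpow_natCast, ← hcA,
      pow_card_eq_one', one_zpow]
  refine ⟨m, ⟨{
    k := k, odd_k := hk, two_le := hm, hQ := hmk, l := l, L := L
    l_surjective := hls, L_surjective := hLs, l_ker := hlk, L_ker := hLk
    L_incl := fun a => ?_
    s := monoidHomOfForallMemZpowers hgen hd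
    l_s := fun x => ?_ }⟩⟩
  · obtain ⟨j, rfl⟩ := Subgroup.mem_zpowers_iff.1 (hA0 a)
    rw [map_zpow D.incl, D.incl_norm, ← zpow_mul, map_zpow L, map_zpow l, hLg, hlg, ← ofAdd_zsmul,
      ← ofAdd_zsmul, toAdd_ofAdd, toAdd_ofAdd, zsmul_eq_mul, zsmul_eq_mul, ← Int.cast_mul,
      ← Int.cast_mul, dblTwo_intCast, ho]
    congr 1
    ring
  · obtain ⟨n, rfl⟩ := Subgroup.mem_zpowers_iff.1 (hgen x)
    rw [map_zpow (monoidHomOfForallMemZpowers hgen hd), monoidHomOfForallMemZpowers_apply_gen,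
      map_zpow l, map_zpow l, ha, ← zpow_mul, ← ofAdd_zsmul, ← ofAdd_zsmul]
    congr 1
    have hz : ((2 ^ m : ℤ) : ZMod (2 ^ m)) = 0 := by exact_mod_cast ZMod.natCast_self (2 ^ m)
    rw [show (k.natAbs : ℤ) * v * n = n - n * w * 2 ^ m by linear_combination n * hvw,
      zsmul_eq_mul, zsmul_eq_mul, mul_one, mul_one]
    push_cast at hz ⊢
    rw [hz, mul_zero, sub_zero]

namespace Log

variable {D : Table H A B Q} {m : ℕ} (P : Log D m)

/-- The parameter `k` on `A`. -/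
noncomputable def aChar (k : ZMod (2 ^ m)) : A →* ℂˣ :=
  (MonoidHom.toHomUnits
    { toFun := fun x : Multiplicative (ZMod (2 ^ m)) => ee (k * x.toAdd)
      map_one' := by simp [ee_zero]
      map_mul' := fun x y => by rw [toAdd_mul, mul_add, ee_add] }).comp P.l

/-- The parameter `i` on `B`. -/
noncomputable def bChar (i : ZMod (2 ^ (m + 1))) : B →* ℂˣ :=
  (MonoidHom.toHomUnits
    { toFun := fun x : Multiplicative (ZMod (2 ^ (m + 1))) => ee (i * x.toAdd)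
      map_one' := by simp [ee_zero]
      map_mul' := fun x y => by rw [toAdd_mul, mul_add, ee_add] }).comp P.L

theorem aChar_apply (k : ZMod (2 ^ m)) (a : A) :
    (P.aChar k a : ℂ) = ee (k * (P.l a).toAdd) := rfl

theorem bChar_apply (i : ZMod (2 ^ (m + 1))) (y : B) :
    (P.bChar i y : ℂ) = ee (i * (P.L y).toAdd) := rfl

theorem bChar_incl (i : ZMod (2 ^ (m + 1))) (a : A) :
    P.bChar i (D.incl a) = P.aChar (red i) a := by
  refine Units.ext ?_
  rw [bChar_apply, aChar_apply, P.L_incl, mul_dblTwo, ee_dblTwo]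

theorem aChar_norm (k : ZMod (2 ^ m)) (y : B) :
    P.aChar k (D.norm y) = P.bChar ((Q + 1 : ℤ) * (k.val : ZMod (2 ^ (m + 1)))) y := by
  refine Units.ext ?_
  have h := P.L_incl (D.norm y)
  rw [D.incl_norm, map_zpow, toAdd_zpow, zsmul_eq_mul] at h
  rw [aChar_apply, bChar_apply, ← ee_dblTwo, mul_assoc, mul_left_comm, h, mul_dblTwo]
  congr 3
  rw [red, ZMod.val_natCast, Nat.mod_eq_of_lt, ZMod.natCast_zmod_val]
  exact (ZMod.val_lt k).trans_le (Nat.pow_le_pow_right (by norm_num) (Nat.le_succ m))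

theorem aChar_oddTriv (k : ZMod (2 ^ m)) : OddTriv (P.aChar k) := fun a ha => by
  refine Units.ext ?_
  rw [aChar_apply, (P.l_ker a).2 ha]
  simp [ee_zero]

theorem bChar_oddTriv (i : ZMod (2 ^ (m + 1))) : OddTriv (P.bChar i) := fun y hy => by
  refine Units.ext ?_
  rw [bChar_apply, (P.L_ker y).2 hy]
  simp [ee_zero]

theorem aChar_injective : Function.Injective P.aChar := fun k k' h => by
  obtain ⟨a, ha⟩ := P.l_surjective (Multiplicative.ofAdd 1)
  have := congrArg (fun θ : A →* ℂˣ => (θ a : ℂ)) h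
  simp only [aChar_apply, ha, toAdd_ofAdd, mul_one] at this
  exact ZMod.injective_stdAddChar this

theorem bChar_injective : Function.Injective P.bChar := fun k k' h => by
  obtain ⟨a, ha⟩ := P.L_surjective (Multiplicative.ofAdd 1)
  have := congrArg (fun θ : B →* ℂˣ => (θ a : ℂ)) h
  simp only [bChar_apply, ha, toAdd_ofAdd, mul_one] at this
  exact ZMod.injective_stdAddChar this

theorem exists_ee {C : Type*} [CommGroup C] [Fintype C] {N : ℕ} [NeZero N]
    (l : C →* Multiplicative (ZMod N)) (hl : Function.Surjective l)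
    (hk : ∀ x, l x = 1 ↔ Odd (orderOf x)) {θ : C →* ℂˣ} (hθ : OddTriv θ) :
    ∃ i : ZMod N, ∀ x, (θ x : ℂ) = ee (i * (l x).toAdd) := by
  obtain ⟨g, hg⟩ := hl (Multiplicative.ofAdd 1)
  have hfac : ∀ x y, l x = l y → θ x = θ y := fun x y h => by
    have h1 : θ (x / y) = 1 := hθ _ ((hk _).1 (by rw [map_div, h, div_self']))
    rw [map_div, div_eq_one] at h1
    exact h1
  have hN : ((θ g : ℂˣ) : ℂ) ^ N = 1 := by
    rw [← Units.val_pow_eq_pow_val, ← map_pow, hfac (g ^ N) 1 (by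
      rw [map_pow, hg, map_one l, ← ofAdd_nsmul, nsmul_one, ZMod.natCast_self, ofAdd_zero]), map_one,
      Units.val_one]
  obtain ⟨i, -, hi⟩ := (Complex.isPrimitiveRoot_exp N (NeZero.ne N)).eq_pow_of_pow_eq_one hN
  refine ⟨(i : ZMod N), fun x => ?_⟩
  obtain ⟨n, hn⟩ : ∃ n : ℕ, (n : ZMod N) = (l x).toAdd := ⟨_, ZMod.natCast_zmod_val _⟩
  rw [hfac x (g ^ n) (by rw [map_pow, hg, ← ofAdd_nsmul, nsmul_one, hn, ofAdd_toAdd]), map_pow,
    Units.val_pow_eq_pow_val, ← hi, ← hn, ← Nat.cast_mul, ← Int.cast_natCast (i * n), ee, ZMod.stdAddChar_coe,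
    ← pow_mul, ← Complex.exp_nat_mul]
  congr 1
  push_cast
  ring

theorem exists_aChar {α : A →* ℂˣ} (h : OddTriv α) : ∃ k, α = P.aChar k := by
  obtain ⟨k, hk⟩ := exists_ee P.l P.l_surjective P.l_ker h
  exact ⟨k, MonoidHom.ext fun a => Units.ext (by rw [hk, aChar_apply])⟩

theorem exists_bChar {θ : B →* ℂˣ} (h : OddTriv θ) : ∃ i, θ = P.bChar i := by
  obtain ⟨i, hi⟩ := exists_ee P.L P.L_surjective P.L_ker h
  exact ⟨i, MonoidHom.ext fun a => Units.ext (by rw [hi, bChar_apply])⟩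

include P in
theorem cast_Q (i : ZMod (2 ^ (m + 1))) :
    (Q : ZMod (2 ^ (m + 1))) * i = i + ((i.val * 2 ^ m : ℕ) : ZMod (2 ^ (m + 1))) := by
  obtain ⟨r, hr⟩ := P.odd_k
  have hQ : Q = 1 + (2 * r + 1) * 2 ^ m := by
    have := P.hQ
    rw [hr] at this
    linear_combination this
  have hz : (2 : ZMod (2 ^ (m + 1))) * 2 ^ m = 0 :=
    calc (2 : ZMod (2 ^ (m + 1))) * 2 ^ m = ((2 ^ (m + 1) : ℕ) : ZMod (2 ^ (m + 1))) := by
          push_cast; ring
      _ = 0 := ZMod.natCast_self _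
  rw [hQ]
  push_cast
  rw [ZMod.natCast_zmod_val]
  linear_combination (r : ZMod (2 ^ (m + 1))) * i * hz

/-- The twist by `Q`. -/
theorem bChar_pow (i : ZMod (2 ^ (m + 1))) (y : B) :
    P.bChar i (y ^ Q) = P.bChar (i + ((i.val * 2 ^ m : ℕ) : ZMod (2 ^ (m + 1)))) y := by
  refine Units.ext ?_
  rw [bChar_apply, bChar_apply, map_zpow, toAdd_zpow, zsmul_eq_mul, ← P.cast_Q, mul_left_comm,
    mul_assoc]

theorem bChar_moved_iff (i : ZMod (2 ^ (m + 1))) :
    (∃ y, P.bChar i (y ^ Q) ≠ P.bChar i y) ↔ Odd i.val := by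
  simp only [P.bChar_pow]
  have key : i + ((i.val * 2 ^ m : ℕ) : ZMod (2 ^ (m + 1))) = i ↔ Even i.val := by
    have h2 : ∀ v : ℕ, 2 ^ (m + 1) ∣ v * 2 ^ m ↔ Even v := fun v => by
      rw [pow_succ', Nat.mul_dvd_mul_iff_right (Nat.two_pow_pos m), even_iff_two_dvd]
    rw [add_eq_left, ZMod.natCast_eq_zero_iff, h2]
  constructor
  · rintro ⟨y, hy⟩
    rw [← Nat.not_even_iff_odd]
    intro h
    rw [key.2 h] at hy
    exact hy rfl
  · intro h
    by_contra hno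
    push Not at hno
    exact Nat.not_even_iff_odd.2 h (key.1 (P.bChar_injective (MonoidHom.ext hno)))

end Log

end Cfsg.Agent.H3.SDOrder.Wr
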