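import Cfsg.Agent.H3.SDOrder.TableFuns
import Cfsg.Agent.H3.SDOrder.Descent
import Cfsg.Agent.H84.WR.TableLog

/-!
# The wreathed functions on a centraliser covered by a table of two tori
-/

set_option autoImplicit false
set_option linter.unusedSectionVars false
set_option linter.style.haveILetI false

namespace Cfsg.Agent.H3.SDOrder.Wr

open Finset Subgroup Cfsg.Agent.H84.WR Cfsg.Agent.H36.TwoTori Cfsg.Agent.CharBasic
open scoped ComplexConjugate

universe u v

variable {H A B : Type v} [Group H] [Fintype H] [CommGroup A] [Fintype A] [CommGroup B] [Fintype B]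
  {Q : ℤ} {D : Table H A B Q} {m : ℕ}

theorem dblTwo_eq_dbl (x : ZMod (2 ^ m)) : dblTwo x = dbl x := by
  rw [dblTwo, dbl, Nat.cast_mul, Nat.cast_two]

theorem exists_section {C : Type v} [CommGroup C] [Fintype C] (L : TwoLog C m) :
    ∃ s : Multiplicative (ZMod (2 ^ m)) →* C, ∀ x, L.l (s x) = x.toAdd := by
  obtain ⟨a, ha⟩ := L.surj 1
  have hodd : Odd (orderOf (a ^ 2 ^ m)) := (L.ker _).1 (by
    rw [L.map_pow, ha, nsmul_eq_mul, mul_one, ZMod.natCast_self])
  set r := orderOf (a ^ 2 ^ m) with hr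
  obtain ⟨v, w, hvw⟩ : IsCoprime (r : ℤ) ((2 : ℤ) ^ m) := by
    obtain ⟨i, hi⟩ := hodd
    exact IsCoprime.pow_right ⟨1, -(i : ℤ), by rw [hi]; push_cast; ring⟩
  set b := a ^ ((r : ℤ) * v) with hb
  have hgen : ∀ x : Multiplicative (ZMod (2 ^ m)),
      x ∈ zpowers (Multiplicative.ofAdd (1 : ZMod (2 ^ m))) := fun x => by
    obtain ⟨n, hn⟩ := ZMod.intCast_surjective x.toAdd
    exact ⟨n, show Multiplicative.ofAdd (1 : ZMod (2 ^ m)) ^ n = x by
      rw [← ofAdd_zsmul, zsmul_one, hn, ofAdd_toAdd]⟩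
  have hd : orderOf b ∣ orderOf (Multiplicative.ofAdd (1 : ZMod (2 ^ m))) := by
    rw [orderOf_ofAdd_eq_addOrderOf, ZMod.addOrderOf_one]
    refine orderOf_dvd_of_pow_eq_one ?_
    rw [hb, ← zpow_natCast, ← zpow_mul, show (r : ℤ) * v * ((2 ^ m : ℕ) : ℤ) =
      ((2 ^ m : ℕ) : ℤ) * r * v by ring, zpow_mul, zpow_mul, zpow_natCast, zpow_natCast, hr,
      pow_orderOf_eq_one, one_zpow]
  have hlb : L.l b = 1 := by
    rw [hb, L.map_zpow, ha, zsmul_one, show (r : ℤ) * v = 1 - w * 2 ^ m by linear_combination hvw,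
      Int.cast_sub, Int.cast_mul, Int.cast_one,
      show (((2 : ℤ) ^ m : ℤ) : ZMod (2 ^ m)) = 0 by exact_mod_cast ZMod.natCast_self (2 ^ m),
      mul_zero, sub_zero]
  refine ⟨monoidHomOfForallMemZpowers hgen hd, fun x => ?_⟩
  obtain ⟨n, rfl⟩ := mem_zpowers_iff.1 (hgen x)
  rw [map_zpow (monoidHomOfForallMemZpowers hgen hd), monoidHomOfForallMemZpowers_apply_gen,
    L.map_zpow, hlb, toAdd_zpow, toAdd_ofAdd]

/-- The coordinates of a table as logarithms. -/
noncomputable def ofLogs (L : Logs D m) : Log D m where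
  k := L.K
  odd_k := L.oddK
  two_le := L.two_le
  hQ := by rw [L.hK, mul_comm]
  l :=
    { toFun := fun a => Multiplicative.ofAdd (L.LA.l a)
      map_one' := by rw [L.LA.map_one, ofAdd_zero]
      map_mul' := fun x y => by rw [L.LA.map_mul, ofAdd_add] }
  L :=
    { toFun := fun a => Multiplicative.ofAdd (L.LB.l a)
      map_one' := by rw [L.LB.map_one, ofAdd_zero]
      map_mul' := fun x y => by rw [L.LB.map_mul, ofAdd_add] }
  l_surjective x := by
    obtain ⟨a, ha⟩ := L.LA.surj x.toAdd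
    exact ⟨a, show Multiplicative.ofAdd (L.LA.l a) = x by rw [ha, ofAdd_toAdd]⟩
  L_surjective x := by
    obtain ⟨a, ha⟩ := L.LB.surj x.toAdd
    exact ⟨a, show Multiplicative.ofAdd (L.LB.l a) = x by rw [ha, ofAdd_toAdd]⟩
  l_ker a := ofAdd_eq_one.trans (L.LA.ker a)
  L_ker a := ofAdd_eq_one.trans (L.LB.ker a)
  L_incl a := (L.incl a).trans (dblTwo_eq_dbl _).symm
  s := (exists_section L.LA).choose
  l_s x := by
    show Multiplicative.ofAdd (L.LA.l ((exists_section L.LA).choose x)) = x
    rw [(exists_section L.LA).choose_spec x, ofAdd_toAdd]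

theorem ofLogs_bChar (L : Logs D m) (i : ZMod (2 ^ (m + 1))) :
    (ofLogs L).bChar i = L.LB.chr i := MonoidHom.ext fun _ => Units.ext rfl

theorem ofLogs_aChar (L : Logs D m) (i : ZMod (2 ^ m)) :
    (ofLogs L).aChar i = L.LA.chr i := MonoidHom.ext fun _ => Units.ext rfl

theorem ofLogs_sgnChar (L : Logs D m) : (ofLogs L).sgnChar = L.LA.chr (half m) := ofLogs_aChar L _

namespace Log

variable (P : Log D m)

theorem invariant {f : H → ℂ} (hf : P.IsFun f) :
    ∀ g k, k ∈ center H → Odd (orderOf k) → f (g * k) = f g :=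
  fun g _ hk ho => P.apply_mul_central hf g hk ho

/-- An element of order two of `A` is the involution. -/
theorem eq_invA_of_orderOf {e : A} (he : orderOf e = 2) : e = P.invA :=
  P.eq_invA (by rw [← pow_two, ← he, pow_orderOf_eq_one])
    fun h => by rw [h, orderOf_one] at he; exact absurd he (by norm_num)

variable {G : Type u} [Group G] [Fintype G] {t : G} [Fintype (centralizer ({t} : Set G))]
  {π : H →* centralizer ({t} : Set G)} (hc : Descent.OddCover π)

/-- All but the vectors: the functions of the wreathed order formula pushed to `C(t)`. -/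
theorem exists_funs (hπt : (π P.invH : G) = t)
    (hvec : ∀ χ : Cfsg.IrrCharacter G,
      ((∃ j, H84.SD.coeff (Descent.push hc (P.phiW j)) χ ≠ 0) ∨
        H84.SD.coeff (Descent.push hc P.sW) χ ≠ 0 ∨ H84.SD.coeff (Descent.push hc P.psiW) χ ≠ 0) →
      ∃ V : H36.Wreath.Vec m,
        (∀ j, H84.SD.coeff (Descent.push hc (P.phiW j)) χ = (V.co (rep m j) : ℂ)) ∧
        H84.SD.coeff (Descent.push hc P.sW) χ =
          (V.co ((2 ^ m : ℕ) : ZMod (2 ^ (m + 1))) : ℂ) ∧
        2 * H84.SD.coeff (Descent.push hc P.psiW) χ = (V.coPsi : ℂ) ∧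
        2 * conj ((χ : G → ℂ) t) = (V.val2 Q : ℂ)) :
    Nonempty (H84.WR.Funs t m Q) := by
  have m1 : ∀ j, P.IsFun (P.phiW j) := fun j => Or.inl ⟨j, rfl⟩
  have m2 : P.IsFun P.sW := Or.inr (Or.inl rfl)
  have m3 : P.IsFun P.psiW := Or.inr (Or.inr rfl)
  have hsp : ∀ {f}, P.IsFun f → H84.SD.Special (Descent.push hc f) := fun hf =>
    Descent.special_push hc (P.invariant hf) hπt fun g hg => P.special hf hg
  have hone : ∀ {f}, P.IsFun f → Cfsg.classInner (Descent.push hc f) (fun _ => 1) =
      Cfsg.classInner f (fun _ => 1) := fun hf => Descent.inner_push hc (P.invariant hf) _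
  obtain ⟨g11, g12, gss, gsp, gpp, gpf, gps⟩ := P.gram
  have ht' : π P.invH = ⟨t, mem_centralizer_singleton_iff.2 rfl⟩ := Subtype.ext hπt
  refine ⟨{
    φ := fun j => Descent.push hc (P.phiW j), S := Descent.push hc P.sW
    Ψ := Descent.push hc P.psiW
    gen1 := fun j => Descent.isGen_push hc (P.invariant (m1 j)) (P.isGen (m1 j))
    gen2 := Descent.isGen_push hc (P.invariant m2) (P.isGen m2)
    gen3 := Descent.isGen_push hc (P.invariant m3) (P.isGen m3)
    sp1 := fun j => hsp (m1 j), sp2 := hsp m2, sp3 := hsp m3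
    g11 := fun j => by rw [Descent.inner_push_push hc (P.invariant (m1 j)) (P.invariant (m1 j)), g11]
    g12 := fun j k h => by
      rw [Descent.inner_push_push hc (P.invariant (m1 j)) (P.invariant (m1 k)), g12 j k h]
    gss := by rw [Descent.inner_push_push hc (P.invariant m2) (P.invariant m2), gss]
    gsp := fun j => by rw [Descent.inner_push_push hc (P.invariant m2) (P.invariant (m1 j)), gsp]
    gpp := by rw [Descent.inner_push_push hc (P.invariant m3) (P.invariant m3), gpp]
    gpf := fun j => by rw [Descent.inner_push_push hc (P.invariant m3) (P.invariant (m1 j)), gpf]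
    gps := by rw [Descent.inner_push_push hc (P.invariant m3) (P.invariant m2), gps]
    one1 := fun j => by rw [hone (m1 j), P.inner_one.1]
    one2 := by rw [hone m2, P.inner_one.2.1]
    one3 := by rw [hone m3, P.inner_one.2.2]
    at1 := fun j => by rw [Descent.push_at hc (P.invariant (m1 j)) ht', P.at_invH.1]
    at2 := by rw [Descent.push_at hc (P.invariant m2) ht', P.at_invH.2.1]
    at3 := by rw [Descent.push_at hc (P.invariant m3) ht', P.at_invH.2.2]
    pair1 := fun j => ?_, pair2 := ?_, pair3 := ?_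
    vec := hvec }⟩
  · rw [Descent.pairs_push hc (P.invariant (m1 j))]
    exact (congrArg conj (P.pairSums.1 j)).trans (map_intCast _ _)
  · rw [Descent.pairs_push hc (P.invariant m2)]
    exact (congrArg conj P.pairSums.2.1).trans (map_zero _)
  · rw [Descent.pairs_push hc (P.invariant m3)]
    exact (congrArg conj P.pairSums.2.2).trans (map_intCast _ _)

include hc in
/-- The functions only meet the principal block of `G`. -/
theorem mem_principal {M : Ideal Cfsg.AlgInt} (hM : Cfsg.IsPModular 2 M) (ht : orderOf t = 2)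
    (hπt : (π P.invH : G) = t) {f : H → ℂ} (hf : P.IsFun f) {χ : Cfsg.IrrCharacter G}
    (hχ : H84.SD.coeff (Descent.push hc f) χ ≠ 0) : χ ∈ Cfsg.principalBlock M G :=
  mem_principal_of_coeff_ne_zero hM ht
    (Descent.special_push hc (P.invariant hf) hπt fun _ hg => P.special hf hg)
    (Descent.perp_push hc (P.invariant hf) fun ψ hψ => P.perp hM hf ψ hψ) hχ

end Log

end Cfsg.Agent.H3.SDOrder.Wr
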