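import Cfsg.Agent.H3.SDOrder.GLTwoPower
import Cfsg.Agent.H84.WR.Log

/-!
# The parameters trivial on odd order of a table with `Q ≡ 3 (mod 4)`

Two on `A`; on `B` the moved ones form orbits indexed by `OrbitIdx a`, `2 ^ a` the two-part of `Q + 1`.
-/

set_option autoImplicit false
set_option linter.unusedSectionVars false
set_option linter.style.haveILetI false

namespace Cfsg.Agent.H3.SDOrder.SDTable

open Cfsg.Agent.H84.WR Cfsg.Agent.H36.TwoTori

universe v

variable {H A B : Type v} [Group H] [Fintype H] [CommGroup A] [Fintype A] [CommGroup B] [Fintype B]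
  {Q : ℤ}

/-- The parameters and their properties. -/
structure Par (D : Table H A B Q) where
  a : ℕ
  two_le : 2 ≤ a
  e : A
  he : orderOf e = 2
  ν : A →* ℂˣ
  ν_odd : OddTriv ν
  ν_e : (ν e : ℂ) = -1
  ν_pm : ∀ x, (ν x : ℂ) = 1 ∨ (ν x : ℂ) = -1
  cases_A : ∀ α : A →* ℂˣ, OddTriv α → α = 1 ∨ α = ν
  n : ℕ
  odd_n : Odd n
  card_A : Nat.card A = 2 * n
  θ : OrbitIdx a → B →* ℂˣ
  θ_odd : ∀ j, OddTriv (θ j)
  θ_moved : ∀ j, ∃ y, θ j (y ^ Q) ≠ θ j y
  θ_e : ∀ j, (θ j (D.incl e) : ℂ) = sgnOrbit j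
  θ_inj : ∀ i j, θ i = θ j → i = j
  θ_cross : ∀ i j, (∀ y, θ i y = θ j (y ^ Q)) → i = j
  θ_all : ∀ φ : B →* ℂˣ, OddTriv φ → (∃ y, φ (y ^ Q) ≠ φ y) →
    ∃ j, φ = θ j ∨ ∀ y, φ (y ^ Q) = θ j y

theorem exists_par (D : Table H A B Q) (hQ : Q % 4 = 3) : Nonempty (Par D) := by
  classical
  have hσ := D.σ_pm
  have h3 := D.three_le
  obtain ⟨a, o, ho, hao⟩ := Nat.exists_eq_two_pow_mul_odd (n := (Q + 1).natAbs)
    (by rcases hσ with h | h <;> rw [h] at h3 <;> omega)
  have ha : 2 ≤ a := by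
    by_contra h
    obtain ⟨r, rfl⟩ := ho
    rcases (show a = 0 ∨ a = 1 by omega) with rfl | rfl <;> omega
  set n : ℕ := (Q - 1).natAbs / 2 with hndef
  have hn : Odd n := by rw [Nat.odd_iff]; omega
  have hcA : Nat.card A = 2 ^ 1 * n := by
    have := D.cardA
    rcases hσ with h | h <;> rw [h] at this <;> omega
  have hcB : Nat.card B = 2 ^ (a + 1) * (n * o) := by
    have h := congrArg Int.natAbs D.cardB
    rw [Int.natAbs_natCast, show Q ^ 2 - 1 = (Q - 1) * (Q + 1) by ring, Int.natAbs_mul, hao,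
      show (Q - 1).natAbs = 2 * n by omega] at h
    rw [h, pow_succ]
    ring
  obtain ⟨LA⟩ := exists_twoLog D.cyclicA hn hcA
  obtain ⟨LB⟩ := exists_twoLog D.cyclicB (hn.mul ho) hcB
  haveI : Fact (Nat.Prime 2) := ⟨Nat.prime_two⟩
  obtain ⟨e, he⟩ := exists_prime_orderOf_dvd_card' (G := A) 2 ⟨n, by rw [hcA, pow_one]⟩
  have hnodd : ¬ Odd (orderOf e) := by rw [he]; decide
  have hle : LA.l e = half 1 := by
    refine (eq_half le_rfl ?_).resolve_left fun h => hnodd ((LA.ker e).1 h)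
    rw [← LA.map_mul, ← pow_two, orderOf_dvd_iff_pow_eq_one.1 (dvd_of_eq he), LA.map_one]
  have hhalf : (half 1 : ZMod (2 ^ 1)) = 1 := by simp [half]
  have hee : ee (1 : ZMod (2 ^ 1)) = -1 := by
    have h2 : ee (1 : ZMod (2 ^ 1)) * ee (1 : ZMod (2 ^ 1)) = 1 := by
      rw [← ee_add, ← hhalf, half_add le_rfl, ee_zero]
    refine (mul_self_eq_one_iff.1 h2).resolve_left fun h => ?_
    exact half_ne_zero (m := 1) le_rfl (hhalf.trans (TwoLog.ee_injective (h.trans ee_zero.symm)))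
  have hcases : ∀ x : ZMod (2 ^ 1), x = 0 ∨ x = 1 := by
    intro x
    have := eq_half (m := 1) le_rfl (x := x) (by
      rw [← two_mul, show (2 : ZMod (2 ^ 1)) = 0 from ZMod.natCast_self 2, zero_mul])
    rwa [hhalf] at this
  -- the cyclic torus
  set A' : ℕ := 2 ^ (a - 1) with hA'
  have hA2 : 2 ≤ A' := by
    simpa using Nat.pow_le_pow_right (show 1 ≤ 2 by norm_num) (show 1 ≤ a - 1 by omega)
  have hN : 2 ^ (a + 1) = 4 * A' := by
    rw [hA', show a + 1 = a - 1 + 2 by omega, pow_add]; ring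
  have heq : ∀ i j : ℤ, LB.chr (i : ZMod (2 ^ (a + 1))) = LB.chr (j : ZMod (2 ^ (a + 1))) ↔
      (4 * (A' : ℤ)) ∣ i - j := by
    intro i j
    rw [LB.chr_injective.eq_iff, eq_comm, ZMod.intCast_eq_intCast_iff_dvd_sub, hN]
    push_cast; rfl
  obtain ⟨u, hu, hQu⟩ : ∃ u : ℤ, Odd u ∧ Q = -1 + 2 * (A' : ℤ) * u := by
    have h2a : (2 : ℤ) * (A' : ℤ) = 2 ^ a := by
      rw [hA']; push_cast; rw [← pow_succ', Nat.sub_add_cancel (by omega : 1 ≤ a)]
    rcases Int.natAbs_eq (Q + 1) with h | h <;> rw [hao] at h <;> push_cast at h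
    · exact ⟨o, by exact_mod_cast ho, by rw [h2a]; linarith⟩
    · exact ⟨-o, (show Odd (o : ℤ) by exact_mod_cast ho).neg, by rw [h2a]; linarith⟩
  have hfrob : ∀ (i : ℤ) y, LB.chr (i : ZMod (2 ^ (a + 1))) (y ^ Q) =
      LB.chr ((2 * A' * i - i : ℤ) : ZMod (2 ^ (a + 1))) y := by
    intro i y
    have h1 : LB.chr ((Q * i : ℤ) : ZMod (2 ^ (a + 1))) = LB.chr ((2 * A' * i - i : ℤ) : ZMod _) := by
      rw [heq]
      obtain ⟨r, hr⟩ := hu
      exact ⟨i * r, by rw [hQu, hr]; ring⟩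
    rw [← h1]
    refine Units.ext ?_
    rw [TwoLog.chr_apply, TwoLog.chr_apply, LB.map_zpow, zsmul_eq_mul, Int.cast_mul]
    congr 1
    ring
  have hsmall : ∀ x : ℤ, 4 * (A' : ℤ) ∣ x → -(4 * (A' : ℤ)) < x → x < 4 * (A' : ℤ) → x = 0 :=
    fun x hx h1 h2 => Int.eq_zero_of_abs_lt_dvd hx (abs_lt.2 ⟨by omega, by omega⟩)
  obtain ⟨A'', hA''⟩ : Even (A' : ℤ) :=
    (Int.even_coe_nat _).2 ((Nat.even_pow' (by omega)).2 even_two)
  have hpair : ∀ i j : OrbitIdx a, ¬ 4 * (A' : ℤ) ∣ 2 * A' * expo i - expo i - expo j := by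
    rintro (i | i) (j | j) h <;> simp only [expo, Sum.elim_inl, Sum.elim_inr] at h <;>
      have hi := i.isLt <;> have hj := j.isLt
    · obtain ⟨c, hc⟩ := (Dvd.intro (A' : ℤ) rfl : (4 : ℤ) ∣ 4 * A').trans h
      rw [show 2 * (A' : ℤ) * (4 * i.val + 1) = 8 * ((A' : ℤ) * i.val) + 2 * A' by ring] at hc
      omega
    · obtain ⟨c, hc⟩ := (Dvd.intro (A' : ℤ) rfl : (4 : ℤ) ∣ 4 * A').trans h
      rw [show 2 * (A' : ℤ) * (4 * i.val + 1) = 8 * ((A' : ℤ) * i.val) + 2 * A' by ring] at hc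
      omega
    · obtain ⟨c, hc⟩ := (Dvd.intro (A' : ℤ) rfl : (4 : ℤ) ∣ 4 * A').trans h
      rw [show 2 * (A' : ℤ) * (2 * ((i.val : ℤ) + 1)) = 4 * ((A' : ℤ) * (i.val + 1)) by ring] at hc
      omega
    · have h' : 4 * (A' : ℤ) ∣ -(2 * ((i.val : ℤ) + 1)) - 2 * ((j.val : ℤ) + 1) := by
        obtain ⟨c, hc⟩ := h
        exact ⟨c - ((i.val : ℤ) + 1), by linear_combination hc⟩
      have := hsmall _ h' (by omega) (by omega)
      omega
  have hlB : LB.l (D.incl e) = half (a + 1) := by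
    refine (eq_half (by omega) ?_).resolve_left fun h => hnodd ?_
    · rw [← LB.map_mul, ← map_mul, ← pow_two, orderOf_dvd_iff_pow_eq_one.1 (dvd_of_eq he), map_one, LB.map_one]
    · rw [← orderOf_injective D.incl D.incl_injective]; exact (LB.ker _).1 h
  refine ⟨{
    a := a, two_le := ha, e := e, he := he, ν := LA.chr 1, ν_odd := LA.chr_oddTriv 1
    ν_e := by rw [TwoLog.chr_apply, hle, hhalf, mul_one, hee]
    ν_pm := fun x => by
      rw [TwoLog.chr_apply, one_mul]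
      rcases hcases (LA.l x) with h | h <;> rw [h]
      · exact Or.inl ee_zero
      · exact Or.inr hee
    cases_A := fun α hα => by
      obtain ⟨k, rfl⟩ := LA.exists_chr hα
      rcases hcases k with rfl | rfl
      · exact Or.inl LA.chr_zero
      · exact Or.inr rfl
    n := n, odd_n := hn, card_A := by rw [hcA, pow_one]
    θ := fun j => LB.chr (expo j : ZMod (2 ^ (a + 1)))
    θ_odd := fun j => LB.chr_oddTriv _
    θ_moved := fun j => ?_
    θ_e := fun j => ?_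
    θ_inj := fun i j h => ?_
    θ_cross := fun i j h => ?_
    θ_all := fun φ hφ hmv => ?_ }⟩
  · by_contra hne
    push Not at hne
    refine hpair j j ?_
    exact (heq _ _).1 (MonoidHom.ext fun y => by rw [← hfrob, hne])
  · rw [TwoLog.chr_apply, hlB]
    have hh : (half (a + 1) : ZMod (2 ^ (a + 1))) = ((2 * A' : ℤ) : ZMod (2 ^ (a + 1))) := by
      rw [half, Nat.add_sub_cancel, show 2 ^ a = 2 * A' by
        rw [hA', ← pow_succ', Nat.sub_add_cancel (by omega : 1 ≤ a)]]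
      push_cast; rfl
    have hz : (half (a + 1) : ZMod (2 ^ (a + 1))) * 2 = 0 := by
      rw [mul_two, half_add (by omega)]
    have hhalf' : ee (half (a + 1) : ZMod (2 ^ (a + 1))) = -1 := by
      refine (mul_self_eq_one_iff.1 ?_).resolve_left fun h =>
        half_ne_zero (m := a + 1) (by omega) (TwoLog.ee_injective (h.trans ee_zero.symm))
      rw [← ee_add, half_add (by omega), ee_zero]
    rcases j with i | i <;> simp only [expo, sgnOrbit, Sum.elim_inl, Sum.elim_inr] <;> push_cast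
    · rw [show (4 * (i.val : ZMod (2 ^ (a + 1))) + 1) * half (a + 1) =
        2 * i.val * (half (a + 1) * 2) + half (a + 1) by ring, hz, mul_zero, zero_add, hhalf']
    · rw [show (2 * ((i.val : ZMod (2 ^ (a + 1))) + 1)) * half (a + 1) =
        (i.val + 1) * (half (a + 1) * 2) by ring, hz, mul_zero, ee_zero]
  · have h' := (heq _ _).1 h
    rcases i with i | i <;> rcases j with j | j <;>
      simp only [expo, Sum.elim_inl, Sum.elim_inr] at h' <;>
      have hi := i.isLt <;> have hj := j.isLt <;>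
      have := hsmall _ h' (by omega) (by omega)
    · exact congrArg Sum.inl (Fin.ext (by omega))
    · omega
    · omega
    · exact congrArg Sum.inr (Fin.ext (by omega))
  · refine absurd ((heq _ _).1 (MonoidHom.ext fun y => ?_)) (hpair j i)
    rw [← hfrob]; exact (h y).symm
  · obtain ⟨k', rfl⟩ := LB.exists_chr hφ
    obtain ⟨k, hk, rfl⟩ : ∃ k : ℕ, k < 4 * A' ∧ ((k : ℤ) : ZMod (2 ^ (a + 1))) = k' :=
      ⟨k'.val, hN ▸ ZMod.val_lt k', by rw [Int.cast_natCast, ZMod.natCast_zmod_val]⟩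
    have hnot : ¬ 4 * (A' : ℤ) ∣ 2 * A' * k - k - k := fun hd => by
      obtain ⟨y, hy⟩ := hmv
      exact hy (by rw [hfrob, (heq _ _).2 hd])
    have hout : ∀ j : OrbitIdx a, 4 * (A' : ℤ) ∣ 2 * A' * k - k - expo j →
        ∀ y, LB.chr ((k : ℤ) : ZMod (2 ^ (a + 1))) (y ^ Q) = LB.chr (expo j : ZMod _) y :=
      fun j hd y => by rw [hfrob, (heq _ _).2 hd]
    rcases Nat.mod_two_eq_zero_or_one k with h0 | h0
    · obtain ⟨i, rfl⟩ : ∃ i, k = 2 * i := ⟨k / 2, by omega⟩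
      push_cast at hnot hout ⊢
      rcases lt_trichotomy i A' with hi | hi | hi
      · rcases Nat.eq_zero_or_pos i with rfl | hi0
        · exact absurd (by simp) hnot
        · refine ⟨Sum.inr ⟨i - 1, by omega⟩, Or.inl ?_⟩
          congr 1
          simp only [expo, Sum.elim_inr]
          rw [Nat.cast_sub (by omega)]
          push_cast; ring
      · exact absurd ⟨(i : ℤ) - 1, by subst hi; ring⟩ hnot
      · refine ⟨Sum.inr ⟨2 * A' - i - 1, by omega⟩, Or.inr (hout _ ⟨(i : ℤ) - 1, ?_⟩)⟩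
        simp only [expo, Sum.elim_inr]
        rw [show ((2 * A' - i - 1 : ℕ) : ℤ) = 2 * A' - i - 1 by omega]
        ring
    · obtain ⟨i, rfl⟩ : ∃ i, k = 2 * i + 1 := ⟨k / 2, by omega⟩
      rcases Nat.even_or_odd i with ⟨r, rfl⟩ | ⟨r, rfl⟩
      · refine ⟨Sum.inl ⟨r, by omega⟩, Or.inl ?_⟩
        congr 1
        simp only [expo, Sum.elim_inl]
        push_cast; ring
      · by_cases hlt : 4 * r + 3 < 2 * A'
        · refine ⟨Sum.inl ⟨(2 * A' - (4 * r + 3)) / 4, by omega⟩, Or.inr (hout _ ⟨2 * r + 1, ?_⟩)⟩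
          simp only [expo, Sum.elim_inl]
          rw [show (4 : ℤ) * (((2 * A' - (4 * r + 3)) / 4 : ℕ) : ℤ) =
              2 * A' - (4 * r + 3) - 1 by omega]
          push_cast; ring
        · refine ⟨Sum.inl ⟨(6 * A' - (4 * r + 3)) / 4, by omega⟩, Or.inr (hout _ ⟨2 * r, ?_⟩)⟩
          simp only [expo, Sum.elim_inl]
          rw [show (4 : ℤ) * (((6 * A' - (4 * r + 3)) / 4 : ℕ) : ℤ) =
              6 * A' - (4 * r + 3) - 1 by omega]
          push_cast; ring

end Cfsg.Agent.H3.SDOrder.SDTable
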