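import Cfsg.Agent.H3.SDOrder.SDData
import Cfsg.Agent.H3.SDOrder.TableSDPar
import Cfsg.Agent.H3.SDOrder.TableInvol
import Cfsg.Agent.H84.WR.TableInner

/-!
# The semidihedral data on a table of two tori, `Q ≡ 3 (mod 4)`

`a₁ = 1 + st ν - ps (1, ν)`, `a₂ = ν + st 1 - ps (1, ν)`, `a₃ j = 1 + ν + cu (θ j) - ps (1, ν)`.
-/

set_option autoImplicit false
set_option linter.unusedSectionVars false
set_option linter.style.haveILetI false

namespace Cfsg.Agent.H3.SDOrder.SDTable

open Finset Subgroup Cfsg.Agent.CharBasic Cfsg.Agent.H36.TwoTori Cfsg.Agent.H3.SDOrder.Descent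
open scoped ComplexConjugate

universe u v

variable {H A B : Type v} [Group H] [Fintype H] [CommGroup A] [Fintype A] [CommGroup B] [Fintype B]
  {Q : ℤ}

namespace Par

variable {D : Table H A B Q} (P : Par D)

theorem ν_ne : (1 : A →* ℂˣ) ≠ P.ν := fun h => by
  have := P.ν_e
  rw [← h] at this
  norm_num at this

theorem ν_of_odd {x : A} (h : Odd (orderOf x)) : (P.ν x : ℂ) = 1 := by
  rw [P.ν_odd x h]; rfl

theorem θ_of_odd (j : OrbitIdx P.a) {y : B} (h : Odd (orderOf y)) : (P.θ j y : ℂ) = 1 := by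
  rw [P.θ_odd j y h]; rfl

/-- Where `ν` is `-1` the odd part of the exponent gives the involution. -/
theorem pow_n {x : A} (h : (P.ν x : ℂ) = -1) : x ^ P.n = P.e := by
  refine Invol.eq_e D P.he ?_ fun h1 => ?_
  · rw [← pow_add, ← two_mul, ← P.card_A, pow_card_eq_one']
  · rw [P.ν_of_odd (P.odd_n.of_dvd_nat (orderOf_dvd_of_pow_eq_one h1))] at h
    norm_num at h

theorem inner_cu_θ [DecidableEq (OrbitIdx P.a)] (i j : OrbitIdx P.a) :
    Cfsg.classInner (D.cu (P.θ i)) (D.cu (P.θ j)) = if i = j then 1 else 0 := by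
  classical
  rw [D.inner_cu _ _ (P.θ_moved i) (P.θ_moved j)]
  by_cases h : i = j
  · rw [h, if_pos rfl, if_pos rfl]
  · rw [if_neg h, if_neg fun e => h ?_]
    rcases D.cu_eq e with e' | e'
    · exact P.θ_inj i j e'
    · exact P.θ_cross i j e'

end Par

/-- The order of the group. -/
theorem card_table (D : Table H A B Q) : (Nat.card H : ℤ) = (Q + 1) * Q * (Q - 1) ^ 2 := by
  classical
  have h := D.sum_eq (fun _ => 1) (fun _ _ => rfl)
  have hA : (Fintype.card A : ℂ) = (D.σ : ℂ) * ((Q : ℂ) - 1) := by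
    rw [← Nat.card_eq_fintype_card]; exact_mod_cast D.cardA
  have hB : (Fintype.card B : ℂ) = (Q : ℂ) ^ 2 - 1 := by
    rw [← Nat.card_eq_fintype_card]; exact_mod_cast D.cardB
  have hp : (∑ p : A × A, if p.1 = p.2 then (0 : ℂ) else 1) =
      (Fintype.card A : ℂ) * ((Fintype.card A : ℂ) - 1) := by
    rw [Fintype.sum_prod_type, Finset.sum_congr rfl fun a _ => show
      (∑ b : A, if a = b then (0 : ℂ) else 1) = (Fintype.card A : ℂ) - 1 from by
        rw [Finset.sum_congr rfl fun b _ => show (if a = b then (0 : ℂ) else 1) =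
          1 - if a = b then 1 else 0 from by split_ifs <;> ring, Finset.sum_sub_distrib,
          Finset.sum_ite_eq, if_pos (Finset.mem_univ _), Finset.sum_const, Finset.card_univ,
          nsmul_eq_mul, mul_one]]
    rw [Finset.sum_const, Finset.card_univ, nsmul_eq_mul]
  have hy : (∑ y : B, if y ∈ D.incl.range then (0 : ℂ) else 1) =
      (Fintype.card B : ℂ) - (Fintype.card A : ℂ) := by
    rw [Finset.sum_congr rfl fun y _ => show (if y ∈ D.incl.range then (0 : ℂ) else 1) =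
      1 - if y ∈ D.incl.range then 1 else 0 from by split_ifs <;> ring, Finset.sum_sub_distrib,
      Finset.sum_boole, Finset.sum_const, Finset.card_univ, nsmul_eq_mul, mul_one,
      ← Fintype.card_subtype, ← Nat.card_eq_fintype_card (α := {y // y ∈ D.incl.range}),
      ← Nat.card_eq_fintype_card (α := A),
      ← Nat.card_congr (MonoidHom.ofInjective D.incl_injective).toEquiv]
  simp only [Finset.sum_const, Finset.card_univ, nsmul_eq_mul, mul_one, hp, hy, hA, hB,
    ← Nat.card_eq_fintype_card (α := H)] at h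
  have hσ := D.sigma_sq
  have : ((Nat.card H : ℤ) : ℂ) = (((Q + 1) * Q * (Q - 1) ^ 2 : ℤ) : ℂ) := by
    push_cast
    linear_combination h + (Q : ℂ) * ((Q : ℂ) + 1) / 2 * ((Q : ℂ) - 1) ^ 2 * hσ
  exact_mod_cast this

theorem card_center_table (D : Table H A B Q) :
    (Nat.card (center H) : ℤ) ∣ (Q - 1) ^ 2 := by
  set δ : A →* H := D.T.comp ((MonoidHom.id A).prod (MonoidHom.id A))
  have hle : center H ≤ δ.range := fun x hx => D.center_le x hx
  have h1 : Nat.card (center H) ∣ Nat.card A := by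
    refine (Subgroup.card_dvd_of_le hle).trans (dvd_of_eq ?_)
    exact (Nat.card_congr (MonoidHom.ofInjective (f := δ) fun x y h =>
      congrArg Prod.fst (D.T_injective h)).toEquiv).symm
  refine (Int.natCast_dvd_natCast.2 h1).trans (dvd_trans ?_ (dvd_pow_self _ two_ne_zero))
  rw [D.cardA]
  rcases D.σ_pm with e | e <;> rw [e]
  · rw [one_mul]
  · rw [neg_one_mul, neg_dvd]

theorem isGen_of_signed {σ : ℤ} (hσ : σ = 1 ∨ σ = -1) {g : H → ℂ}
    (h : Cfsg.IsIrrCharacter H ((σ : ℂ) • g)) : Cfsg.IsGeneralizedCharacter H g := by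
  have := CharInduce.IsGen.zsmul (CharInduce.IsGen.of_char (IsIrr.isCharacter h)) σ
  rw [← Int.cast_smul_eq_zsmul ℂ, smul_smul] at this
  rcases hσ with e | e <;> rw [e] at this <;> simpa using this

/-- The data exist. -/
theorem exists_data (D : Table H A B Q) (hQ : Q % 4 = 3) :
    ∃ (a : ℕ) (e : A), 2 ≤ a ∧ orderOf e = 2 ∧
      Nonempty (Data H (D.T (e, e)) (OrbitIdx a) Q) := by
  classical
  obtain ⟨P⟩ := exists_par D hQ
  refine ⟨P.a, P.e, P.two_le, P.he, ?_⟩
  set A₁ : H → ℂ := D.lin 1 + D.st P.ν - D.ps 1 P.ν with hA₁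
  set A₂ : H → ℂ := D.lin P.ν + D.st 1 - D.ps 1 P.ν with hA₂
  set A₃ : OrbitIdx P.a → H → ℂ := fun j => D.lin 1 + D.lin P.ν + D.cu (P.θ j) - D.ps 1 P.ν with hA₃
  have hν := P.ν_ne
  have h1odd : OddTriv (1 : A →* ℂˣ) := fun _ _ => rfl
  have glin : ∀ α, Cfsg.IsGeneralizedCharacter H (D.lin α) := fun α =>
    CharInduce.IsGen.of_char (IsIrr.isCharacter (D.irr_lin α))
  have gst : ∀ α, Cfsg.IsGeneralizedCharacter H (D.st α) := fun α =>
    isGen_of_signed D.σ_pm (D.irr_st α)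
  have gps : Cfsg.IsGeneralizedCharacter H (D.ps 1 P.ν) := isGen_of_signed D.σ_pm (D.irr_ps _ _ hν)
  have gcu : ∀ j, Cfsg.IsGeneralizedCharacter H (D.cu (P.θ j)) := fun j =>
    isGen_of_signed D.σ_pm (D.irr_cu _ (P.θ_moved j))
  have hgen : ∀ f, (f = A₁ ∨ f = A₂ ∨ ∃ j, f = A₃ j) → Cfsg.IsGeneralizedCharacter H f := by
    rintro f (rfl | rfl | ⟨j, rfl⟩)
    · exact CharInduce.IsGen.sub (CharInduce.IsGen.add (glin _) (gst _)) gps
    · exact CharInduce.IsGen.sub (CharInduce.IsGen.add (glin _) (gst _)) gps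
    · exact CharInduce.IsGen.sub
        (CharInduce.IsGen.add (CharInduce.IsGen.add (glin _) (glin _)) (gcu _)) gps
  -- vanishing
  have hodd' : Odd Q.natAbs := Int.natAbs_odd.2 D.odd_Q
  have hcop : (Nat.card A).Coprime Q.natAbs := by
    have hcop : IsCoprime ((Nat.card A : ℤ)) Q := by
      rcases D.σ_pm with e | e
      · exact ⟨-1, 1, by rw [D.cardA, e]; ring⟩
      · exact ⟨1, 1, by rw [D.cardA, e]; ring⟩
    simpa [Int.isCoprime_iff_gcd_eq_one, Int.gcd, Nat.Coprime] using hcop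
  have hdiag : ∀ a : A, ¬ Odd (orderOf a) → D.T (P.e, P.e) ∈ zpowers (D.T (a, a)) := fun a ha => by
    obtain ⟨k, hk⟩ := mem_zpowers_iff.1 (Invol.mem_zpowers_of_even D P.he ha)
    exact ⟨k, show D.T (a, a) ^ k = _ by rw [← map_zpow, Prod.pow_mk, hk]⟩
  have hspecial : ∀ f, (f = A₁ ∨ f = A₂ ∨ ∃ j, f = A₃ j) → ∀ g, f g ≠ 0 →
      D.T (P.e, P.e) ∈ zpowers g := by
    intro f hf g hg
    have hcf := CharInduce.IsGen.isClassFunction (hgen f hf)
    have hconj : ∀ {x : H}, IsConj x g → (f x ≠ 0 → D.T (P.e, P.e) ∈ zpowers x) →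
        D.T (P.e, P.e) ∈ zpowers g := by
      intro x hx h
      obtain ⟨w, rfl⟩ := isConj_iff.1 hx
      rw [hcf x w] at hg
      obtain ⟨k, hk⟩ := mem_zpowers_iff.1 (h hg)
      exact ⟨k, show (w * x * w⁻¹) ^ k = _ by
        rw [conj_zpow, hk, mem_center_iff.1 (D.T_center P.e) w, mul_inv_cancel_right]⟩
    rcases D.classes g with ⟨a, rfl⟩ | ⟨a, hc⟩ | ⟨a, b, hab, hc⟩ | ⟨y, hy, hc⟩
    · by_contra hn
      have ha : Odd (orderOf a) := by by_contra ha; exact hn (hdiag a ha)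
      have hai : Odd (orderOf (D.incl a)) := by rwa [orderOf_injective D.incl D.incl_injective]
      apply hg
      rcases hf with rfl | rfl | ⟨j, rfl⟩ <;>
        simp [hA₁, hA₂, hA₃, D.lin_centre, D.st_centre, D.ps_centre, D.cu_centre, P.ν_of_odd ha,
          P.θ_of_odd _ hai] <;> ring
    · refine hconj hc fun hx => ?_
      by_contra hn
      have ha : Odd (orderOf a) := by
        by_contra ha
        have hpow : (D.T (a, a) * D.uni) ^ Q.natAbs = D.T (a ^ Q.natAbs, a ^ Q.natAbs) := by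
          rw [(show Commute (D.T (a, a)) D.uni from
            (mem_center_iff.1 (D.T_center a) D.uni).symm).mul_pow, D.uni_pow, mul_one,
            ← map_pow, Prod.pow_mk]
        refine hn (zpowers_le.2 (npow_mem_zpowers _ Q.natAbs) (hpow ▸ hdiag _ fun h => ha ?_))
        rwa [Nat.Coprime.orderOf_pow ((hcop.coprime_dvd_left (orderOf_dvd_natCard a)))] at h
      have hai : Odd (orderOf (D.incl a)) := by rwa [orderOf_injective D.incl D.incl_injective]
      apply hx
      rcases hf with rfl | rfl | ⟨j, rfl⟩ <;>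
        simp [hA₁, hA₂, hA₃, D.lin_uni, D.st_uni, D.ps_uni, D.cu_uni, P.ν_of_odd ha,
          P.θ_of_odd _ hai]
    · refine hconj hc fun hx => ?_
      rcases P.ν_pm a with ea | ea <;> rcases P.ν_pm b with eb | eb
      iterate 3
        exfalso
        apply hx
        rcases hf with rfl | rfl | ⟨j, rfl⟩ <;>
          simp [hA₁, hA₂, hA₃, D.lin_T _ _ _ hab, D.st_T _ _ _ hab, D.ps_T _ _ _ _ hab,
            D.cu_T _ _ _ hab, ea, eb]
      exact ⟨(P.n : ℤ), show D.T (a, b) ^ ((P.n : ℕ) : ℤ) = _ by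
        rw [zpow_natCast, ← map_pow, Prod.pow_mk, P.pow_n ea, P.pow_n eb]⟩
    · refine hconj hc fun hx => ?_
      by_contra hn
      have hyo : Odd (orderOf y) := by
        by_contra h
        obtain ⟨k, hk⟩ := mem_zpowers_iff.1 (Invol.incl_mem_zpowers D P.he h)
        exact hn ⟨k, show D.S y ^ k = D.T (P.e, P.e) by rw [← map_zpow, hk, D.S_incl]⟩
      have hn0 := P.ν_of_odd (hyo.of_dvd_nat (orderOf_map_dvd D.norm y))
      have hyQ : Odd (orderOf (y ^ Q)) := hyo.of_dvd_nat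
        (orderOf_dvd_of_pow_eq_one (by
          rw [← zpow_natCast, ← zpow_mul, mul_comm, zpow_mul, zpow_natCast, pow_orderOf_eq_one,
            one_zpow]))
      apply hx
      rcases hf with rfl | rfl | ⟨j, rfl⟩ <;>
        simp [hA₁, hA₂, hA₃, D.lin_S _ _ hy, D.st_S _ _ hy, D.ps_S _ _ _ hy, D.cu_S _ _ hy, hn0,
          P.θ_of_odd _ hyo, P.θ_of_odd _ hyQ]
  have hperp : ∀ M : Ideal Cfsg.AlgInt, Cfsg.IsPModular 2 M → ∀ f,
      (f = A₁ ∨ f = A₂ ∨ ∃ j, f = A₃ j) → ∀ ψ : Cfsg.IrrCharacter H,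
      ψ ∉ Cfsg.principalBlock M H → Cfsg.classInner f (ψ : H → ℂ) = 0 := by
    intro M hM f hf ψ hψ
    rw [D.block M hM] at hψ
    simp only [not_or, not_exists, not_and] at hψ
    obtain ⟨n1, n2, n3, n4⟩ := hψ
    have hs : ∀ g : H → ℂ, Cfsg.IsIrrCharacter H ((D.σ : ℂ) • g) →
        (ψ : H → ℂ) ≠ (D.σ : ℂ) • g → Cfsg.classInner g (ψ : H → ℂ) = 0 := fun g hg hne => by
      have h := classInner_irr_of_ne hg ψ.2 fun e => hne e.symm
      rw [classInner_smul_left] at h
      exact (mul_eq_zero.1 h).resolve_left D.sigma_ne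
    have l : ∀ α, OddTriv α → Cfsg.classInner (D.lin α) (ψ : H → ℂ) = 0 := fun α hα =>
      classInner_irr_of_ne (D.irr_lin α) ψ.2 fun e => n1 α hα e.symm
    have s := fun α (hα : OddTriv α) => hs _ (D.irr_st α) (n2 α hα)
    have p := hs _ (D.irr_ps _ _ hν) (n3 1 P.ν h1odd P.ν_odd hν)
    have c := fun j => hs _ (D.irr_cu _ (P.θ_moved j)) (n4 _ (P.θ_odd j) (P.θ_moved j))
    rcases hf with rfl | rfl | ⟨j, rfl⟩ <;>
      simp [hA₁, hA₂, hA₃, classInner_add_left, classInner_sub_left, l _ h1odd, l P.ν P.ν_odd,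
        s _ h1odd, s P.ν P.ν_odd, p, c]
  -- inner products
  have cL := fun (α α' : A →* ℂˣ) =>
    (classInner_conj_symm (D.lin α) (D.st α')).symm.trans (by rw [D.inner_lin_st, map_zero])
  have hone : (fun _ : H => (1 : ℂ)) = D.lin 1 := by
    funext x
    have hc := IsIrr.isClassFunction (D.irr_lin 1)
    rcases D.classes x with ⟨a, rfl⟩ | ⟨a, h⟩ | ⟨a, b, hab, h⟩ | ⟨y, hy, h⟩
    · simp [D.lin_centre]
    all_goals
      obtain ⟨g, rfl⟩ := isConj_iff.1 h
      rw [hc _ g]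
    · simp [D.lin_uni]
    · simp [D.lin_T _ _ _ hab]
    · simp [D.lin_S _ _ hy]
  have sym : ∀ f g : H → ℂ, Cfsg.classInner f g = 0 → Cfsg.classInner g f = 0 := fun f g h => by
    rw [← classInner_conj_symm f g, h, map_zero]
  have iLL : ∀ α α' : A →* ℂˣ, Cfsg.classInner (D.lin α) (D.lin α') =
      if α = α' then 1 else 0 := fun α α' => D.inner_lin α α'
  have iLS := fun α α' => D.inner_lin_st α α'
  have iSL := fun α α' => D.inner_st_lin α α'
  have iLP := fun α => D.inner_lin_ps α 1 P.ν hν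
  have iPL := fun α => sym _ _ (iLP α)
  have iLC := fun α j => D.inner_lin_cu α (P.θ j) (P.θ_moved j)
  have iCL := fun α j => sym _ _ (iLC α j)
  have iSS : ∀ α α' : A →* ℂˣ, Cfsg.classInner (D.st α) (D.st α') =
      if α = α' then 1 else 0 := fun α α' => D.inner_st α α'
  have iSP := fun α => D.inner_st_ps α 1 P.ν hν
  have iPS := fun α => sym _ _ (iSP α)
  have iSC := fun α j => D.inner_st_cu α (P.θ j) (P.θ_moved j)
  have iCS := fun α j => sym _ _ (iSC α j)
  have iPC := fun j => D.inner_ps_cu 1 P.ν (P.θ j) hν (P.θ_moved j)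
  have iCP := fun j => sym _ _ (iPC j)
  have iPP : Cfsg.classInner (D.ps 1 P.ν) (D.ps 1 P.ν) = 1 := by rw [D.inner_ps _ _ _ _ hν hν, if_pos rfl]
  have iCC := P.inner_cu_θ
  -- values for the pair sums
  have h1e : (1 : A) ≠ P.e := Ne.symm (Invol.ne_e P.he)
  have h11 : D.T (1, 1) = 1 := map_one D.T
  have hQ0 : (Q : ℂ) ≠ 0 := by
    have h3 := D.three_le
    have : Q ≠ 0 := by rcases D.σ_pm with e | e <;> rw [e] at h3 <;> omega
    exact_mod_cast this
  have hQ1 : (Q : ℂ) + 1 ≠ 0 := by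
    have h3 := D.three_le
    have : Q + 1 ≠ 0 := by rcases D.σ_pm with e | e <;> rw [e] at h3 <;> omega
    exact_mod_cast this
  have hQm : (Q : ℂ) - 1 ≠ 0 := by
    have h3 := D.three_le
    have : Q - 1 ≠ 0 := by rcases D.σ_pm with e | e <;> rw [e] at h3 <;> omega
    exact_mod_cast this
  have hee : P.e * P.e = 1 := Invol.sq_e P.he
  have hνν : (P.ν P.e : ℂ) * P.ν P.e = 1 := by rw [P.ν_e]; norm_num
  set X : (H → ℂ) → ℂ := fun g => ∑ x : H, ∑ y : H, invol x * invol y * g (x * y) with hX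
  have hXs : ∀ g : H → ℂ, Cfsg.IsIrrCharacter H ((D.σ : ℂ) • g) →
      X g = (g (D.T (P.e, P.e)) + (Q : ℂ) * (Q + 1) * g (D.T (1, P.e))) ^ 2 / g 1 := by
    intro g hg
    have h := Invol.sum_invol_irr D P.he ⟨_, hg⟩
    simp only [Pi.smul_apply, smul_eq_mul, mul_left_comm _ (D.σ : ℂ), ← Finset.mul_sum] at h
    have hg1 : g 1 ≠ 0 := fun e => IsIrr.one_ne_zero hg (by simp [e])
    rw [eq_div_iff hg1]
    linear_combination h + ((g (D.T (P.e, P.e)) + (Q : ℂ) * (Q + 1) * g (D.T (1, P.e))) ^ 2 -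
      X g * g 1) * D.sigma_sq
  have hXl : ∀ α, X (D.lin α) =
      (D.lin α (D.T (P.e, P.e)) + (Q : ℂ) * (Q + 1) * D.lin α (D.T (1, P.e))) ^ 2 := fun α => by
    have h := Invol.sum_invol_irr D P.he ⟨_, D.irr_lin α⟩
    simpa [X, D.lin_at_one] using h
  have hXadd : ∀ f g : H → ℂ, X (f + g) = X f + X g := fun f g => by
    simp only [X, Pi.add_apply, mul_add, Finset.sum_add_distrib]
  have hXsub : ∀ f g : H → ℂ, X (f - g) = X f - X g := fun f g => by
    simp only [X, Pi.sub_apply, mul_sub, Finset.sum_sub_distrib]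
  have v1 : X (D.lin 1) = (1 + (Q : ℂ) * (Q + 1)) ^ 2 := by
    rw [hXl, D.lin_centre, D.lin_T _ _ _ h1e]; simp
  have vν : X (D.lin P.ν) = (1 - (Q : ℂ) * (Q + 1)) ^ 2 := by
    rw [hXl, D.lin_centre, D.lin_T _ _ _ h1e, hνν, P.ν_e]; simp; ring
  have w1 : X (D.st 1) = ((Q : ℂ) + (Q : ℂ) * (Q + 1)) ^ 2 / Q := by
    rw [hXs _ (D.irr_st 1), D.st_centre, D.st_T _ _ _ h1e, D.st_at_one]; simp
  have wν : X (D.st P.ν) = ((Q : ℂ) - (Q : ℂ) * (Q + 1)) ^ 2 / Q := by
    rw [hXs _ (D.irr_st _), D.st_centre, D.st_T _ _ _ h1e, D.st_at_one, hνν, P.ν_e]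
    simp [sub_eq_add_neg]
  have wp : X (D.ps 1 P.ν) = (Q : ℂ) + 1 := by
    rw [hXs _ (D.irr_ps _ _ hν), D.ps_centre, D.ps_T _ _ _ _ h1e, D.ps_at_one, div_eq_iff hQ1]
    simp [P.ν_e]; ring
  have wc : ∀ j, X (D.cu (P.θ j)) = (Q : ℂ) - 1 := fun j => by
    rw [hXs _ (D.irr_cu _ (P.θ_moved j)), D.cu_centre, D.cu_T _ _ _ h1e, D.cu_at_one, P.θ_e,
      div_eq_iff hQm]
    have : (sgnOrbit j : ℂ) ^ 2 = 1 := by rcases j with i | i <;> simp [sgnOrbit]
    linear_combination ((Q : ℂ) - 1) ^ 2 * this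
  refine ⟨{
    a₁ := A₁, a₂ := A₂, a₃ := A₃, s := sgnOrbit
    hJ := card_orbitIdx P.two_le
    hs := sum_sgnOrbit P.a
    hs2 := by rintro (i | i) <;> simp [sgnOrbit]
    gen := hgen, special := hspecial, perp := hperp
    g11 := ?g11, g22 := ?g22, g12 := ?g12, g13 := ?g13, g23 := ?g23, g33 := ?g33, g34 := ?g34
    one₁ := ?one₁, one₂ := ?one₂, one₃ := ?one₃, pairs₁ := ?pairs₁, pairs₂ := ?pairs₂
    pairs₃ := ?pairs₃, column := ?column
    card_eq := card_table D, card_center := card_center_table D }⟩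
  case g11 | g22 | g12 | g13 | g23 | g33 | g34 | one₁ | one₂ | one₃ =>
    intros
    simp [hone, hA₁, hA₂, hA₃, classInner_add_left, classInner_sub_left, classInner_add_right,
      classInner_sub_right, iLL, iLS, iSL, iLP, iPL, iLC, iCL, iSS, iSP, iPS, iSC, iCS, iPC, iCP,
      iPP, iCC, hν, hν.symm, *] <;> norm_num
  case pairs₁ =>
    show X A₁ = _
    rw [hA₁, hXsub, hXadd, v1, wν, wp]; field_simp; ring
  case pairs₂ =>
    show X A₂ = _
    rw [hA₂, hXsub, hXadd, vν, w1, wp]; field_simp; ring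
  case pairs₃ =>
    intro j
    show X (A₃ j) = _
    rw [hA₃]
    simp only [hXsub, hXadd, v1, vν, wc, wp]
    ring
  case column =>
    intro M hM ψ hψ
    have hs : ∑ j : OrbitIdx P.a, (sgnOrbit j : ℂ) = -1 := by
      exact_mod_cast sum_sgnOrbit P.a
    have hσc : conj (D.σ : ℂ) = D.σ := map_intCast _ _
    have hs' : ∑ j : OrbitIdx P.a, (D.σ : ℂ) * (sgnOrbit j : ℂ) = -D.σ := by
      rw [← Finset.mul_sum, hs, mul_neg_one]
    rw [D.block M hM] at hψ
    rcases hψ with ⟨α, hα, e⟩ | ⟨α, hα, e⟩ | ⟨α, β, hα, hβ, hne, e⟩ | ⟨φ, hφ, hmv, e⟩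
    all_goals rw [e]
    · rcases P.cases_A α hα with rfl | rfl <;>
        simp [hA₁, hA₂, hA₃, classInner_add_left, classInner_sub_left, iLL, iSL, iPL, iCL, hν,
          hν.symm, D.lin_centre, hs, P.ν_e] <;> ring
    · rcases P.cases_A α hα with rfl | rfl <;>
        simp [hA₁, hA₂, hA₃, classInner_add_left, classInner_sub_left, classInner_smul_right,
          iLS, iSS, iPS, iCS, hν, hν.symm, D.st_centre, hs, P.ν_e, hσc] <;> ring
    · have e2 : D.ps α β = D.ps 1 P.ν := by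
        rcases P.cases_A α hα with rfl | rfl <;> rcases P.cases_A β hβ with rfl | rfl
        · exact absurd rfl hne
        · rfl
        · funext x
          have hc := CharInduce.IsGen.isClassFunction (isGen_of_signed D.σ_pm (D.irr_ps _ _ hne))
          have hc' := CharInduce.IsGen.isClassFunction gps
          rcases D.classes x with ⟨a, rfl⟩ | ⟨a, h⟩ | ⟨a, b, hab, h⟩ | ⟨y, hy, h⟩
          · simp [D.ps_centre]
          all_goals
            obtain ⟨g, rfl⟩ := isConj_iff.1 h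
            rw [hc _ g, hc' _ g]
          · simp [D.ps_uni]
          · simp [D.ps_T _ _ _ _ hab]; ring
          · simp [D.ps_S _ _ _ hy]
        · exact absurd rfl hne
      rw [e2]
      simp [hA₁, hA₂, hA₃, classInner_add_left, classInner_sub_left, classInner_smul_right,
          iLP, iSP, iPP, iCP, D.ps_centre, hs, hs', P.ν_e, hσc, Finset.sum_neg_distrib, mul_comm _ (D.σ : ℂ),
          -Fintype.sum_sum_type]
      ring
    · obtain ⟨k, hk⟩ : ∃ k, D.cu φ = D.cu (P.θ k) := by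
        obtain ⟨k, rfl | hk⟩ := P.θ_all φ hφ hmv
        · exact ⟨k, rfl⟩
        refine ⟨k, funext fun x => ?_⟩
        have hc := CharInduce.IsGen.isClassFunction (isGen_of_signed D.σ_pm (D.irr_cu _ hmv))
        have hc' := CharInduce.IsGen.isClassFunction (gcu k)
        have hi : ∀ a, (φ (D.incl a) : ℂ) = P.θ k (D.incl a) := fun a => by
          rw [← hk, D.frob_incl]
        have hQQ : ∀ y : B, (y ^ Q) ^ Q = y := fun y => by
          have h1 : y ^ ((Nat.card B : ℤ)) = 1 := by rw [zpow_natCast, pow_card_eq_one']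
          rw [D.cardB] at h1
          rw [← zpow_mul, show Q * Q = (Q ^ 2 - 1) + 1 by ring, zpow_add, h1, one_mul, zpow_one]
        rcases D.classes x with ⟨a, rfl⟩ | ⟨a, h⟩ | ⟨a, b, hab, h⟩ | ⟨y, hy, h⟩
        · simp [D.cu_centre, hi]
        all_goals
          obtain ⟨g, rfl⟩ := isConj_iff.1 h
          rw [hc _ g, hc' _ g]
        · simp [D.cu_uni, hi]
        · simp [D.cu_T _ _ _ hab]
        · rw [D.cu_S _ _ hy, D.cu_S _ _ hy, ← hk y, ← hk (y ^ Q), hQQ, add_comm]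
      rw [hk]
      simp [hA₁, hA₂, hA₃, classInner_add_left, classInner_sub_left, classInner_smul_right,
          iLC, iSC, iPC, iCC, D.cu_centre, hσc, P.θ_e, Finset.sum_ite_eq', mul_comm]
      ring

/-- The functions of the semidihedral order formula for a centraliser covered by a table with
`Q ≡ 3 (mod 4)`. -/
theorem exists_funs (D : Table H A B Q) (hQ : Q % 4 = 3) {G : Type u} [Group G] [Fintype G] {t : G}
    [Fintype (centralizer ({t} : Set G))] (ht : orderOf t = 2)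
    (π : H →* centralizer ({t} : Set G)) (hπ : Function.Surjective π) (hK : π.ker ≤ center H)
    (hKodd : Odd (Nat.card π.ker)) (hπt : ∀ e : A, orderOf e = 2 → (π (D.T (e, e)) : G) = t) :
    ∃ (a T : ℕ) (P P₃ : ℚ), 3 ≤ Fintype.card (OrbitIdx a) ∧ T ≠ 0 ∧
      (Nat.card (centralizer ({t} : Set G)) : ℤ) = T * Q * (Q + 1) ∧
      P * ((T : ℚ) ^ 2 * Q) =
        (Nat.card (centralizer ({t} : Set G)) : ℚ) * ((Q : ℚ) + 1) ∧
      P₃ * (T : ℚ) ^ 2 = 2 * (Nat.card (centralizer ({t} : Set G)) : ℚ) ∧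
      Nonempty (H84.SD.Funs t (OrbitIdx a) Q P P₃) := by
  obtain ⟨a, e, ha, he, ⟨d⟩⟩ := exists_data D hQ
  obtain ⟨T, P, P₃, h⟩ := d.exists_funs ht (oddCover_table D hπ hK hKodd) (hπt e he)
  exact ⟨a, T, P, P₃, card_orbitIdx ha, h⟩

end Cfsg.Agent.H3.SDOrder.SDTable
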