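import Cfsg.Agent.H3.SDOrder.TableSD
import Cfsg.Agent.H84.SD.TwoRow

/-!
# The index of an involution centraliser covered by a table with `Q ≡ 3 (mod 4)`
-/

set_option autoImplicit false
set_option linter.unusedSectionVars false
set_option linter.style.haveILetI false

namespace Cfsg.Agent.H3.SDOrder.SDTable

open Subgroup Cfsg.Agent.H36.TwoTori

universe u v

variable {H A B : Type v} [Group H] [Fintype H] [CommGroup A] [Fintype A] [CommGroup B] [Fintype B]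
  {Q : ℤ} (D : Table H A B Q) (hQ : Q % 4 = 3) {G : Type u} [Group G] [Fintype G] [IsSimpleGroup G]
  {t : G} [Fintype (centralizer ({t} : Set G))]

include D hQ in
/-- The two equations for the index, nothing local assumed. -/
theorem index_formula (hG : ¬ IsMulCommutative G) (ht : orderOf t = 2)
    (hinv : ∀ a : centralizer ({t} : Set G), orderOf a = 2 → IsConj t (a : G))
    (π : H →* centralizer ({t} : Set G)) (hπ : Function.Surjective π) (hK : π.ker ≤ center H)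
    (hKodd : Odd (Nat.card π.ker)) (hπt : ∀ e : A, orderOf e = 2 → (π (D.T (e, e)) : G) = t) :
    ∃ E V Y : ℤ, E ≠ 0 ∧ E ≠ -1 ∧ Y ≠ 0 ∧ Y ≠ -1 ∧ E ^ 2 + E * (V + 1) = (Q ^ 2 - 1) * V ∧
      E - (Q ^ 2 - 1) ∣ Q ^ 2 * (Q ^ 2 - 1) ∧
      ((centralizer ({t} : Set G)).index : ℤ) * (E + Q + 1) ^ 2 =
        Q * (Q + 1) ^ 3 * (E * (E + 1)) ∧
      ((centralizer ({t} : Set G)).index : ℤ) * (Y - Q + 1) ^ 2 =
        Q * (Q + 1) ^ 2 * (Q - 1) * (Y * (Y + 1)) := by
  obtain ⟨a, T, P, P₃, hJ, hT, hCT, hP, hP₃, ⟨F⟩⟩ := exists_funs D hQ ht π hπ hK hKodd hπt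
  exact H84.SD.index_formula hG ht hinv hJ F hT
    (fun h => by rw [h] at hQ; norm_num at hQ) hCT hP hP₃

include D hQ in
/-- The values left by the local facts `hm` and `h3`. -/
theorem index_cases (hG : ¬ IsMulCommutative G) (ht : orderOf t = 2)
    (hinv : ∀ a : centralizer ({t} : Set G), orderOf a = 2 → IsConj t (a : G))
    (π : H →* centralizer ({t} : Set G)) (hπ : Function.Surjective π) (hK : π.ker ≤ center H)
    (hKodd : Odd (Nat.card π.ker)) (hπt : ∀ e : A, orderOf e = 2 → (π (D.T (e, e)) : G) = t)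
    {p n : ℕ} [Fact p.Prime] (hp2 : p ≠ 2) (hn : 1 ≤ n) (hQp : Q.natAbs = p ^ n)
    (hodd : Odd (centralizer ({t} : Set G)).index)
    (hm : ∀ r : ℕ, r.Prime → r ≠ 2 → (r : ℤ) ∣ Q + 1 → ¬ r ∣ (centralizer ({t} : Set G)).index)
    (h3 : ∀ d : ℤ, Odd d → d ∣ Q - 1 → d ∣ ((centralizer ({t} : Set G)).index : ℤ) - 3) :
    ((centralizer ({t} : Set G)).index : ℤ) = Q ^ 2 * (Q ^ 2 + Q + 1) ∨
      ((centralizer ({t} : Set G)).index : ℤ) = Q * (Q + 2) * (Q ^ 2 + Q - 1) ∨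
      (Q = -5 ∧ (centralizer ({t} : Set G)).index = 357) := by
  obtain ⟨a, T, P, P₃, hJ, hT, hCT, hP, hP₃, ⟨F⟩⟩ := exists_funs D hQ ht π hπ hK hKodd hπt
  exact H84.SD.centralizer_index_cases hG ht hinv hJ F hT hp2 hn hQp hQ hCT hP hP₃ hodd hm h3

end Cfsg.Agent.H3.SDOrder.SDTable
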